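import Mathlib
import Cfsg.Agent.H510.CS.Irr_m3
import Cfsg.Agent.H91.U.Defs
import Cfsg.Agent.H91.RankThree
import Cfsg.Agent.H50.HerConj_m3
import Cfsg.Agent.H50.HerFam
import Cfsg.Agent.H918.UBase
import Cfsg.Agent.H742.PanU_m3
import Cfsg.Agent.H950.UCount
import Cfsg.Agent.H251.GeoCardC
import Cfsg.Agent.H948.UMain
import Cfsg.Agent.H93.UG.List
import Cfsg.Agent.S2363
import Cfsg.Agent.S0000
import Cfsg.Agent.H934.OutAll
import Cfsg.Agent.S2653
import Cfsg.Agent.S1074
import Cfsg.Agent.H415.SpFlag_m3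
import Cfsg.Agent.FastGrp
import Cfsg.Agent.Prune
set_option linter.all false

section
prune_inst 0x7ff8e9f889b821dfdfff7e7fa698cffc39901fffe6dff943ffe069ff8b9f030209c56b8d09e010fe0e56e01410b87853f97eeeffa26bd87ffffd1ff41ffbec0f9567b508519688340f3c0fff03f0778a6f3fffffffffffffffffffffffffffbeffbdffbffffd

-- part: H449/U/Six
section
prune_inst 0x506007004d8000000018000442000000780000000040000020200000010800408002000000000110000000000000002000100000404000000e000000000000000000000400400008000000000000000000000000000000000000000000000000000000000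
set_option linter.all false
open scoped Cfsg.Agent.FastGrp

-- part: H449/U/Planar
section
/-!
# Groups on a three-dimensional space fixing a point (helper449, for S2196)

`T` is a group of linear automorphisms of the three-dimensional space `M` over `F`, `q = |F|`, fixing the point `p`,
transitive on the lines through `p` and on the lines not through `p`.

* `key` : an invariant group `Λ` of functionals vanishing at `p` satisfies `|Λ| + q = (q + 1) s`, `1 ≤ s ≤ q`;
* `big` : if `Λ ≠ 0` then `q + 2 ≤ |Λ|`;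
* `all_tv` : `T` contains all maps `x ↦ x + μ x • p`, `μ p = 0`.
-/

set_option autoImplicit false
set_option linter.unusedSectionVars false

namespace Cfsg.Agent.H449.U.Planar

open Module

variable {F M : Type*} [Field F] [Fintype F] [AddCommGroup M] [Module F M] [FiniteDimensional F M]

theorem exists_smul_of_ker_le {ν ν' : Dual F M} (hν' : ν' ≠ 0) (h : LinearMap.ker ν' ≤ LinearMap.ker ν) :
    ∃ d : F, ν = d • ν' := by
  obtain ⟨x₀, hx₀⟩ : ∃ x, ν' x ≠ 0 := by
    by_contra hcon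
    push Not at hcon
    exact hν' (LinearMap.ext hcon)
  refine ⟨ν x₀ / ν' x₀, LinearMap.ext fun x => ?_⟩
  have h1 : x - (ν' x / ν' x₀) • x₀ ∈ LinearMap.ker ν' := by
    rw [LinearMap.mem_ker, map_sub, map_smul, smul_eq_mul, div_mul_cancel₀ _ hx₀, sub_self]
  have h2 := LinearMap.mem_ker.1 (h h1)
  rw [map_sub, map_smul, smul_eq_mul, sub_eq_zero] at h2
  rw [LinearMap.smul_apply, smul_eq_mul, h2]
  ring

section

variable (hM : finrank F M = 3) {p : M} (hp : p ≠ 0) {T : Subgroup (M ≃ₗ[F] M)} (hTp : ∀ t ∈ T, ∃ c : F, t p = c • p)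
  (hT2 : ∀ L L' : Submodule F M, finrank F L = 2 → finrank F L' = 2 → p ∈ L → p ∈ L' →
    ∃ t ∈ T, L.map (t : M →ₗ[F] M) = L')

/-- `Λ` is invariant under `T` -/
def InvL (p : M) (T : Subgroup (M ≃ₗ[F] M)) (Λ : AddSubgroup (Dual F M)) : Prop :=
  ∀ t ∈ T, ∀ c : F, t p = c • p → ∀ μ ∈ Λ, c • (μ ∘ₗ (t⁻¹ : M ≃ₗ[F] M).toLinearMap) ∈ Λ

open Classical in
/-- the multiplicity -/
noncomputable def mult (Λ : AddSubgroup (Dual F M)) (ν : Dual F M) : ℕ :=
  ((Finset.univ : Finset F).filter fun a => a • ν ∈ Λ).card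

include hM hp hTp hT2 in
theorem mult_le {Λ : AddSubgroup (Dual F M)} (hinv : InvL p T Λ) {ν ν' : Dual F M} (hν : ν ≠ 0) (hν' : ν' ≠ 0)
    (hνp : ν p = 0) (hνp' : ν' p = 0) : mult Λ ν ≤ mult Λ ν' := by
  classical
  have h1 := Dual.finrank_ker_add_one_of_ne_zero (K := F) hν
  have h2 := Dual.finrank_ker_add_one_of_ne_zero (K := F) hν'
  obtain ⟨t, ht, hL⟩ := hT2 (LinearMap.ker ν) (LinearMap.ker ν') (by omega) (by omega) hνp hνp'
  obtain ⟨c, hc⟩ := hTp t ht
  have hc0 : c ≠ 0 := by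
    rintro rfl
    rw [zero_smul] at hc
    exact hp ((LinearEquiv.map_eq_zero_iff t).1 hc)
  obtain ⟨d, hd⟩ := exists_smul_of_ker_le (ν := ν ∘ₗ (t⁻¹ : M ≃ₗ[F] M).toLinearMap) hν' (by
    intro x hx
    rw [← hL] at hx
    obtain ⟨y, hy, rfl⟩ := hx
    rw [LinearMap.mem_ker, LinearMap.comp_apply]
    have : (t⁻¹ : M ≃ₗ[F] M).toLinearMap ((t : M →ₗ[F] M) y) = y := by
      change t⁻¹ (t y) = y
      rw [← LinearEquiv.mul_apply, inv_mul_cancel]; rfl
    rw [this]
    exact hy)
  have hd0 : d ≠ 0 := by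
    rintro rfl
    rw [zero_smul] at hd
    apply hν
    ext x
    have h3 := congrArg (fun g : Dual F M => g (t x)) hd
    have h4 : (t⁻¹ : M ≃ₗ[F] M).toLinearMap (t x) = x := by
      change t⁻¹ (t x) = x
      rw [← LinearEquiv.mul_apply, inv_mul_cancel]; rfl
    simp only [LinearMap.comp_apply, h4, LinearMap.zero_apply] at h3
    exact h3
  unfold mult
  refine Finset.card_le_card_of_injOn (fun a => c * a * d) ?_ ?_
  · intro a ha
    rw [Finset.mem_coe, Finset.mem_filter] at ha ⊢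
    refine ⟨Finset.mem_univ _, ?_⟩
    have h3 := hinv t ht c hc _ ha.2
    have h4 : c • ((a • ν) ∘ₗ (t⁻¹ : M ≃ₗ[F] M).toLinearMap) = (c * a * d) • ν' := by
      rw [LinearMap.smul_comp, hd, smul_smul, smul_smul, mul_assoc]
    rwa [h4] at h3
  · intro a _ a' _ h
    have h3 : c * a * d = c * a' * d := h
    exact mul_left_cancel₀ hc0 (mul_right_cancel₀ hd0 h3)

include hM hp hTp hT2 in
/-- **the numbers of elements of an invariant group of functionals** -/
theorem key {Λ : AddSubgroup (Dual F M)} (h0 : ∀ μ ∈ Λ, μ p = 0) (hinv : InvL p T Λ) :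
    ∃ s, 1 ≤ s ∧ s ≤ Fintype.card F ∧ Nat.card Λ + Fintype.card F = (Fintype.card F + 1) * s := by
  classical
  have hfin : Finite (Dual F M) := Module.finite_of_finite F
  have : Fintype (Dual F M) := Fintype.ofFinite _
  -- the functionals vanishing at `p`
  let ev : Dual F M →ₗ[F] F := Dual.eval F M p
  have hev : ev ≠ 0 := by
    intro h
    apply hp
    rw [← Module.forall_dual_apply_eq_zero_iff F]
    intro f
    exact congrArg (fun g : Dual F M →ₗ[F] F => g f) h
  have hD : finrank F (LinearMap.ker ev) = 2 := by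
    have h1 := Dual.finrank_ker_add_one_of_ne_zero (K := F) (f := ev) hev
    rw [Subspace.dual_finrank_eq] at h1
    omega
  let D : Finset (Dual F M) := Finset.univ.filter fun ν => ν p = 0 ∧ ν ≠ 0
  have hDcard : D.card + 1 = Fintype.card F ^ 2 := by
    have h1 : Nat.card (LinearMap.ker ev) = Fintype.card F ^ 2 := by
      rw [Module.natCard_eq_pow_finrank (K := F), hD, Nat.card_eq_fintype_card]
    rw [← h1, Nat.card_eq_fintype_card, Fintype.card_subtype]
    have h2 : (Finset.univ.filter fun ν : Dual F M => ν ∈ LinearMap.ker ev) = insert 0 D := by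
      ext ν
      simp only [D, Finset.mem_filter, Finset.mem_univ, true_and, Finset.mem_insert]
      change ν p = 0 ↔ ν = 0 ∨ (ν p = 0 ∧ ν ≠ 0)
      constructor
      · intro h
        by_cases h3 : ν = 0
        · exact Or.inl h3
        · exact Or.inr ⟨h, h3⟩
      · rintro (rfl | h)
        · exact LinearMap.zero_apply p
        · exact h.1
    rw [h2, Finset.card_insert_of_notMem]
    simp only [D, _root_.ne_eq, _root_.Finset.mem_filter, _root_.Finset.mem_univ, _root_.LinearMap.zero_apply, _root_.not_true_eq_false, _root_.and_false, _root_.not_false_eq_true]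
  have hne : D.Nonempty := by
    rw [← Finset.card_pos]
    have : 1 < Fintype.card F := Fintype.one_lt_card
    have : 1 < Fintype.card F ^ 2 := Nat.one_lt_pow (by norm_num) this
    omega
  obtain ⟨ν₀, hν₀⟩ := hne
  have hmult : ∀ ν ∈ D, mult Λ ν = mult Λ ν₀ := by
    intro ν hν
    simp only [D, Finset.mem_filter] at hν hν₀
    exact le_antisymm (mult_le hM hp hTp hT2 hinv hν.2.2 hν₀.2.2 hν.2.1 hν₀.2.1)
      (mult_le hM hp hTp hT2 hinv hν₀.2.2 hν.2.2 hν₀.2.1 hν.2.1)
  -- exchange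
  have h1 : ∑ ν ∈ D, mult Λ ν = ∑ a : F, (D.filter fun ν => a • ν ∈ Λ).card := by
    simp only [mult, Finset.card_filter]
    exact Finset.sum_comm
  rw [Finset.sum_congr rfl hmult, Finset.sum_const, smul_eq_mul] at h1
  have hΛ : Nat.card Λ = (Finset.univ.filter fun μ : Dual F M => μ ∈ Λ).card := by
    rw [Nat.card_eq_fintype_card, Fintype.card_subtype]
  have hΛ' : (Finset.univ.filter fun μ : Dual F M => μ ∈ Λ ∧ μ ≠ 0).card + 1 = Nat.card Λ := by
    rw [hΛ]
    have h2 : (Finset.univ.filter fun μ : Dual F M => μ ∈ Λ) = insert 0 (Finset.univ.filter fun μ : Dual F M => μ ∈ Λ ∧ μ ≠ 0) := by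
      ext ν
      simp only [Finset.mem_filter, Finset.mem_univ, true_and, Finset.mem_insert]
      constructor
      · intro h
        by_cases h3 : ν = 0
        · exact Or.inl h3
        · exact Or.inr ⟨h, h3⟩
      · rintro (rfl | h)
        · exact zero_mem _
        · exact h.1
    rw [h2, Finset.card_insert_of_notMem]
    simp
  have h2 : ∀ a : F, a ≠ 0 → (D.filter fun ν => a • ν ∈ Λ).card =
      (Finset.univ.filter fun μ : Dual F M => μ ∈ Λ ∧ μ ≠ 0).card := by
    intro a ha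
    refine Finset.card_bij (fun ν _ => a • ν) ?_ ?_ ?_
    · intro ν hν
      simp only [D, Finset.mem_filter, Finset.mem_univ, true_and] at hν ⊢
      exact ⟨hν.2, smul_ne_zero ha hν.1.2⟩
    · intro ν _ ν' _ h
      exact smul_right_injective _ ha h
    · intro μ hμ
      simp only [Finset.mem_filter, Finset.mem_univ, true_and] at hμ
      refine ⟨a⁻¹ • μ, ?_, ?_⟩
      · simp only [D, Finset.mem_filter, Finset.mem_univ, true_and]
        refine ⟨⟨?_, smul_ne_zero (inv_ne_zero ha) hμ.2⟩, ?_⟩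
        · rw [LinearMap.smul_apply, h0 μ hμ.1, smul_zero]
        · rw [smul_smul, mul_inv_cancel₀ ha, one_smul]; exact hμ.1
      · rw [smul_smul, mul_inv_cancel₀ ha, one_smul]
  have h3 : (D.filter fun ν => (0 : F) • ν ∈ Λ).card = D.card := by
    congr 1
    rw [Finset.filter_eq_self]
    intro ν _
    rw [zero_smul]
    exact zero_mem _
  rw [← Finset.add_sum_erase _ _ (Finset.mem_univ (0 : F)), h3,
    Finset.sum_congr rfl fun a ha => h2 a (Finset.ne_of_mem_erase ha), Finset.sum_const,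
    Finset.card_erase_of_mem (Finset.mem_univ _), Finset.card_univ, smul_eq_mul] at h1
  set s := mult Λ ν₀ with hs
  set Q := Fintype.card F with hQ
  set L := (Finset.univ.filter fun μ : Dual F M => μ ∈ Λ ∧ μ ≠ 0).card with hL
  have hs1 : 1 ≤ s := by
    rw [hs]
    unfold mult
    rw [Nat.one_le_iff_ne_zero, Finset.card_ne_zero]
    exact ⟨0, by rw [Finset.mem_filter]; exact ⟨Finset.mem_univ _, by rw [zero_smul]; exact zero_mem _⟩⟩
  have hsQ : s ≤ Q := by
    rw [hs, hQ, ← Finset.card_univ]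
    exact Finset.card_filter_le _ _
  refine ⟨s, hs1, hsQ, ?_⟩
  have hQ1 : 1 < Q := Fintype.one_lt_card
  obtain ⟨r, hr⟩ : ∃ r, Q = r + 1 := ⟨Q - 1, by omega⟩
  have hr0 : 0 < r := by omega
  obtain ⟨s', hs'⟩ : ∃ s', s = s' + 1 := ⟨s - 1, by omega⟩
  have hD2 : D.card = r * (r + 2) := by
    have : (r + 1) ^ 2 = r * (r + 2) + 1 := by ring
    rw [hr, this] at hDcard
    omega
  rw [hD2, hr, Nat.add_sub_cancel, hs'] at h1
  have h5 : r * ((r + 2) * s') = r * L := by
    have h6 : r * (r + 2) * (s' + 1) = r * (r + 2) + r * ((r + 2) * s') := by ring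
    omega
  have h6 := Nat.eq_of_mul_eq_mul_left hr0 h5
  rw [← hΛ', hr, hs', ← h6]
  ring

include hM hp hTp hT2 in
theorem big {Λ : AddSubgroup (Dual F M)} (h0 : ∀ μ ∈ Λ, μ p = 0) (hinv : InvL p T Λ) (hne : Λ ≠ ⊥) :
    Fintype.card F + 2 ≤ Nat.card Λ := by
  have hfin : Finite (Dual F M) := Module.finite_of_finite F
  obtain ⟨s, h1, h2, h3⟩ := key hM hp hTp hT2 h0 hinv
  have h4 : Nat.card Λ ≠ 1 := fun h => hne (AddSubgroup.card_eq_one.1 h)
  have h5 : 2 ≤ s := by
    by_contra hcon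
    have : s = 1 := by omega
    rw [this] at h3
    omega
  have h6 : (Fintype.card F + 1) * 2 ≤ (Fintype.card F + 1) * s := Nat.mul_le_mul_left _ h5
  omega

/-! ### the group of transvections with centre `p` -/

/-- the functionals of the transvections with centre `p` in `T` -/
def tvL (p : M) (T : Subgroup (M ≃ₗ[F] M)) : AddSubgroup (Dual F M) where
  carrier := {μ | μ p = 0 ∧ ∃ t ∈ T, ∀ x, t x = x + μ x • p}
  zero_mem' := ⟨LinearMap.zero_apply p, 1, one_mem T, fun x => by rw [LinearMap.zero_apply, zero_smul, add_zero]; rfl⟩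
  add_mem' := by
    rintro μ ν ⟨h1, t, ht, h2⟩ ⟨h3, t', ht', h4⟩
    refine ⟨by rw [LinearMap.add_apply, h1, h3, add_zero], t * t', mul_mem ht ht', fun x => ?_⟩
    rw [LinearEquiv.mul_apply, h4, map_add, map_smul, h2, h2, h1, zero_smul, add_zero, LinearMap.add_apply, add_smul]
    abel
  neg_mem' := by
    rintro μ ⟨h1, t, ht, h2⟩
    refine ⟨by rw [LinearMap.neg_apply, h1, neg_zero], t⁻¹, inv_mem ht, fun x => ?_⟩
    have h3 : t (x + (-μ) x • p) = x := by
      rw [map_add, map_smul, h2, h2 p, h1, zero_smul, add_zero, LinearMap.neg_apply, neg_smul]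
      abel
    have h4 : t⁻¹ (t (x + (-μ) x • p)) = x + (-μ) x • p := by
      rw [← LinearEquiv.mul_apply, inv_mul_cancel]; rfl
    rw [← h4, h3]

theorem inv_tvL {p : M} {T : Subgroup (M ≃ₗ[F] M)} : InvL p T (tvL p T) := by
  rintro t ht c hc μ ⟨h1, g, hg, h2⟩
  have hti : ∀ x, t (t⁻¹ x) = x := fun x => by rw [← LinearEquiv.mul_apply, mul_inv_cancel]; rfl
  have hit : ∀ x, t⁻¹ (t x) = x := fun x => by rw [← LinearEquiv.mul_apply, inv_mul_cancel]; rfl
  refine ⟨?_, t * g * t⁻¹, mul_mem (mul_mem ht hg) (inv_mem ht), fun x => ?_⟩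
  · rw [LinearMap.smul_apply, smul_eq_mul]
    have h3 : c • (t⁻¹ p) = p := by
      rw [← map_smul, ← hc, hit]
    change c * μ (t⁻¹ p) = 0
    rw [← smul_eq_mul, ← map_smul, h3, h1]
  · rw [LinearEquiv.mul_apply, LinearEquiv.mul_apply, h2, map_add, map_smul, hti, hc, LinearMap.smul_apply, smul_smul,
      smul_eq_mul, mul_comm c]
    rfl

variable (hT1 : ∀ L L' : Submodule F M, finrank F L = 2 → finrank F L' = 2 → p ∉ L → p ∉ L' →
    ∃ t ∈ T, L.map (t : M →ₗ[F] M) = L')

/-- the functionals with value one at `p` -/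
def Nu (F : Type*) {M : Type*} [Field F] [AddCommGroup M] [Module F M] (p : M) : Type _ := {ν : Dual F M // ν p = 1}

include hp hTp in
theorem nu_ne {t : M ≃ₗ[F] M} (ht : t ∈ T) (ν : Nu F p) : ν.1 (t p) ≠ 0 := by
  obtain ⟨c, hc⟩ := hTp t ht
  have hc0 : c ≠ 0 := by
    rintro rfl
    rw [zero_smul] at hc
    exact hp ((LinearEquiv.map_eq_zero_iff t).1 hc)
  rw [hc, map_smul, ν.2, smul_eq_mul, mul_one]
  exact hc0

/-- the action on the functionals with value one at `p` -/
@[instance_reducible]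
def actNu (hp : p ≠ 0) (hTp : ∀ t ∈ T, ∃ c : F, t p = c • p) : MulAction T (Nu F p) where
  smul t ν := ⟨(ν.1 ((t⁻¹ : T).1 p))⁻¹ • (ν.1 ∘ₗ ((t⁻¹ : T).1 : M ≃ₗ[F] M).toLinearMap), by
    rw [LinearMap.smul_apply, smul_eq_mul]
    exact inv_mul_cancel₀ (nu_ne hp hTp (t⁻¹ : T).2 ν)⟩
  one_smul ν := Subtype.ext (by
    ext x
    change (ν.1 ((1⁻¹ : T).1 p))⁻¹ • (ν.1 ((1⁻¹ : T).1 x)) = ν.1 x
    rw [inv_one]
    change (ν.1 p)⁻¹ • (ν.1 x) = ν.1 x
    rw [ν.2, inv_one, one_smul])
  mul_smul t t' ν := Subtype.ext (by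
    ext x
    have h1 : ∀ y, ((t * t')⁻¹ : T).1 y = (t'⁻¹ : T).1 ((t⁻¹ : T).1 y) := fun y => by
      rw [mul_inv_rev]; rfl
    change (ν.1 (((t * t')⁻¹ : T).1 p))⁻¹ • (ν.1 (((t * t')⁻¹ : T).1 x)) =
      ((ν.1 ((t'⁻¹ : T).1 p))⁻¹ • ν.1 ((t'⁻¹ : T).1 ((t⁻¹ : T).1 p)))⁻¹ •
        ((ν.1 ((t'⁻¹ : T).1 p))⁻¹ • ν.1 ((t'⁻¹ : T).1 ((t⁻¹ : T).1 x)))
    rw [h1, h1]
    have h2 := nu_ne hp hTp (t'⁻¹ : T).2 ν
    simp only [smul_eq_mul, mul_inv, inv_inv]
    field_simp)

include hM hT1 in
theorem sq_dvd (hp : p ≠ 0) (hTp : ∀ t ∈ T, ∃ c : F, t p = c • p) : Fintype.card F ^ 2 ∣ Nat.card T := by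
  classical
  have hfin : Finite (Dual F M) := Module.finite_of_finite F
  have hfinM : Finite M := Module.finite_of_finite F
  have : Finite (M ≃ₗ[F] M) := Finite.of_injective (fun t => (t : M → M)) DFunLike.coe_injective
  have : Finite (Nu F p) := Subtype.finite
  -- the number of functionals
  let ev : Dual F M →ₗ[F] F := Dual.eval F M p
  have hev : ev ≠ 0 := by
    intro h
    apply hp
    rw [← Module.forall_dual_apply_eq_zero_iff F]
    intro f
    exact congrArg (fun g : Dual F M →ₗ[F] F => g f) h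
  have hD : finrank F (LinearMap.ker ev) = 2 := by
    have h1 := Dual.finrank_ker_add_one_of_ne_zero (K := F) (f := ev) hev
    rw [Subspace.dual_finrank_eq] at h1
    omega
  obtain ⟨ν₀, hν₀⟩ : ∃ ν : Dual F M, ν p = 1 := by
    obtain ⟨ν, hν⟩ : ∃ ν : Dual F M, ν p ≠ 0 := by
      by_contra hcon
      push Not at hcon
      exact hev (LinearMap.ext hcon)
    exact ⟨(ν p)⁻¹ • ν, by rw [LinearMap.smul_apply, smul_eq_mul, inv_mul_cancel₀ hν]⟩
  have hcard : Nat.card (Nu F p) = Fintype.card F ^ 2 := by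
    have h1 : Nat.card (LinearMap.ker ev) = Fintype.card F ^ 2 := by
      rw [Module.natCard_eq_pow_finrank (K := F), hD, Nat.card_eq_fintype_card]
    rw [← h1]
    refine Nat.card_congr ⟨fun ν => ⟨ν.1 - ν₀, ?_⟩, fun μ => ⟨μ.1 + ν₀, ?_⟩, ?_, ?_⟩
    · change (ν.1 - ν₀) p = 0
      rw [LinearMap.sub_apply, ν.2, hν₀, sub_self]
    · have h2 : μ.1 p = 0 := μ.2
      rw [LinearMap.add_apply, h2, hν₀, zero_add]
    · intro ν
      exact Subtype.ext (sub_add_cancel _ _)
    · intro μ
      exact Subtype.ext (add_sub_cancel_right _ _)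
  let n₀ : Nu F p := ⟨ν₀, hν₀⟩
  let act : MulAction T (Nu F p) := actNu (T := T) hp hTp
  have htr : MulAction.orbit T n₀ = Set.univ := by
    rw [Set.eq_univ_iff_forall]
    intro ν
    have hne : ∀ ν : Nu F p, ν.1 ≠ 0 := by
      intro ν h
      have := ν.2
      rw [h, LinearMap.zero_apply] at this
      exact zero_ne_one this
    have h1 : finrank F (LinearMap.ker ν₀) + 1 = finrank F M := Dual.finrank_ker_add_one_of_ne_zero (K := F) (hne n₀)
    have h2 : finrank F (LinearMap.ker ν.1) + 1 = finrank F M := Dual.finrank_ker_add_one_of_ne_zero (K := F) (hne ν)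
    have hnot : ∀ ν : Nu F p, p ∉ LinearMap.ker ν.1 := by
      intro ν h
      rw [LinearMap.mem_ker, ν.2] at h
      exact one_ne_zero h
    obtain ⟨t, ht, hL⟩ := hT1 (LinearMap.ker ν₀) (LinearMap.ker ν.1) (by omega) (by omega) (hnot ⟨ν₀, hν₀⟩) (hnot ν)
    refine ⟨⟨t, ht⟩, Subtype.ext ?_⟩
    obtain ⟨d, hd⟩ := exists_smul_of_ker_le (ν := ν₀ ∘ₗ (t⁻¹ : M ≃ₗ[F] M).toLinearMap) (hne ν) (by
      intro x hx
      rw [← hL] at hx
      obtain ⟨y, hy, rfl⟩ := hx
      rw [LinearMap.mem_ker, LinearMap.comp_apply]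
      have : (t⁻¹ : M ≃ₗ[F] M).toLinearMap ((t : M →ₗ[F] M) y) = y := by
        change t⁻¹ (t y) = y
        rw [← LinearEquiv.mul_apply, inv_mul_cancel]; rfl
      rw [this]
      exact hy)
    change (ν₀ (t⁻¹ p))⁻¹ • (ν₀ ∘ₗ (t⁻¹ : M ≃ₗ[F] M).toLinearMap) = ν.1
    have h3 : ν₀ (t⁻¹ p) = d := by
      have h4 := congrArg (fun g : Dual F M => g p) hd
      simp only [LinearMap.comp_apply, LinearMap.smul_apply, ν.2, smul_eq_mul, mul_one] at h4
      exact h4
    have h5 := nu_ne hp hTp (inv_mem ht) ⟨ν₀, hν₀⟩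
    have h6 : ν₀ (t⁻¹ p) ≠ 0 := h5
    rw [h3] at h6 ⊢
    rw [hd, smul_smul, inv_mul_cancel₀ h6, one_smul]
  have : Fintype T := Fintype.ofFinite _
  have : Fintype (MulAction.orbit T n₀) := Fintype.ofFinite _
  have : Fintype (MulAction.stabilizer T n₀) := Fintype.ofFinite _
  have h1 := MulAction.card_orbit_mul_card_stabilizer_eq_card_group T n₀
  rw [Nat.card_eq_fintype_card (α := T), ← h1]
  refine Dvd.intro _ (congrArg (· * _) ?_)
  rw [← hcard, ← Nat.card_eq_fintype_card, Nat.card_congr (Equiv.setCongr htr)]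
  exact (Nat.card_congr (Equiv.Set.univ _)).symm

include hTp in
theorem le_comap {t : M ≃ₗ[F] M} (ht : t ∈ T) :
    Submodule.span F {p} ≤ (Submodule.span F {p}).comap (t : M →ₗ[F] M) := by
  rw [Submodule.span_singleton_le_iff_mem, Submodule.mem_comap]
  obtain ⟨c, hc⟩ := hTp t ht
  exact Submodule.mem_span_singleton.2 ⟨c, hc.symm⟩

/-- the action on the quotient -/
def homQ (hTp : ∀ t ∈ T, ∃ c : F, t p = c • p) : T →* Module.End F (M ⧸ Submodule.span F {p}) where
  toFun t := (Submodule.span F {p}).mapQ (Submodule.span F {p}) (t.1 : M →ₗ[F] M) (le_comap hTp t.2)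
  map_one' := by
    ext x
    rfl
  map_mul' t t' := by
    ext x
    rfl

/-- the action on `p` -/
def homP (ν : Nu F p) (hTp : ∀ t ∈ T, ∃ c : F, t p = c • p) : T →* F where
  toFun t := ν.1 (t.1 p)
  map_one' := ν.2
  map_mul' t t' := by
    obtain ⟨c, hc⟩ := hTp t'.1 t'.2
    change ν.1 (t.1 (t'.1 p)) = ν.1 (t.1 p) * ν.1 (t'.1 p)
    rw [hc, map_smul, map_smul, map_smul, ν.2, smul_eq_mul, smul_eq_mul, mul_one, mul_comm]

theorem card_units_end {W : Type*} [AddCommGroup W] [Module F W] [FiniteDimensional F W] (hW : finrank F W = 2) :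
    Nat.card (Module.End F W)ˣ = (Fintype.card F ^ 2 - 1) * (Fintype.card F ^ 2 - Fintype.card F) := by
  classical
  let b := Module.finBasisOfFinrankEq F W hW
  rw [Nat.card_congr (Units.mapEquiv (LinearMap.toMatrixAlgEquiv b).toMulEquiv).toEquiv]
  have h1 := Matrix.card_GL_field (𝔽 := F) 2
  rw [Fin.prod_univ_two] at h1
  rw [show Nat.card (Matrix (Fin 2) (Fin 2) F)ˣ = Nat.card (GL (Fin 2) F) from rfl, h1]
  simp only [_root_.Fin.isValue, _root_.Fin.coe_ofNat_eq_mod, _root_.Nat.zero_mod, _root_.pow_zero, _root_.Nat.mod_succ, _root_.pow_one]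

include hM in
theorem card_dvd (hp : p ≠ 0) (hTp : ∀ t ∈ T, ∃ c : F, t p = c • p) (ν : Nu F p) :
    Nat.card T ∣ Nat.card (tvL p T) *
      ((Fintype.card F ^ 2 - 1) * (Fintype.card F ^ 2 - Fintype.card F) * (Fintype.card F - 1)) := by
  classical
  have hfinM : Finite M := Module.finite_of_finite F
  have : Finite (M ≃ₗ[F] M) := Finite.of_injective (fun t => (t : M → M)) DFunLike.coe_injective
  let Φ : T →* (Module.End F (M ⧸ Submodule.span F {p}))ˣ × Fˣ :=
    (homQ hTp).toHomUnits.prod (homP ν hTp).toHomUnits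
  have h1 : Nat.card Φ.ker * Nat.card Φ.range = Nat.card T := by
    rw [← Subgroup.index_ker, Subgroup.card_mul_index]
  have h2 : Nat.card Φ.range ∣
      ((Fintype.card F ^ 2 - 1) * (Fintype.card F ^ 2 - Fintype.card F) * (Fintype.card F - 1)) := by
    have h3 := Subgroup.card_subgroup_dvd_card Φ.range
    have hq := Submodule.finrank_quotient_add_finrank (Submodule.span F {p})
    rw [finrank_span_singleton hp, hM] at hq
    rwa [Nat.card_prod, card_units_end (by omega), Nat.card_eq_fintype_card (α := Fˣ), Fintype.card_units] at h3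
  have hker : ∀ t : Φ.ker, ∀ x, t.1.1 x = x + ν.1 (t.1.1 x - x) • p := by
    intro t x
    have h3 : Φ t.1 = 1 := t.2
    have h4 : (homQ hTp).toHomUnits t.1 = 1 := congrArg Prod.fst h3
    have h5 : homQ hTp t.1 = 1 := congrArg Units.val h4
    have h6 : (Submodule.Quotient.mk (t.1.1 x) : M ⧸ Submodule.span F {p}) = Submodule.Quotient.mk x :=
      congrArg (fun f : Module.End F (M ⧸ Submodule.span F {p}) => f (Submodule.Quotient.mk x)) h5
    rw [Submodule.Quotient.eq] at h6
    obtain ⟨c, hc⟩ := Submodule.mem_span_singleton.1 h6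
    rw [← hc, map_smul, ν.2, smul_eq_mul, mul_one, hc]
    abel
  have hkerp : ∀ t : Φ.ker, t.1.1 p = p := by
    intro t
    have h3 : Φ t.1 = 1 := t.2
    have h4 : (homP ν hTp).toHomUnits t.1 = 1 := congrArg Prod.snd h3
    have h5 : ν.1 (t.1.1 p) = 1 := congrArg Units.val h4
    have h6 := hker t p
    rw [map_sub, h5, ν.2, sub_self, zero_smul, add_zero] at h6
    exact h6
  have h3 : Nat.card Φ.ker = Nat.card (tvL p T) := by
    refine Nat.card_congr (Equiv.ofBijective (fun t => ⟨ν.1 ∘ₗ ((t.1.1 : M →ₗ[F] M) - LinearMap.id), ?_, t.1.1, t.1.2,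
      hker t⟩) ⟨?_, ?_⟩)
    · change ν.1 (t.1.1 p - p) = 0
      rw [hkerp, sub_self, map_zero]
    · intro t t' h
      apply Subtype.ext
      apply Subtype.ext
      ext x
      have h4 := congrArg (fun f : tvL p T => f.1 x) h
      change ν.1 (t.1.1 x - x) = ν.1 (t'.1.1 x - x) at h4
      rw [hker t x, hker t' x, h4]
    · rintro ⟨μ, h0, t, ht, h4⟩
      have h5 : Φ ⟨t, ht⟩ = 1 := by
        refine Prod.ext (Units.ext ?_) (Units.ext ?_)
        · change homQ hTp ⟨t, ht⟩ = 1
          ext x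
          change (Submodule.Quotient.mk (t x) : M ⧸ Submodule.span F {p}) = Submodule.Quotient.mk x
          rw [Submodule.Quotient.eq, h4, add_sub_cancel_left]
          exact Submodule.smul_mem _ _ (Submodule.mem_span_singleton_self p)
        · change ν.1 (t p) = 1
          rw [h4, h0, zero_smul, add_zero, ν.2]
      refine ⟨⟨⟨t, ht⟩, h5⟩, Subtype.ext ?_⟩
      ext x
      change ν.1 (t x - x) = μ x
      rw [h4, add_sub_cancel_left, map_smul, ν.2, smul_eq_mul, mul_one]
  rw [← h1, h3]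
  exact Nat.mul_dvd_mul_left _ h2

include hM hp hTp hT1 hT2 in
/-- **`T` contains all the transvections with centre `p`.** -/
theorem all_tv (μ : Dual F M) (hμ : μ p = 0) : ∃ t ∈ T, ∀ x, t x = x + μ x • p := by
  classical
  have hfin : Finite (Dual F M) := Module.finite_of_finite F
  have : Fintype (Dual F M) := Fintype.ofFinite _
  obtain ⟨s, hs1, hsQ, hs⟩ := key hM hp hTp hT2 (Λ := tvL p T) (fun μ hμ => hμ.1) inv_tvL
  let ev : Dual F M →ₗ[F] F := Dual.eval F M p
  have hev : ev ≠ 0 := by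
    intro h
    apply hp
    rw [← Module.forall_dual_apply_eq_zero_iff F]
    intro f
    exact congrArg (fun g : Dual F M →ₗ[F] F => g f) h
  have hD : finrank F (LinearMap.ker ev) = 2 := by
    have h1 := Dual.finrank_ker_add_one_of_ne_zero (K := F) (f := ev) hev
    rw [Subspace.dual_finrank_eq] at h1
    omega
  obtain ⟨ν₀, hν₀⟩ : ∃ ν : Dual F M, ν p = 1 := by
    obtain ⟨ν, hν⟩ : ∃ ν : Dual F M, ν p ≠ 0 := by
      by_contra hcon
      push Not at hcon
      exact hev (LinearMap.ext hcon)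
    exact ⟨(ν p)⁻¹ • ν, by rw [LinearMap.smul_apply, smul_eq_mul, inv_mul_cancel₀ hν]⟩
  have h1 := (sq_dvd hM hT1 hp hTp).trans (card_dvd hM hp hTp ⟨ν₀, hν₀⟩)
  set Q := Fintype.card F with hQ
  have hQ1 : 1 < Q := Fintype.one_lt_card
  obtain ⟨r, hr⟩ : ∃ r, Q = r + 1 := ⟨Q - 1, by omega⟩
  have h2 : Q ∣ Nat.card (tvL p T) := by
    have h3 : Q ^ 2 - 1 = (Q + 1) * (Q - 1) := by
      rw [hr, Nat.add_sub_cancel]
      have : (r + 1) ^ 2 = (r + 1 + 1) * r + 1 := by ring
      omega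
    have h4 : Q ^ 2 - Q = Q * (Q - 1) := by
      rw [hr, Nat.add_sub_cancel]
      have : (r + 1) ^ 2 = (r + 1) * r + (r + 1) := by ring
      omega
    rw [h3, h4] at h1
    have h5 : Nat.card (tvL p T) * ((Q + 1) * (Q - 1) * (Q * (Q - 1)) * (Q - 1)) =
        Q * (Nat.card (tvL p T) * ((Q + 1) * (Q - 1) * (Q - 1) * (Q - 1))) := by ring
    rw [h5, pow_two] at h1
    have h6 := Nat.dvd_of_mul_dvd_mul_left (by omega) h1
    have hc1 : Nat.Coprime Q (Q + 1) := by rw [Nat.coprime_self_add_right]; exact Nat.coprime_one_right _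
    have hc2 : Nat.Coprime Q (Q - 1) := by
      rw [hr, Nat.add_sub_cancel]
      exact (Nat.coprime_self_add_left (m := r) (n := 1)).2 (Nat.coprime_one_left _)
    exact (((hc1.mul_right hc2).mul_right hc2).mul_right hc2).dvd_of_dvd_mul_right h6
  have h3 : Q ∣ s := by
    have h4 : Q ∣ (Q + 1) * s := by
      rw [← hs]
      exact dvd_add h2 dvd_rfl
    have hc1 : Nat.Coprime Q (Q + 1) := by rw [Nat.coprime_self_add_right]; exact Nat.coprime_one_right _
    exact hc1.dvd_of_dvd_mul_left h4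
  have h4 : s = Q := le_antisymm hsQ (Nat.le_of_dvd (by omega) h3)
  have h5 : Nat.card (tvL p T) = Q ^ 2 := by
    rw [h4] at hs
    have : (Q + 1) * Q = Q ^ 2 + Q := by ring
    omega
  -- comparison with all functionals
  have h6 : ∀ μ ∈ tvL p T, μ ∈ (LinearMap.ker ev).toAddSubgroup := fun μ hμ => hμ.1
  have h7 : tvL p T = (LinearMap.ker ev).toAddSubgroup := by
    refine AddSubgroup.eq_of_le_of_card_ge h6 ?_
    rw [h5]
    have h8 : Nat.card (LinearMap.ker ev).toAddSubgroup = Nat.card (LinearMap.ker ev) := rfl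
    rw [h8, Module.natCard_eq_pow_finrank (K := F), hD, Nat.card_eq_fintype_card]
  have h8 : μ ∈ tvL p T := by
    rw [h7]
    exact hμ
  exact h8.2

end

end Cfsg.Agent.H449.U.Planar
end

-- part: H449/U/CW
section
/-!
# Isotropic vectors in additive subgroups (helper449, for S2196)

* `card_fix` : the fixed field of `σ` has at most `√|F|` elements; `card_skew` : the same for `{a | σ a = -a}`;
* `exists_iso_of_card` : an additive subgroup of a Hermitian space with more than `|F|` elements contains a non zero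
  isotropic vector (Chevalley-Warning).
-/

set_option autoImplicit false
set_option linter.unusedSectionVars false

namespace Cfsg.Agent.H449.U

open Module Cfsg.Agent.H91.U
open Cfsg.Agent.H450.UF (self_fix)

variable {F V : Type*} [Field F] [AddCommGroup V] [Module F V] {σ : F →+* F} {B : V →ₛₗ[σ] V →ₗ[F] F}

theorem exists_moved (hne : σ ≠ RingHom.id F) : ∃ a : F, σ a ≠ a := by
  by_contra hcon
  push Not at hcon
  exact hne (RingHom.ext hcon)

theorem card_fix [Finite F] (hne : σ ≠ RingHom.id F) : Nat.card {a : F // σ a = a} ^ 2 ≤ Nat.card F := by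
  obtain ⟨a, ha⟩ := exists_moved hne
  rw [pow_two, ← Nat.card_prod]
  refine Nat.card_le_card_of_injective (fun x : {a : F // σ a = a} × {a : F // σ a = a} => x.1.1 + x.2.1 * a) ?_
  rintro ⟨x, y⟩ ⟨x', y'⟩ h
  have h1 : x.1 + y.1 * a = x'.1 + y'.1 * a := h
  have h2 := congrArg σ h1
  rw [map_add, map_add, map_mul, map_mul, x.2, x'.2, y.2, y'.2] at h2
  have h3 : (y.1 - y'.1) * (σ a - a) = 0 := by linear_combination h2 - h1
  have h4 : y = y' := Subtype.ext (sub_eq_zero.1 ((mul_eq_zero.1 h3).resolve_right (sub_ne_zero.2 ha)))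
  subst h4
  have h5 : x = x' := Subtype.ext (add_right_cancel h1)
  rw [h5]

theorem card_skew [Finite F] (hne : σ ≠ RingHom.id F) : Nat.card {a : F // a + σ a = 0} ^ 2 ≤ Nat.card F := by
  refine le_trans (Nat.pow_le_pow_left ?_ 2) (card_fix hne)
  by_cases h : ∃ ε : F, ε + σ ε = 0 ∧ ε ≠ 0
  · obtain ⟨ε, h1, h2⟩ := h
    have h1' : σ ε = -ε := by linear_combination h1
    refine Nat.card_le_card_of_injective (fun a : {a : F // a + σ a = 0} => (⟨a.1 / ε, ?_⟩ : {a : F // σ a = a})) ?_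
    · have h3 : σ a.1 = -a.1 := by linear_combination a.2
      rw [map_div₀, h1', h3, neg_div_neg_eq]
    · intro a b h
      have h3 : a.1 / ε = b.1 / ε := congrArg Subtype.val h
      exact Subtype.ext ((div_left_inj' h2).1 h3)
  · push Not at h
    refine Nat.card_le_card_of_injective (fun a : {a : F // a + σ a = 0} => (⟨a.1, ?_⟩ : {a : F // σ a = a})) ?_
    · rw [h a.1 a.2, map_zero]
    · intro a b h
      exact Subtype.ext (congrArg (fun z : {a : F // σ a = a} => z.1) h)

theorem exists_iso_aux [Fintype F] [FiniteDimensional F V] (hB : HForm B) (ℓ : ℕ) [Fact ℓ.Prime] [Module (ZMod ℓ) F]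
    [Module (ZMod ℓ) V] (W : AddSubgroup V) (h : Fintype.card F < Nat.card W) : ∃ w ∈ W, w ≠ 0 ∧ B w w = 0 := by
  classical
  have hp : ℓ.Prime := Fact.out
  have hfin : Finite V := Module.finite_of_finite F
  let W' : Submodule (ZMod ℓ) V := AddSubgroup.toZModSubmodule ℓ W
  have hW' : ∀ v : V, v ∈ W' ↔ v ∈ W := fun v => AddSubgroup.mem_toZModSubmodule ℓ
  have : Module.Finite (ZMod ℓ) V := Module.Finite.of_finite
  have : Module.Finite (ZMod ℓ) F := Module.Finite.of_finite
  obtain ⟨e, he⟩ : ∃ e, finrank (ZMod ℓ) W' = e := ⟨_, rfl⟩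
  let w := Module.finBasisOfFinrankEq (ZMod ℓ) W' he
  have hcW : Nat.card W = ℓ ^ e := by
    have h1 := Module.natCard_eq_pow_finrank (K := ZMod ℓ) (V := W')
    rw [he, Nat.card_zmod] at h1
    exact h1
  -- the fixed field
  let K : Submodule (ZMod ℓ) F :=
    { carrier := {a | σ a = a}
      add_mem' := fun {a b} ha hb => by
        change σ (a + b) = a + b
        rw [map_add, show σ a = a from ha, show σ b = b from hb]
      zero_mem' := map_zero σ
      smul_mem' := fun c a ha => by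
        change σ (c • a) = c • a
        rw [ZMod.map_smul σ, show σ a = a from ha] }
  obtain ⟨r, hr⟩ : ∃ r, finrank (ZMod ℓ) K = r := ⟨_, rfl⟩
  let bK := Module.finBasisOfFinrankEq (ZMod ℓ) K hr
  obtain ⟨pr, hpr⟩ := K.subtype.exists_leftInverse_of_injective (Submodule.ker_subtype K)
  have h2r : 2 * r < e := by
    have h1 := Module.natCard_eq_pow_finrank (K := ZMod ℓ) (V := K)
    rw [hr, Nat.card_zmod] at h1
    have h2 : Nat.card K ^ 2 ≤ Nat.card F := card_fix hB.ne_id
    rw [h1, ← pow_mul] at h2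
    rw [Nat.card_eq_fintype_card] at h2
    have h3 := h2.trans_lt h
    rw [hcW] at h3
    have := (Nat.pow_lt_pow_iff_right hp.one_lt).1 h3
    omega
  -- the polynomials
  let co : Fin r → F →ₗ[ZMod ℓ] ZMod ℓ := fun i => (bK.coord i).comp pr
  let f : Fin r → MvPolynomial (Fin e) (ZMod ℓ) := fun i => ∑ j : Fin e, ∑ k : Fin e,
    MvPolynomial.C (co i (B (w j : V) (w k : V))) * (MvPolynomial.X j * MvPolynomial.X k)
  have hdeg : ∀ i, (f i).totalDegree ≤ 2 := by
    intro i
    refine MvPolynomial.totalDegree_finsetSum_le fun j _ => MvPolynomial.totalDegree_finsetSum_le fun k _ => ?_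
    refine (MvPolynomial.totalDegree_mul _ _).trans ?_
    rw [MvPolynomial.totalDegree_C, zero_add]
    refine (MvPolynomial.totalDegree_mul _ _).trans ?_
    rw [MvPolynomial.totalDegree_X, MvPolynomial.totalDegree_X]
  have hcw := char_dvd_card_solutions_of_fintype_sum_lt (K := ZMod ℓ) (σ := Fin e) (ι := Fin r) ℓ (f := f) (by
    refine (Finset.sum_le_sum fun i _ => hdeg i).trans_lt ?_
    rw [Finset.sum_const, Finset.card_univ, Fintype.card_fin, Fintype.card_fin, smul_eq_mul]
    omega)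
  have hsum : ∀ x : Fin e → ZMod ℓ, B (∑ j, x j • (w j : V)) (∑ k, x k • (w k : V)) =
      ∑ j, ∑ k, (x j * x k) • B (w j : V) (w k : V) := by
    intro x
    rw [show B (∑ j, x j • (w j : V)) = ∑ j, B (x j • (w j : V)) from map_sum B _ _, LinearMap.sum_apply]
    refine Finset.sum_congr rfl fun j _ => ?_
    rw [map_sum]
    refine Finset.sum_congr rfl fun k _ => ?_
    have h1 : B (x j • (w j : V)) (x k • (w k : V)) = x k • B (x j • (w j : V)) (w k : V) :=
      ZMod.map_smul (B (x j • (w j : V))) (x k) (w k : V)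
    have h2 : B (x j • (w j : V)) (w k : V) = x j • B (w j : V) (w k : V) :=
      ZMod.map_smul (B.flip (w k : V)) (x j) (w j : V)
    rw [h1, h2, smul_smul, mul_comm]
  have heval : ∀ (x : Fin e → ZMod ℓ) i, MvPolynomial.eval x (f i) =
      co i (B (∑ j, x j • (w j : V)) (∑ k, x k • (w k : V))) := by
    intro x i
    rw [hsum, map_sum, map_sum]
    refine Finset.sum_congr rfl fun j _ => ?_
    rw [map_sum, map_sum]
    refine Finset.sum_congr rfl fun k _ => ?_
    rw [map_mul, map_mul, MvPolynomial.eval_C, MvPolynomial.eval_X, MvPolynomial.eval_X, map_smul,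
      smul_eq_mul, mul_comm]
  -- a non zero solution
  have h0 : ∀ i, MvPolynomial.eval (0 : Fin e → ZMod ℓ) (f i) = 0 := by
    intro i
    rw [heval]
    simp only [Pi.zero_apply, zero_smul, Finset.sum_const_zero, map_zero]
  have hcard : 1 < Fintype.card {x : Fin e → ZMod ℓ // ∀ i, MvPolynomial.eval x (f i) = 0} := by
    have h1 : 0 < Fintype.card {x : Fin e → ZMod ℓ // ∀ i, MvPolynomial.eval x (f i) = 0} :=
      Fintype.card_pos_iff.2 ⟨⟨0, h0⟩⟩
    exact hp.one_lt.trans_le (Nat.le_of_dvd h1 (by convert hcw))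
  obtain ⟨x, hx⟩ := Fintype.exists_ne_of_one_lt_card hcard ⟨0, h0⟩
  have hx0 : x.1 ≠ 0 := fun h => hx (Subtype.ext h)
  refine ⟨∑ j, x.1 j • (w j : V), ?_, ?_, ?_⟩
  · rw [← hW']
    exact Submodule.sum_mem _ fun j _ => Submodule.smul_mem _ _ (w j).2
  · intro h1
    apply hx0
    have h2 : ∑ j, x.1 j • w j = 0 := by
      apply Subtype.ext
      rw [Submodule.coe_sum]
      exact h1
    exact funext fun j => Fintype.linearIndependent_iff.1 w.linearIndependent x.1 h2 j
  · set v := ∑ j, x.1 j • (w j : V) with hv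
    have h1 : pr (B v v) = 0 := by
      rw [← bK.repr.map_eq_zero_iff]
      ext i
      have h3 := heval x.1 i
      rw [x.2 i, ← hv] at h3
      exact h3.symm
    have h2 : (⟨B v v, self_fix hB v⟩ : K) = pr (B v v) :=
      (congrArg (fun g : K →ₗ[ZMod ℓ] K => g ⟨B v v, self_fix hB v⟩) hpr).symm
    rw [h1] at h2
    exact congrArg Subtype.val h2

/-- **Isotropic vectors in additive subgroups.** -/
theorem exists_iso_of_card [Fintype F] [FiniteDimensional F V] (hB : HForm B) (W : AddSubgroup V)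
    (h : Fintype.card F < Nat.card W) : ∃ w ∈ W, w ≠ 0 ∧ B w w = 0 := by
  obtain ⟨ℓ, hℓ⟩ := CharP.exists F
  have hp : ℓ.Prime := CharP.char_is_prime F ℓ
  have hf : Fact ℓ.Prime := ⟨hp⟩
  have hF0 : ∀ a : F, ℓ • a = 0 := fun a => by rw [nsmul_eq_mul, CharP.cast_eq_zero, zero_mul]
  have hV0 : ∀ v : V, ℓ • v = 0 := fun v => by
    rw [← one_smul F v, ← smul_assoc, hF0, zero_smul]
  exact @exists_iso_aux F V _ _ _ σ B _ _ hB ℓ hf (AddCommGroup.zmodModule hF0) (AddCommGroup.zmodModule hV0) W h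

end Cfsg.Agent.H449.U
end

-- part: H449/U/Cone
section
/-!
# Sets meeting every line in `0` or `b` points (helper449, for S2196)

`S` is a union of points (without `0`) of a finite vector space `M` over `F`, `q = |F|`, such that every line meets `S`
in `0` or `b` points.

* `count` : a subspace `P` meeting `S` has `(q - 1) + (q ^ (dim P - 1) - 1) (b - 1)` vectors in `S`;
* `Cone.dvd` : the number of vectors of a union of points is divisible by `q - 1`.
-/

set_option autoImplicit false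
set_option linter.unusedSectionVars false

namespace Cfsg.Agent.H449.U

open Module

/-- unions of points -/
structure Cone (F : Type*) {M : Type*} [Field F] [AddCommGroup M] [Module F M] (S : Set M) : Prop where
  zero : (0 : M) ∉ S
  smul : ∀ c : F, c ≠ 0 → ∀ v ∈ S, c • v ∈ S

section

variable {F M : Type*} [Field F] [Fintype F] [AddCommGroup M] [Module F M] [Finite M]

theorem Cone.smul_iff {S : Set M} (hS : Cone F S) {c : F} (hc : c ≠ 0) {v : M} : c • v ∈ S ↔ v ∈ S := by
  refine ⟨fun h => ?_, hS.smul c hc v⟩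
  have := hS.smul c⁻¹ (inv_ne_zero hc) _ h
  rwa [smul_smul, inv_mul_cancel₀ hc, one_smul] at this

theorem Cone.ne {S : Set M} (hS : Cone F S) {v : M} (hv : v ∈ S) : v ≠ 0 := fun h => hS.zero (h ▸ hv)

/-- a free action -/
theorem card_dvd_of_free {G X : Type*} [Group G] [Finite G] [Finite X] [MulAction G X]
    (h : ∀ (g : G) (x : X), g • x = x → g = 1) : Nat.card G ∣ Nat.card X := by
  classical
  have : Fintype G := Fintype.ofFinite G
  have : Fintype X := Fintype.ofFinite X
  have : Fintype (MulAction.orbitRel.Quotient G X) := Fintype.ofFinite _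
  have h1 := MulAction.sum_card_fixedBy_eq_card_orbits_mul_card_group G X
  have h2 : ∀ g : G, Fintype.card (MulAction.fixedBy X g) = if g = 1 then Fintype.card X else 0 := by
    intro g
    split_ifs with hg
    · subst hg
      refine Fintype.card_congr (Equiv.subtypeUnivEquiv fun v => ?_)
      exact one_smul G v
    · rw [Fintype.card_eq_zero_iff]
      exact ⟨fun v => hg (h g v.1 v.2)⟩
  simp only [h2, Finset.sum_ite_eq', Finset.mem_univ, if_true] at h1
  rw [Nat.card_eq_fintype_card, Nat.card_eq_fintype_card, h1]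
  exact dvd_mul_left _ _

/-- the number of vectors of a union of points -/
theorem Cone.dvd {S : Set M} (hS : Cone F S) : (Fintype.card F - 1) ∣ S.ncard := by
  classical
  let act : MulAction Fˣ S :=
    { smul := fun c v => ⟨(c : F) • v.1, hS.smul _ c.ne_zero _ v.2⟩
      one_smul := fun v => Subtype.ext (one_smul F v.1)
      mul_smul := fun a b v => Subtype.ext (by
        change ((a * b : Fˣ) : F) • v.1 = (a : F) • (b : F) • v.1
        rw [Units.val_mul, mul_smul]) }
  have h1 := card_dvd_of_free (G := Fˣ) (X := S) (by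
    intro c v h
    have h2 : (c : F) • v.1 = v.1 := congrArg Subtype.val h
    have h3 : ((c : F) - 1) • v.1 = 0 := by rw [sub_smul, one_smul, h2, sub_self]
    rcases smul_eq_zero.1 h3 with h4 | h4
    · exact Units.ext (sub_eq_zero.1 h4)
    · exact absurd h4 (hS.ne v.2))
  rwa [Nat.card_units, Nat.card_eq_fintype_card, Nat.card_coe_set_eq] at h1

/-- the preimage of the line spanned by `y` -/
def pre (E : Submodule F M) (y : M ⧸ E) : Submodule F M := (Submodule.span F {y}).comap E.mkQ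

theorem le_pre (E : Submodule F M) (y : M ⧸ E) : E ≤ pre E y := by
  intro v hv
  change E.mkQ v ∈ Submodule.span F {y}
  rw [(Submodule.Quotient.mk_eq_zero E (x := v)).2 hv |> (fun h => (h : E.mkQ v = 0))]
  exact zero_mem _

/-- fibres -/
def fib (S : Set M) (E : Submodule F M) (y : M ⧸ E) : Set M := {v | v ∈ S ∧ E.mkQ v = y}

theorem ncard_fib_smul {S : Set M} (hS : Cone F S) (E : Submodule F M) (y : M ⧸ E) {c : F} (hc : c ≠ 0) :
    (fib S E (c • y)).ncard = (fib S E y).ncard := by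
  have h1 : fib S E (c • y) = (fun v => c • v) '' fib S E y := by
    ext v
    constructor
    · rintro ⟨h1, h2⟩
      refine ⟨c⁻¹ • v, ⟨hS.smul _ (inv_ne_zero hc) _ h1, ?_⟩, ?_⟩
      · rw [map_smul, h2, smul_smul, inv_mul_cancel₀ hc, one_smul]
      · change c • c⁻¹ • v = v
        rw [smul_smul, mul_inv_cancel₀ hc, one_smul]
    · rintro ⟨w, ⟨h1, h2⟩, rfl⟩
      refine ⟨hS.smul _ hc _ h1, ?_⟩
      change E.mkQ (c • w) = _
      rw [map_smul, h2]
  rw [h1]
  refine Set.ncard_image_of_injective _ ?_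
  intro v w h
  exact smul_right_injective M hc h

/-- the number of vectors of `S` in the preimage of a line -/
theorem ncard_pre {S : Set M} (hS : Cone F S) (E : Submodule F M) {y : M ⧸ E} (hy : y ≠ 0) :
    ((pre E y : Set M) ∩ S).ncard = ((E : Set M) ∩ S).ncard + (Fintype.card F - 1) * (fib S E y).ncard := by
  classical
  have h1 : ((pre E y : Set M) ∩ S) = ((E : Set M) ∩ S) ∪ ⋃ c ∈ (Finset.univ : Finset Fˣ), fib S E ((c : F) • y) := by
    ext v
    constructor
    · rintro ⟨h1, h2⟩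
      obtain ⟨c, hc⟩ := Submodule.mem_span_singleton.1 h1
      by_cases h0 : c = 0
      · left
        refine ⟨?_, h2⟩
        rw [h0, zero_smul] at hc
        exact (Submodule.Quotient.mk_eq_zero E).1 hc.symm
      · right
        rw [Set.mem_iUnion₂]
        exact ⟨Units.mk0 c h0, Finset.mem_univ _, h2, hc.symm⟩
    · rintro (⟨h1, h2⟩ | h1)
      · exact ⟨le_pre E y h1, h2⟩
      · rw [Set.mem_iUnion₂] at h1
        obtain ⟨c, -, h2, h3⟩ := h1
        exact ⟨Submodule.mem_span_singleton.2 ⟨c, h3.symm⟩, h2⟩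
  rw [h1, Set.ncard_union_eq]
  · congr 1
    have h2 : (⋃ c ∈ (Finset.univ : Finset Fˣ), fib S E ((c : F) • y)).ncard =
        ∑ c ∈ (Finset.univ : Finset Fˣ), (fib S E ((c : F) • y)).ncard := by
      rw [Set.ncard_eq_toFinset_card _ (Set.toFinite _)]
      have h3 : (Set.toFinite (⋃ c ∈ (Finset.univ : Finset Fˣ), fib S E ((c : F) • y))).toFinset =
          (Finset.univ : Finset Fˣ).biUnion fun c => (Set.toFinite (fib S E ((c : F) • y))).toFinset := by
        ext v
        simp only [_root_.Finset.mem_univ, _root_.Set.iUnion_true, _root_.Set.Finite.mem_toFinset, _root_.Set.mem_iUnion, _root_.Finset.mem_biUnion, _root_.true_and]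
      rw [h3, Finset.card_biUnion]
      · exact Finset.sum_congr rfl fun c _ => (Set.ncard_eq_toFinset_card _ _).symm
      · intro c _ c' _ hcc
        change Disjoint _ _
        rw [Finset.disjoint_left]
        intro v hv hv'
        rw [Set.Finite.mem_toFinset] at hv hv'
        apply hcc
        have h4 : (c : F) • y = (c' : F) • y := hv.2.symm.trans hv'.2
        have h5 : ((c : F) - c') • y = 0 := by rw [sub_smul, h4, sub_self]
        rcases smul_eq_zero.1 h5 with h6 | h6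
        · exact Units.ext (sub_eq_zero.1 h6)
        · exact absurd h6 hy
    rw [h2, Finset.sum_congr rfl fun c _ => ncard_fib_smul hS E y c.ne_zero, Finset.sum_const, smul_eq_mul]
    congr 1
    rw [Finset.card_univ, Fintype.card_units]
  · rw [Set.disjoint_left]
    rintro v ⟨h2, -⟩ h3
    rw [Set.mem_iUnion₂] at h3
    obtain ⟨c, -, -, h4⟩ := h3
    have h5 : E.mkQ v = 0 := (Submodule.Quotient.mk_eq_zero E).2 h2
    rw [h5] at h4
    exact smul_ne_zero c.ne_zero hy h4.symm

theorem finrank_pre [FiniteDimensional F M] (E : Submodule F M) {y : M ⧸ E} (hy : y ≠ 0) :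
    finrank F (pre E y) = finrank F E + 1 := by
  have h1 : (pre E y).map E.mkQ = Submodule.span F {y} :=
    Submodule.map_comap_eq_of_surjective (Submodule.mkQ_surjective E) _
  have h2 := LinearMap.finrank_range_add_finrank_ker (E.mkQ.domRestrict (pre E y))
  have h3 : LinearMap.range (E.mkQ.domRestrict (pre E y)) = (pre E y).map E.mkQ := by
    rw [LinearMap.domRestrict, LinearMap.range_comp, Submodule.range_subtype]
  have h4 : LinearMap.ker (E.mkQ.domRestrict (pre E y)) = E.comap (pre E y).subtype := by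
    rw [LinearMap.domRestrict, LinearMap.ker_comp, Submodule.ker_mkQ]
  rw [h3, h1, finrank_span_singleton hy, h4, (Submodule.comapSubtypeEquivOfLe (le_pre E y)).finrank_eq] at h2
  omega

/-- the total number -/
theorem ncard_eq_sum_fib (S : Set M) (E : Submodule F M) [Fintype (M ⧸ E)] :
    S.ncard = ∑ y : M ⧸ E, (fib S E y).ncard := by
  classical
  have h3 : (Set.toFinite S).toFinset = (Finset.univ : Finset (M ⧸ E)).biUnion fun y => (Set.toFinite (fib S E y)).toFinset := by
    ext v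
    simp only [fib, _root_.Set.Finite.mem_toFinset, _root_.Submodule.mkQ_apply, _root_.Finset.mem_biUnion, _root_.Finset.mem_univ, _root_.Set.mem_ofPred_eq, _root_.true_and, _root_.exists_and_left, ↓ _root_.ExistsAndEq.existsAndEq, _root_.and_true]
  rw [Set.ncard_eq_toFinset_card _ (Set.toFinite _), h3, Finset.card_biUnion]
  · exact Finset.sum_congr rfl fun c _ => (Set.ncard_eq_toFinset_card _ _).symm
  · intro c _ c' _ hcc
    change Disjoint _ _
    rw [Finset.disjoint_left]
    intro v hv hv'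
    rw [Set.Finite.mem_toFinset] at hv hv'
    exact hcc (hv.2.symm.trans hv'.2)

/-! ### the hypothesis on lines -/

/-- every line meets `S` in `0` or `b` points -/
def ZL (F : Type*) {M : Type*} [Field F] [Fintype F] [AddCommGroup M] [Module F M] (S : Set M) (b : ℕ) : Prop :=
  ∀ L : Submodule F M, finrank F L = 2 → ((L : Set M) ∩ S).ncard = 0 ∨ ((L : Set M) ∩ S).ncard = b * (Fintype.card F - 1)

theorem q_pos : 0 < Fintype.card F - 1 := by
  have : 1 < Fintype.card F := Fintype.one_lt_card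
  omega

theorem card_submodule [FiniteDimensional F M] (L : Submodule F M) : (L : Set M).ncard = Fintype.card F ^ finrank F L := by
  rw [← Nat.card_coe_set_eq]
  exact (Module.natCard_eq_pow_finrank (K := F) (V := L)).trans (by rw [Nat.card_eq_fintype_card])

theorem ncard_span_of_mem {S : Set M} (hS : Cone F S) {e : M} (he : e ∈ S) :
    (((Submodule.span F {e} : Submodule F M) : Set M) ∩ S).ncard = Fintype.card F - 1 := by
  have h1 : (((Submodule.span F {e} : Submodule F M) : Set M) ∩ S) = ((Submodule.span F {e} : Submodule F M) : Set M) \ {0} := by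
    ext v
    constructor
    · exact fun h => ⟨h.1, fun h0 => hS.ne h.2 h0⟩
    · rintro ⟨h1, h2⟩
      refine ⟨h1, ?_⟩
      obtain ⟨c, rfl⟩ := Submodule.mem_span_singleton.1 h1
      exact hS.smul c (fun h => h2 (by rw [h, zero_smul]; rfl)) _ he
  rw [h1, Set.ncard_sdiff_singleton_of_mem (Submodule.zero_mem _), card_submodule, finrank_span_singleton (hS.ne he),
    pow_one]

theorem ncard_span_of_notMem {S : Set M} (hS : Cone F S) {e : M} (he : e ∉ S) :
    (((Submodule.span F {e} : Submodule F M) : Set M) ∩ S).ncard = 0 := by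
  rw [Set.ncard_eq_zero (Set.toFinite _)]
  ext v
  constructor
  · rintro ⟨h1, h2⟩
    obtain ⟨c, rfl⟩ := Submodule.mem_span_singleton.1 h1
    have hc : c ≠ 0 := by rintro rfl; exact hS.zero (by rwa [zero_smul] at h2)
    exact he ((hS.smul_iff hc).1 h2)
  · exact fun h => h.elim

variable {S : Set M} {b : ℕ}

theorem fib_of_mem (hS : Cone F S) (hL : ZL F S b) {e : M} (he : e ∈ S) {y : M ⧸ Submodule.span F {e}} (hy : y ≠ 0) :
    (fib S (Submodule.span F {e}) y).ncard + 1 = b := by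
  have h1 := ncard_pre hS (Submodule.span F {e}) hy
  rw [ncard_span_of_mem hS he] at h1
  have hq := q_pos (F := F)
  have h2 := hL (pre (Submodule.span F {e}) y) (by rw [finrank_pre _ hy, finrank_span_singleton (hS.ne he)])
  rw [h1] at h2
  rcases h2 with h2 | h2
  · omega
  · have h3 : (Fintype.card F - 1) * ((fib S (Submodule.span F {e}) y).ncard + 1) = (Fintype.card F - 1) * b := by
      rw [mul_comm _ b, ← h2]; ring
    exact Nat.eq_of_mul_eq_mul_left hq h3

theorem fib_of_notMem (hS : Cone F S) (hL : ZL F S b) {e : M} (he0 : e ≠ 0) (he : e ∉ S)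
    {y : M ⧸ Submodule.span F {e}} (hy : y ≠ 0) :
    (fib S (Submodule.span F {e}) y).ncard = 0 ∨ (fib S (Submodule.span F {e}) y).ncard = b := by
  have h1 := ncard_pre hS (Submodule.span F {e}) hy
  rw [ncard_span_of_notMem hS he, zero_add] at h1
  have hq := q_pos (F := F)
  have h2 := hL (pre (Submodule.span F {e}) y) (by rw [finrank_pre _ hy, finrank_span_singleton he0])
  rw [h1] at h2
  rcases h2 with h2 | h2
  · left
    rcases Nat.mul_eq_zero.1 h2 with h3 | h3
    · omega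
    · exact h3
  · right
    rw [mul_comm] at h2
    exact Nat.eq_of_mul_eq_mul_right hq h2

theorem fib_zero (E : Submodule F M) : fib S E 0 = (E : Set M) ∩ S := by
  ext v
  exact ⟨fun h => ⟨(Submodule.Quotient.mk_eq_zero E).1 h.2, h.1⟩, fun h => ⟨h.2, (Submodule.Quotient.mk_eq_zero E).2 h.1⟩⟩

theorem card_quot (E : Submodule F M) [Fintype (M ⧸ E)] :
    Fintype.card (M ⧸ E) = Fintype.card F ^ (finrank F M - finrank F E) := by
  have h1 := Submodule.finrank_quotient_add_finrank E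
  have h2 : finrank F (M ⧸ E) = finrank F M - finrank F E := by omega
  rw [← h2, ← Nat.card_eq_fintype_card, Module.natCard_eq_pow_finrank (K := F), Nat.card_eq_fintype_card]

/-- **The number of vectors of `S`.** -/
theorem count (hS : Cone F S) (hL : ZL F S b) (hne : S.Nonempty) :
    S.ncard = (Fintype.card F - 1) + (Fintype.card F ^ (finrank F M - 1) - 1) * (b - 1) := by
  classical
  obtain ⟨e, he⟩ := hne
  have : Finite (M ⧸ Submodule.span F {e}) := Finite.of_surjective _ (Submodule.mkQ_surjective _)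
  have : Fintype (M ⧸ Submodule.span F {e}) := Fintype.ofFinite _
  rw [ncard_eq_sum_fib S (Submodule.span F {e}), ← Finset.add_sum_erase _ _ (Finset.mem_univ 0), fib_zero,
    ncard_span_of_mem hS he]
  congr 1
  rw [Finset.sum_congr rfl fun y hy => Nat.eq_sub_of_add_eq (fib_of_mem hS hL he (Finset.ne_of_mem_erase hy)),
    Finset.sum_const, Finset.card_erase_of_mem (Finset.mem_univ _), Finset.card_univ, card_quot,
    finrank_span_singleton (hS.ne he), smul_eq_mul]

/-- restriction to a subspace -/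
theorem cone_sub (hS : Cone F S) (P : Submodule F M) : Cone F (P.subtype ⁻¹' S) :=
  ⟨fun h => hS.zero h, fun c hc _ hv => hS.smul c hc _ hv⟩

theorem ncard_sub' (P : Submodule F M) (L : Submodule F P) :
    ((L : Set P) ∩ P.subtype ⁻¹' S).ncard = ((L.map P.subtype : Set M) ∩ S).ncard := by
  rw [← Set.ncard_image_of_injective _ (Submodule.subtype_injective P)]
  congr 1
  ext v
  constructor
  · rintro ⟨w, hw, rfl⟩
    exact ⟨⟨w, hw.1, rfl⟩, hw.2⟩
  · rintro ⟨⟨w, hw, rfl⟩, h⟩
    exact ⟨w, ⟨hw, h⟩, rfl⟩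

end

end Cfsg.Agent.H449.U
end

-- part: H91/U/FlagFun
section
/-!
# Invariant functions on flags are affine functions of the intersection numbers, Hermitian forms (helper91, S2196)

Rank three action of `SU(V)` on `X`, `K` the stabiliser of `x₀`, `r ≠ 0` a function on
`X` orthogonal to the functions invariant under the stabiliser of a totally isotropic flag; `K` has exactly two orbits
on the isotropic points of `V`, one of them `O`. Then (`aff`) every `K`-invariant function on the totally isotropic flags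
`W 1 < ... < W j` is an affine function of the numbers `|O ∩ W i|`.
-/

set_option autoImplicit false
set_option linter.unusedSectionVars false

namespace Cfsg.Agent.H91.U

open Module RankThree

variable {F V : Type*} [Field F] [Fintype F] [AddCommGroup V] [Module F V] [FiniteDimensional F V] [Fintype V]
  {σ : F →+* F} {B : V →ₛₗ[σ] V →ₗ[F] F} {j : ℕ}

variable (B) in
/-- transitivity on flags -/
def Tr1 : Prop := ∀ (j : ℕ) (u u' : Fin j → V), Frame B u → Frame B u' →
  ∃ g ∈ SIso B, ∀ i, (W F u i).map (g : V →ₗ[F] V) = W F u' i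

open Classical in
/-- the sum of a function on a subspace -/
noncomputable def sm (φ : V → ℝ) (C : Submodule F V) : ℝ := ∑ v : V, if v ∈ C then φ v else 0

theorem telescope (g : ℕ → ℝ) {n N : ℕ} (h : n ≤ N) :
    g n = g N + ∑ i ∈ Finset.range N, if n ≤ i then g i - g (i + 1) else 0 := by
  induction N, h using Nat.le_induction with
  | base =>
    rw [Finset.sum_eq_zero, add_zero]
    intro i hi
    rw [if_neg]
    have := Finset.mem_range.1 hi
    omega
  | succ N hN ih =>
    rw [Finset.sum_range_succ, if_pos hN, ih]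
    ring

theorem sum_eq {u : Fin j → V} (hu : Frame B u) {φ c : V → ℝ} (h0 : ∀ v, ¬(v ≠ 0 ∧ B v v = 0) → φ v = 0)
    (hs : ∑ v, φ v = 0) {g : ℕ → ℝ} (hc : ∀ v, v ≠ 0 → B v v = 0 → c v = g (cl B u v)) :
    ∑ v, φ v * c v = ∑ i ∈ Finset.range (2 * j + 1), (g i - g (i + 1)) * sm φ (Ch B u i) := by
  classical
  have h1 : ∀ v, φ v * c v = φ v * g (2 * j + 1) +
      ∑ i ∈ Finset.range (2 * j + 1), (g i - g (i + 1)) * (if v ∈ Ch B u i then φ v else 0) := by
    intro v
    by_cases hv : v ≠ 0 ∧ B v v = 0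
    · rw [hc v hv.1 hv.2, telescope g (cl_le hu v), mul_add, Finset.mul_sum]
      congr 1
      refine Finset.sum_congr rfl fun i _ => ?_
      simp only [mem_Ch_iff hu]
      split_ifs <;> ring
    · rw [h0 v hv, zero_mul, zero_mul, zero_add, Finset.sum_eq_zero]
      intro i _
      split_ifs <;> rw [mul_zero]
  simp only [h1]
  rw [Finset.sum_add_distrib, ← Finset.sum_mul, hs, zero_mul, zero_add, Finset.sum_comm]
  refine Finset.sum_congr rfl fun i _ => ?_
  rw [← Finset.mul_sum]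
  rfl

theorem card_ker (C : Submodule F V) {v : V} (hv : v ∉ perp B C) :
    (Nat.card {z : C // B v z = 0}) * Fintype.card F = Nat.card C := by
  classical
  let f : C →ₗ[F] F := (B v).comp C.subtype
  have hf : LinearMap.range f = ⊤ := by
    rcases (eq_bot_or_eq_top (LinearMap.range f)) with h | h
    · exfalso
      apply hv
      intro z hz
      have h1 : f ⟨z, hz⟩ ∈ LinearMap.range f := ⟨_, rfl⟩
      rw [h, Submodule.mem_bot] at h1
      exact h1
    · exact h
  have h1 := LinearMap.finrank_range_add_finrank_ker f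
  rw [hf, finrank_top, finrank_self] at h1
  have h2 : Nat.card {z : C // B v z = 0} = Nat.card (LinearMap.ker f) := Nat.card_congr (Equiv.refl _)
  rw [h2, Module.natCard_eq_pow_finrank (K := F), Module.natCard_eq_pow_finrank (K := F) (V := C), ← h1,
    Nat.card_eq_fintype_card, pow_add, pow_one, mul_comm]

theorem mem_perp_span {v z : V} : v ∈ perp B (Submodule.span F {z}) ↔ B v z = 0 := by
  constructor
  · exact fun h => h z (Submodule.mem_span_singleton_self z)
  · intro h w hw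
    obtain ⟨c, rfl⟩ := Submodule.mem_span_singleton.1 hw
    rw [map_smul, h, smul_zero]

/-- sums over the orthogonal space of a totally isotropic subspace -/
theorem perp_sum {φ : V → ℝ} (hs : ∑ v, φ v = 0) {lam : ℝ}
    (hlam : ∀ z, B z z = 0 → sm φ (perp B (Submodule.span F {z})) = lam * φ z) {C : Submodule F V} (hC : TI B C) :
    (Nat.card C : ℝ) * (1 - (Fintype.card F : ℝ)⁻¹) * sm φ (perp B C) = lam * sm φ C := by
  classical
  have h1 : lam * sm φ C = ∑ v, φ v * Nat.card {z : C // B v z = 0} := by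
    unfold sm
    rw [Finset.mul_sum]
    have e1 : ∀ z, lam * (if z ∈ C then φ z else 0) = ∑ v, if z ∈ C ∧ B v z = 0 then φ v else 0 := by
      intro z
      split_ifs with hz
      · rw [← hlam z (hC z hz z hz)]
        unfold sm
        refine Finset.sum_congr rfl fun v _ => ?_
        simp only [mem_perp_span, hz, true_and]
      · simp only [hz, false_and, if_false, Finset.sum_const_zero, mul_zero]
    simp only [e1]
    rw [Finset.sum_comm]
    refine Finset.sum_congr rfl fun v _ => ?_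
    rw [← Finset.sum_filter, Finset.sum_const, nsmul_eq_mul, mul_comm]
    congr 2
    rw [Nat.card_eq_fintype_card, ← Fintype.card_subtype]
    refine Fintype.card_congr ⟨fun z => ⟨⟨z.1, z.2.1⟩, z.2.2⟩, fun z => ⟨z.1.1, z.1.2, z.2⟩, fun _ => rfl, fun _ => rfl⟩
  have hq : (Fintype.card F : ℝ) ≠ 0 := by exact_mod_cast Fintype.card_ne_zero
  have h2 : ∀ v, φ v * Nat.card {z : C // B v z = 0} = (Nat.card C : ℝ) * (Fintype.card F : ℝ)⁻¹ * φ v +
      (Nat.card C : ℝ) * (1 - (Fintype.card F : ℝ)⁻¹) * (if v ∈ perp B C then φ v else 0) := by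
    intro v
    split_ifs with hv
    · have : Nat.card {z : C // B v z = 0} = Nat.card C :=
        Nat.card_congr (Equiv.subtypeUnivEquiv fun z => hv z z.2)
      rw [this]
      ring
    · have := card_ker C hv
      rw [← this]
      push_cast
      field_simp
      ring
  rw [h1]
  simp only [h2]
  rw [Finset.sum_add_distrib, ← Finset.mul_sum, hs, mul_zero, zero_add, ← Finset.mul_sum]
  rfl

/-! ### linear functions -/

variable (B j) in
/-- linear combinations of the sums over the subspaces of the flag -/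
def Lin (φ : V → ℝ) (f : (Fin j → V) → ℝ) : Prop :=
  ∃ α : ℕ → ℝ, ∀ u : Fin j → V, Frame B u → f u = ∑ l ∈ Finset.range (j + 1), α l * sm φ (W F u l)

theorem Lin.add {φ : V → ℝ} {f f' : (Fin j → V) → ℝ} (h : Lin B j φ f) (h' : Lin B j φ f') :
    Lin B j φ (fun u => f u + f' u) := by
  obtain ⟨α, h⟩ := h
  obtain ⟨α', h'⟩ := h'
  refine ⟨fun l => α l + α' l, fun u hu => ?_⟩
  beta_reduce
  rw [h u hu, h' u hu, ← Finset.sum_add_distrib]
  exact Finset.sum_congr rfl fun l _ => by ring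

theorem Lin.const_mul {φ : V → ℝ} {f : (Fin j → V) → ℝ} (c : ℝ) (h : Lin B j φ f) :
    Lin B j φ (fun u => c * f u) := by
  obtain ⟨α, h⟩ := h
  refine ⟨fun l => c * α l, fun u hu => ?_⟩
  beta_reduce
  rw [h u hu, Finset.mul_sum]
  exact Finset.sum_congr rfl fun l _ => by ring

theorem Lin.zero {φ : V → ℝ} : Lin B j φ (fun _ => 0) :=
  ⟨fun _ => 0, fun u _ => by simp⟩

theorem Lin.sum {φ : V → ℝ} {ι : Type*} (s : Finset ι) {f : ι → (Fin j → V) → ℝ} (h : ∀ i ∈ s, Lin B j φ (f i)) :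
    Lin B j φ (fun u => ∑ i ∈ s, f i u) := by
  classical
  induction s using Finset.induction_on with
  | empty => simpa using Lin.zero
  | insert a s ha ih =>
    simp only [Finset.sum_insert ha]
    exact (h a (Finset.mem_insert_self a s)).add (ih fun i hi => h i (Finset.mem_insert_of_mem hi))

theorem Lin.congr {φ : V → ℝ} {f f' : (Fin j → V) → ℝ} (h : Lin B j φ f) (e : ∀ u, Frame B u → f' u = f u) :
    Lin B j φ f' := by
  obtain ⟨α, h⟩ := h
  exact ⟨α, fun u hu => (e u hu).trans (h u hu)⟩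

theorem lin_W {φ : V → ℝ} {i : ℕ} (hi : i ≤ j) : Lin B j φ (fun u => sm φ (W F u i)) := by
  classical
  refine ⟨fun l => if l = i then 1 else 0, fun u _ => ?_⟩
  simp only [ite_mul, one_mul, zero_mul]
  rw [Finset.sum_ite_eq', if_pos (Finset.mem_range.2 (by omega))]

theorem lin_Ch {φ : V → ℝ} (hs : ∑ v, φ v = 0) {lam : ℝ}
    (hlam : ∀ z, B z z = 0 → sm φ (perp B (Submodule.span F {z})) = lam * φ z) (i : ℕ) :
    Lin B j φ (fun u => sm φ (Ch B u i)) := by
  by_cases hi : i ≤ j
  · exact (lin_W hi).congr fun u _ => by rw [Ch_of_le hi]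
  · have hi2 : 2 * j + 1 - i ≤ j := by omega
    refine ((lin_W (φ := φ) hi2).const_mul
      (lam * ((Fintype.card F : ℝ) ^ (2 * j + 1 - i) * (1 - (Fintype.card F : ℝ)⁻¹))⁻¹)).congr fun u hu => ?_
    rw [Ch_of_lt (by omega)]
    have h1 := perp_sum hs hlam (hu.W_ti (2 * j + 1 - i))
    rw [Module.natCard_eq_pow_finrank (K := F), finrank_W hu.li hi2, Nat.card_eq_fintype_card] at h1
    have hq1 : (1 : ℝ) < Fintype.card F := by exact_mod_cast Fintype.one_lt_card
    have hq : (0 : ℝ) < 1 - (Fintype.card F : ℝ)⁻¹ := by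
      have := inv_lt_one_of_one_lt₀ hq1
      linarith only [this]
    have hne : ((Fintype.card F : ℝ) ^ (2 * j + 1 - i) * (1 - (Fintype.card F : ℝ)⁻¹)) ≠ 0 := by
      have : (0 : ℝ) < (Fintype.card F : ℝ) ^ (2 * j + 1 - i) := by positivity
      positivity
    push_cast at h1
    rw [mul_assoc, mul_left_comm, ← h1, ← mul_assoc, inv_mul_cancel₀ hne, one_mul]

/-! ### the characteristic function -/

variable (B) in
/-- the number of non zero isotropic vectors -/
noncomputable def mu : ℝ := ({v : V | v ≠ 0 ∧ B v v = 0}.ncard : ℝ)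

variable (B) in
open Classical in
/-- the normalised characteristic function of a set of isotropic points -/
noncomputable def nf (O : Set V) (v : V) : ℝ :=
  (if v ∈ O then 1 else 0) - if v ≠ 0 ∧ B v v = 0 then (O.ncard : ℝ) / mu B else 0

theorem ncard_eq_sum (O : Set V) [DecidablePred (· ∈ O)] : (O.ncard : ℝ) = ∑ v : V, if v ∈ O then (1 : ℝ) else 0 := by
  classical
  rw [← Finset.sum_filter, Finset.sum_const, nsmul_eq_mul, mul_one, ← Nat.card_coe_set_eq, Nat.card_eq_fintype_card,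
    ← Fintype.card_subtype]

open Classical in
theorem sum_ite_iso (c : ℝ) : ∑ v : V, (if v ≠ 0 ∧ B v v = 0 then c else 0 : ℝ) = c * mu B := by
  classical
  unfold mu
  rw [ncard_eq_sum, Finset.mul_sum]
  refine Finset.sum_congr rfl fun v _ => ?_
  change (if v ≠ 0 ∧ B v v = 0 then c else 0 : ℝ) = c * (if v ≠ 0 ∧ B v v = 0 then 1 else 0)
  split_ifs <;> ring

section OrbSec

variable {K : Subgroup (SIso B)} {O : Set V}

theorem Orb.mu_ne (hO : Orb K O) : mu B ≠ 0 := by
  obtain ⟨v, hv⟩ := hO.ne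
  have h1 : v ≠ 0 := fun e => hO.zero (e ▸ hv)
  unfold mu
  have h2 : {v : V | v ≠ 0 ∧ B v v = 0}.Nonempty := ⟨v, h1, hO.iso v hv⟩
  have := (Set.ncard_pos (Set.toFinite _)).2 h2
  exact_mod_cast this.ne'

theorem Orb.mem_iso (hO : Orb K O) {v : V} (hv : v ∈ O) : v ≠ 0 ∧ B v v = 0 :=
  ⟨fun e => hO.zero (e ▸ hv), hO.iso v hv⟩

theorem nf_not (hO : Orb K O) {v : V} (h : ¬(v ≠ 0 ∧ B v v = 0)) : nf B O v = 0 := by
  classical
  unfold nf
  rw [if_neg fun hv => h (hO.mem_iso hv), if_neg h, sub_zero]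

theorem nf_zero (hO : Orb K O) : nf B O 0 = 0 := nf_not hO fun h => h.1 rfl

theorem sum_nf (hO : Orb K O) : ∑ v, nf B O v = 0 := by
  classical
  unfold nf
  rw [Finset.sum_sub_distrib, sum_ite_iso, div_mul_cancel₀ _ hO.mu_ne, sub_eq_zero]
  exact (ncard_eq_sum O).symm

theorem nf_smul (hO : Orb K O) {g : SIso B} (hg : g ∈ K) (v : V) : nf B O (g • v) = nf B O v := by
  classical
  unfold nf
  simp only [hO.inv g hg, Ne, smul_eq_zero', B_smul]

theorem nf_csmul (hO : Orb K O) {c : F} (hc : c ≠ 0) (v : V) : nf B O (c • v) = nf B O v := by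
  classical
  unfold nf
  have h1 : (c • v ≠ 0 ∧ B (c • v) (c • v) = 0) ↔ (v ≠ 0 ∧ B v v = 0) := by
    rw [smul_ne_zero_iff, smul_left', smul_right', mul_eq_zero, mul_eq_zero, map_eq_zero]
    simp [hc]
  simp only [hO.smul c hc, h1]

/-- sums over a totally isotropic subspace -/
theorem sm_nf {C : Submodule F V} (hC : TI B C) :
    sm (nf B O) C = (((C : Set V) ∩ O).ncard : ℝ) - (O.ncard : ℝ) / mu B * ((Nat.card C : ℝ) - 1) := by
  classical
  unfold sm nf
  rw [ncard_eq_sum ((C : Set V) ∩ O)]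
  have h1 : ((Nat.card C : ℝ) - 1) = ∑ v : V, if v ∈ C ∧ v ≠ 0 then (1 : ℝ) else 0 := by
    have e : ∀ v : V, (if v ∈ C ∧ v ≠ 0 then (1 : ℝ) else 0) = (if v ∈ (C : Set V) then (1 : ℝ) else 0) -
        if v = 0 then 1 else 0 := by
      intro v
      by_cases hv : v = 0
      · subst hv; simp
      · simp [hv]
    simp only [e]
    rw [Finset.sum_sub_distrib, Finset.sum_ite_eq', if_pos (Finset.mem_univ _), ← ncard_eq_sum, ← Nat.card_coe_set_eq]
    rfl
  rw [h1, Finset.mul_sum, ← Finset.sum_sub_distrib]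
  refine Finset.sum_congr rfl fun v _ => ?_
  simp only [Set.mem_inter_iff, SetLike.mem_coe]
  by_cases hv : v ∈ C
  · by_cases h0 : v = 0
    · simp [h0]
    · simp [hv, h0, hC v hv v hv]
  · simp [hv]

/-- functions on isotropic points which are constant on the orbits and have sum zero -/
theorem exists_lam (hO : Orb K O) {τ : V → ℝ} (h0 : ∀ v, ¬(v ≠ 0 ∧ B v v = 0) → τ v = 0)
    (hs : ∑ v, τ v = 0) (hK : ∀ g ∈ K, ∀ v, τ (g • v) = τ v) (hc : ∀ c : F, c ≠ 0 → ∀ v, τ (c • v) = τ v) :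
    ∃ lam : ℝ, ∀ v, τ v = lam * nf B O v := by
  classical
  obtain ⟨a, ha⟩ := hO.ne
  obtain ⟨b, hb0, hbb, hb⟩ := hO.ne'
  have ha0 : a ≠ 0 := fun e => hO.zero (e ▸ ha)
  have hgen : ∀ v w : V, w ≠ 0 → v ≠ 0 → (∃ g ∈ K, ∃ c : F, g • v = c • w) → τ v = τ w := by
    rintro v w hw hv ⟨g, hg, c, e⟩
    have hcne : c ≠ 0 := by
      rintro rfl
      rw [zero_smul] at e
      exact hv ((smul_eq_zero' g).1 e)
    rw [← hK g hg, e, hc c hcne]
  have h1 : ∀ v ∈ O, τ v = τ a := fun v hv => hgen v a ha0 (fun e => hO.zero (e ▸ hv)) (hO.tr v hv a ha)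
  have h2 : ∀ v, v ≠ 0 → B v v = 0 → v ∉ O → τ v = τ b := fun v hv hvv hvO =>
    hgen v b hb0 hv (hO.tr' v hv hvv hvO b hb0 hbb hb)
  refine ⟨τ a - τ b, fun v => ?_⟩
  -- the mean
  have e : ∀ v, τ v = (τ a - τ b) * (if v ∈ O then 1 else 0) + if v ≠ 0 ∧ B v v = 0 then τ b else 0 := by
    intro v
    by_cases hv : v ≠ 0 ∧ B v v = 0
    · by_cases hvO : v ∈ O
      · rw [h1 v hvO, if_pos hvO, if_pos hv]; ring
      · rw [h2 v hv.1 hv.2 hvO, if_neg hvO, if_pos hv]; ring
    · rw [h0 v hv, if_neg fun h => hv (hO.mem_iso h), if_neg hv]; ring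
  have h3 : (τ a - τ b) * O.ncard + τ b * mu B = 0 := by
    rw [ncard_eq_sum O, ← sum_ite_iso, Finset.mul_sum, ← Finset.sum_add_distrib]
    rw [Finset.sum_congr rfl fun v _ => e v] at hs
    exact hs
  have h4 : τ b = -((τ a - τ b) * (O.ncard / mu B)) := by
    have := hO.mu_ne
    field_simp
    linarith
  rw [e v]
  unfold nf
  by_cases hv : v ≠ 0 ∧ B v v = 0
  · rw [if_pos hv, if_pos hv, mul_sub]
    linarith
  · rw [if_neg fun h => hv (hO.mem_iso h), if_neg hv, if_neg hv]; ring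

theorem sm_perp_span (φ : V → ℝ) (z : V) [DecidablePred fun v => B v z = 0] :
    sm φ (perp B (Submodule.span F {z})) = ∑ v, if B v z = 0 then φ v else 0 := by
  classical
  unfold sm
  refine Finset.sum_congr rfl fun v _ => ?_
  simp only [mem_perp_span]

end OrbSec

/-! ### kernels -/

theorem exists_kernel {G X Y : Type*} [Group G] [MulAction G X] [MulAction G Y] [MulAction.IsPretransitive G X] (x₀ : X)
    {f : Y → ℝ} (hf : ∀ k ∈ MulAction.stabilizer G x₀, ∀ y, f (k • y) = f y) :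
    ∃ A : Matrix X Y ℝ, Inv G A ∧ ∀ y, A x₀ y = f y := by
  have hch : ∀ x : X, ∃ g : G, g • x₀ = x := fun x => MulAction.exists_smul_eq G x₀ x
  choose c hc using hch
  refine ⟨fun x y => f ((c x)⁻¹ • y), ?_, ?_⟩
  · intro g x y
    have h1 : (c (g • x))⁻¹ * g * c x ∈ MulAction.stabilizer G x₀ := by
      rw [MulAction.mem_stabilizer_iff, mul_smul, mul_smul, hc, inv_smul_eq_iff, hc]
    change f ((c (g • x))⁻¹ • g • y) = f ((c x)⁻¹ • y)
    rw [← hf _ h1 ((c x)⁻¹ • y), mul_smul, mul_smul, smul_inv_smul]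
  · intro y
    refine hf _ ?_ y
    rw [MulAction.mem_stabilizer_iff, inv_smul_eq_iff, hc]

theorem exists_smul_iso (ht : Tr1 B) {v w : V} (hv : v ≠ 0) (hvv : B v v = 0) (hw : w ≠ 0) (hww : B w w = 0) :
    ∃ (g : SIso B) (c : F), c ≠ 0 ∧ g • v = c • w := by
  obtain ⟨g, hg, e⟩ := ht 1 (fun _ => v) (fun _ => w) ⟨LinearIndependent.of_subsingleton 0 hv, fun _ _ => hvv⟩
    ⟨LinearIndependent.of_subsingleton 0 hw, fun _ _ => hww⟩
  have e1 := e 1
  rw [W_of_le _ le_rfl, W_of_le _ le_rfl, Set.range_const, Set.range_const] at e1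
  have h1 : g v ∈ Submodule.span F {w} := by
    rw [← e1]
    exact ⟨v, Submodule.mem_span_singleton_self v, rfl⟩
  obtain ⟨c, hc⟩ := Submodule.mem_span_singleton.1 h1
  refine ⟨⟨g, hg⟩, c, ?_, hc.symm⟩
  rintro rfl
  rw [zero_smul] at hc
  exact hv ((LinearEquiv.map_eq_zero_iff g).1 hc.symm)

/-- the orthogonality sums of the normalised characteristic function -/
theorem exists_lam' (ht : Tr1 B) {K : Subgroup (SIso B)} {O : Set V} (hO : Orb K O) :
    ∃ lam : ℝ, ∀ z, B z z = 0 → sm (nf B O) (perp B (Submodule.span F {z})) = lam * nf B O z := by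
  classical
  let τ : V → ℝ := fun z => if z ≠ 0 ∧ B z z = 0 then sm (nf B O) (perp B (Submodule.span F {z})) else 0
  have hτ : ∀ z, z ≠ 0 ∧ B z z = 0 → τ z = sm (nf B O) (perp B (Submodule.span F {z})) := fun z hz => if_pos hz
  have hτ' : ∀ z, ¬(z ≠ 0 ∧ B z z = 0) → τ z = 0 := fun z hz => if_neg hz
  have hgen : ∀ (g : SIso B), (∀ v, nf B O (g • v) = nf B O v) → ∀ z,
      sm (nf B O) (perp B (Submodule.span F {g • z})) = sm (nf B O) (perp B (Submodule.span F {z})) := by
    intro g hg z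
    simp only [sm_perp_span]
    rw [← Equiv.sum_comp (MulAction.toPerm g : Equiv.Perm V)]
    refine Finset.sum_congr rfl fun v _ => ?_
    rw [MulAction.toPerm_apply, hg]
    simp only [B_smul]
  have hsc : ∀ (c : F) (z : V), c ≠ 0 → sm (nf B O) (perp B (Submodule.span F {c • z})) =
      sm (nf B O) (perp B (Submodule.span F {z})) := by
    intro c z hc
    simp only [sm_perp_span]
    refine Finset.sum_congr rfl fun v _ => ?_
    have : B v (c • z) = 0 ↔ B v z = 0 := by
      rw [map_smul, smul_eq_zero]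
      exact ⟨fun h => h.resolve_left hc, Or.inr⟩
    simp only [this]
  obtain ⟨lam, hlam⟩ : ∃ lam : ℝ, ∀ v, τ v = lam * nf B O v := by
    refine exists_lam hO hτ' ?_ ?_ ?_
    · -- the sum
      obtain ⟨a, ha⟩ := hO.ne
      obtain ⟨ha0, haa⟩ := hO.mem_iso ha
      have hcnt : ∀ v : V, v ≠ 0 ∧ B v v = 0 →
          (∑ z : V, if (z ≠ 0 ∧ B z z = 0) ∧ B v z = 0 then (1 : ℝ) else 0) =
          ∑ z : V, if (z ≠ 0 ∧ B z z = 0) ∧ B a z = 0 then (1 : ℝ) else 0 := by
        rintro v ⟨hv0, hvv⟩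
        obtain ⟨g, c, hc, e⟩ := exists_smul_iso ht ha0 haa hv0 hvv
        rw [← Equiv.sum_comp (MulAction.toPerm g : Equiv.Perm V)]
        refine Finset.sum_congr rfl fun z _ => ?_
        have h1 : B v (g • z) = 0 ↔ B a z = 0 := by
          have h2 : B (c • v) (g • z) = B a z := by rw [← e, B_smul]
          rw [smul_left'] at h2
          rw [← h2, mul_eq_zero]
          exact ⟨Or.inr, fun h => h.resolve_left ((map_ne_zero σ).2 hc)⟩
        rw [MulAction.toPerm_apply]
        simp only [h1, B_smul, Ne, smul_eq_zero']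
      have h1 : ∀ z, τ z = ∑ v, if (z ≠ 0 ∧ B z z = 0) ∧ B v z = 0 then nf B O v else 0 := by
        intro z
        by_cases hz : z ≠ 0 ∧ B z z = 0
        · rw [hτ z hz, sm_perp_span]
          exact Finset.sum_congr rfl fun v _ => if_congr (and_iff_right hz).symm rfl rfl
        · rw [hτ' z hz]
          simp only [hz, false_and, if_false, Finset.sum_const_zero]
      simp only [h1]
      rw [Finset.sum_comm]
      have h2 : ∀ v, (∑ z : V, if (z ≠ 0 ∧ B z z = 0) ∧ B v z = 0 then nf B O v else 0) =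
          nf B O v * ∑ z : V, if (z ≠ 0 ∧ B z z = 0) ∧ B a z = 0 then (1 : ℝ) else 0 := by
        intro v
        by_cases hv : v ≠ 0 ∧ B v v = 0
        · rw [← hcnt v hv, Finset.mul_sum]
          refine Finset.sum_congr rfl fun z _ => ?_
          split_ifs <;> ring
        · rw [nf_not hO hv, zero_mul]
          simp only [_root_.ne_eq, _root_.ite_self, _root_.Finset.sum_const_zero]
      simp only [h2]
      rw [← Finset.sum_mul, sum_nf hO, zero_mul]
    · intro g hg z
      by_cases hz : z ≠ 0 ∧ B z z = 0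
      · have hz' : g • z ≠ 0 ∧ B (g • z) (g • z) = 0 := by
          rw [Ne, smul_eq_zero', B_smul]; exact hz
        rw [hτ _ hz, hτ _ hz', hgen g (nf_smul hO hg)]
      · have hz' : ¬(g • z ≠ 0 ∧ B (g • z) (g • z) = 0) := by
          rw [Ne, smul_eq_zero', B_smul]; exact hz
        rw [hτ' _ hz, hτ' _ hz']
    · intro c hc z
      have hiff : (c • z ≠ 0 ∧ B (c • z) (c • z) = 0) ↔ (z ≠ 0 ∧ B z z = 0) := by
        rw [smul_ne_zero_iff, smul_left', smul_right', mul_eq_zero, mul_eq_zero, map_eq_zero]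
        simp [hc]
      by_cases hz : z ≠ 0 ∧ B z z = 0
      · rw [hτ _ hz, hτ _ (hiff.2 hz), hsc c z hc]
      · rw [hτ' _ hz, hτ' _ fun h => hz (hiff.1 h)]
  refine ⟨lam, fun z hz => ?_⟩
  by_cases h0 : z = 0
  · subst h0
    rw [nf_zero hO, mul_zero, sm_perp_span]
    simp only [map_zero, if_true]
    exact sum_nf hO
  · rw [← hlam, hτ z ⟨h0, hz⟩]

section Main

variable {X : Type*} [Fintype X] [MulAction (SIso B) X] [MulAction.IsPretransitive (SIso B) X] (x₀ : X) {r : X → ℝ}

theorem sum_r (hr : Orth B r) : ∑ x, r x = 0 := by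
  have h := hr 0 (fun i => i.elim0) (fun _ => 1) ⟨linearIndependent_empty_type, fun i => i.elim0⟩ (fun _ _ _ => rfl)
  simpa only [_root_.one_mul] using h

theorem rd (h3 : Nat.card (MulAction.orbitRel.Quotient (MulAction.stabilizer (SIso B) x₀) X) ≤ 3) (hr : Orth B r)
    (hr0 : r ≠ 0) : Rd (SIso B) x₀ r :=
  ⟨inferInstance, h3, hr0, sum_r hr⟩

/-- the point kernel -/
theorem exists_F0 (ht : Tr1 B) {O : Set V} (hO : Orb (MulAction.stabilizer (SIso B) x₀) O) (hr : Orth B r) :
    ∃ F₀ : Matrix X V ℝ, _root_.Cfsg.Agent.H91.RankThree.Inv (SIso B) F₀ ∧ (∀ v, F₀ x₀ v = nf B O v) ∧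
      (∀ x (c : F) v, c ≠ 0 → F₀ x (c • v) = F₀ x v) ∧ Zc F₀ ∧ F₀ ≠ 0 ∧ F₀.transpose.mulVec r = 0 := by
  classical
  obtain ⟨F₀, hF, h0⟩ := exists_kernel (X := X) x₀ (f := nf B O) fun g hg v => nf_smul hO hg v
  have hrow : ∀ (g : SIso B) v, F₀ (g • x₀) v = nf B O (g⁻¹ • v) := by
    intro g v
    rw [← h0, ← hF g x₀, smul_inv_smul]
  have hz : ∀ x v, ¬(v ≠ 0 ∧ B v v = 0) → F₀ x v = 0 := by
    intro x v hv
    obtain ⟨g, rfl⟩ := MulAction.exists_smul_eq (SIso B) x₀ x
    rw [hrow]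
    refine nf_not hO ?_
    rw [Ne, smul_eq_zero', B_smul]
    exact hv
  have hsc : ∀ x (c : F) v, c ≠ 0 → F₀ x (c • v) = F₀ x v := by
    intro x c v hc
    obtain ⟨g, rfl⟩ := MulAction.exists_smul_eq (SIso B) x₀ x
    rw [hrow, hrow]
    have h1 : g⁻¹ • c • v = c • g⁻¹ • v := map_smul g⁻¹.1 c v
    rw [h1, nf_csmul hO hc]
  have hcol : Zc F₀ := by
    have hm : ∀ (g : SIso B) v, ∑ x, F₀ x (g • v) = ∑ x, F₀ x v := by
      intro g v
      rw [← Equiv.sum_comp (MulAction.toPerm g : Equiv.Perm X)]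
      exact Finset.sum_congr rfl fun x _ => hF g x v
    have hrs : ∀ x, ∑ v, F₀ x v = 0 := by
      intro x
      obtain ⟨g, rfl⟩ := MulAction.exists_smul_eq (SIso B) x₀ x
      rw [Finset.sum_congr rfl fun v _ => hrow g v, ← sum_nf hO]
      exact Equiv.sum_comp (MulAction.toPerm g⁻¹ : Equiv.Perm V) (nf B O)
    obtain ⟨a, ha⟩ := hO.ne
    obtain ⟨ha0, haa⟩ := hO.mem_iso ha
    have hconst : ∀ v, v ≠ 0 → B v v = 0 → ∑ x, F₀ x v = ∑ x, F₀ x a := by
      intro v hv hvv
      obtain ⟨g, c, hc, e⟩ := exists_smul_iso ht ha0 haa hv hvv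
      rw [← hm g a, e]
      exact Finset.sum_congr rfl fun x _ => (hsc x c v hc).symm
    have hm0 : ∑ x, F₀ x a = 0 := by
      have h1 : ∑ v : V, (if v ≠ 0 ∧ B v v = 0 then ∑ x, F₀ x a else 0) = ∑ v : V, ∑ x, F₀ x v := by
        refine Finset.sum_congr rfl fun v _ => ?_
        split_ifs with hv
        · exact (hconst v hv.1 hv.2).symm
        · simp only [hz _ v hv, Finset.sum_const_zero]
      rw [sum_ite_iso, Finset.sum_comm] at h1
      simp only [hrs, Finset.sum_const_zero] at h1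
      exact (mul_eq_zero.1 h1).resolve_right hO.mu_ne
    intro v
    by_cases hv : v ≠ 0 ∧ B v v = 0
    · rw [hconst v hv.1 hv.2, hm0]
    · simp only [hz _ v hv, Finset.sum_const_zero]
  refine ⟨F₀, hF, h0, hsc, hcol, ?_, ?_⟩
  · intro e
    obtain ⟨a, ha⟩ := hO.ne
    obtain ⟨b, hb0, hbb, hb⟩ := hO.ne'
    have h1 : nf B O a = 0 := by rw [← h0, e]; rfl
    have h2 : nf B O b = 0 := by rw [← h0, e]; rfl
    unfold nf at h1 h2
    rw [if_pos ha, if_pos (hO.mem_iso ha)] at h1
    rw [if_neg hb, if_pos ⟨hb0, hbb⟩] at h2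
    linarith only [h1, h2]
  · funext v
    rw [Matrix.mulVec, Pi.zero_apply]
    change ∑ x, F₀ x v * r x = 0
    by_cases hv : v ≠ 0 ∧ B v v = 0
    · refine hr 1 (fun _ => v) (fun x => F₀ x v) ⟨LinearIndependent.of_subsingleton 0 hv.1, fun _ _ => hv.2⟩ ?_
      intro g hg x
      have h1 : g⁻¹ • v ∈ Submodule.span F {v} := by
        have h2 := hg 1
        rw [W_of_le _ le_rfl, Set.range_const] at h2
        have h3 : v ∈ (Submodule.span F {v}).map (g.1 : V →ₗ[F] V) := by
          rw [h2]; exact Submodule.mem_span_singleton_self v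
        obtain ⟨w, hw, e⟩ := h3
        have h4 : g⁻¹ • v = w := by
          rw [inv_smul_eq_iff]; exact e.symm
        rw [h4]; exact hw
      obtain ⟨c, hc⟩ := Submodule.mem_span_singleton.1 h1
      have hc0 : c ≠ 0 := by
        rintro rfl
        rw [zero_smul] at hc
        exact hv.1 ((smul_eq_zero' g⁻¹).1 hc.symm)
      rw [← hF g⁻¹ (g • x) v, inv_smul_smul, ← hc, hsc x c v hc0]
    · simp only [hz _ v hv, zero_mul, Finset.sum_const_zero]

/-- **Invariant functions on flags are affine functions of the intersection numbers.** -/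
theorem aff (hn : 6 ≤ finrank F V) (hB : HForm B)
    (h3 : Nat.card (MulAction.orbitRel.Quotient (MulAction.stabilizer (SIso B) x₀) X) ≤ 3)
    {O : Set V} (hO : Orb (MulAction.stabilizer (SIso B) x₀) O) (hr : Orth B r) (hr0 : r ≠ 0) :
    AffP (MulAction.stabilizer (SIso B) x₀) O := by
  classical
  intro j f hf hfl
  have ht : Tr1 B := fun j u u' hu hu' => Cfsg.Agent.H450.UF.exists_flag_map0 hB hu hu'
  have hRd := rd x₀ h3 hr hr0
  obtain ⟨F₀, hF₀, h0, hsc, hz0, hne0, hr00⟩ := exists_F0 x₀ ht hO hr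
  obtain ⟨lam, hlam⟩ := exists_lam' ht hO
  obtain ⟨γ, hγ, hfac⟩ := hRd.factor hF₀ hz0 hne0 hr00
  by_cases hex : ∃ u : Fin j → V, Frame B u
  swap
  · exact ⟨0, fun _ => 0, fun u hu => absurd ⟨u, hu⟩ hex⟩
  obtain ⟨u₁, hu₁⟩ := hex
  obtain ⟨A, hA, hA0⟩ := exists_kernel x₀ hf
  have hcardX : (Fintype.card X : ℝ) ≠ 0 := by
    have : Nonempty X := ⟨x₀⟩
    exact_mod_cast Fintype.card_ne_zero
  set m₁ : ℝ := (∑ x, A x u₁) / Fintype.card X with hm₁
  have hframe : ∀ (g : SIso B) (u : Fin j → V), Frame B (g • u) ↔ Frame B u := by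
    intro g u
    refine ⟨fun h => ?_, fun h => frame_smul h g⟩
    have := frame_smul h g⁻¹
    rwa [inv_smul_smul] at this
  -- flag invariance
  have hAfl : ∀ x u u', Frame B u → Frame B u' → (∀ i, W F u i = W F u' i) → A x u = A x u' := by
    intro x u u' hu hu' hW
    obtain ⟨g, rfl⟩ := MulAction.exists_smul_eq (SIso B) x₀ x
    rw [← hA g⁻¹ (g • x₀) u, ← hA g⁻¹ (g • x₀) u', inv_smul_smul, hA0, hA0]
    rw [hfl _ _ (frame_smul hu g⁻¹) (frame_smul hu' g⁻¹) (fun i => by rw [W_smul, W_smul, hW])]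
  let Fm : Matrix X (Fin j → V) ℝ := fun x u => if Frame B u then A x u - m₁ else 0
  have hFm : ∀ x u, Frame B u → Fm x u = A x u - m₁ := fun x u hu => if_pos hu
  have hFi : _root_.Cfsg.Agent.H91.RankThree.Inv (SIso B) Fm := by
    intro g x u
    change (if Frame B (g • u) then A (g • x) (g • u) - m₁ else 0) = if Frame B u then A x u - m₁ else 0
    simp only [hframe, hA g x u]
  have hFz : Zc Fm := by
    intro u
    by_cases hu : Frame B u
    · simp only [hFm _ u hu]
      obtain ⟨g, hg, e⟩ := ht j u₁ u hu₁ hu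
      have e' : ∀ x, A x ((⟨g, hg⟩ : SIso B) • u₁) = A x u := fun x =>
        hAfl x _ _ (frame_smul hu₁ _) hu fun i => (W_smul _ u₁ i).trans (e i)
      have h1 : ∑ x, A x u = ∑ x, A x u₁ := by
        rw [← Equiv.sum_comp (MulAction.toPerm (⟨g, hg⟩ : SIso B) : Equiv.Perm X)]
        refine Finset.sum_congr rfl fun x _ => ?_
        rw [← e']
        exact hA _ x u₁
      rw [Finset.sum_sub_distrib, h1, Finset.sum_const, Finset.card_univ, nsmul_eq_mul, hm₁, mul_div_cancel₀ _ hcardX,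
        sub_self]
    · refine Finset.sum_eq_zero fun x _ => ?_
      exact if_neg hu
  have hFfl : ∀ x u u', Frame B u → Frame B u' → (∀ i, W F u i = W F u' i) → Fm x u = Fm x u' := by
    intro x u u' hu hu' hW
    rw [hFm _ _ hu, hFm _ _ hu', hAfl x u u' hu hu' hW]
  have hFr : Fm.transpose.mulVec r = 0 := by
    funext u
    rw [Matrix.mulVec, Pi.zero_apply]
    change ∑ x, Fm x u * r x = 0
    by_cases hu : Frame B u
    · refine hr j u (fun x => Fm x u) hu fun g hg x => ?_
      rw [← hFi g⁻¹ (g • x) u, inv_smul_smul]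
      refine hFfl x _ _ (frame_smul hu _) hu fun i => ?_
      rw [W_smul]
      have h1 := hg i
      have h2 : (W F u i) = ((W F u i).map (g.1 : V →ₗ[F] V)).map (g⁻¹.1 : V →ₗ[F] V) := by
        ext v
        constructor
        · intro hv
          exact ⟨g • v, ⟨v, hv, rfl⟩, inv_smul_smul g v⟩
        · rintro ⟨_, ⟨w, hw, rfl⟩, rfl⟩
          have : (g⁻¹.1 : V →ₗ[F] V) ((g.1 : V →ₗ[F] V) w) = w := inv_smul_smul g w
          rw [this]; exact hw
      rw [h1] at h2
      exact h2.symm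
    · refine Finset.sum_eq_zero fun x _ => ?_
      rw [show Fm x u = 0 from if_neg hu, zero_mul]
  have hmain := hfac hFi hFz hFr
  set C : Matrix V (Fin j → V) ℝ := F₀.transpose * Fm with hC
  have hCi : _root_.Cfsg.Agent.H91.RankThree.Inv (SIso B) C := hF₀.transpose.mul hFi
  have hCfl : ∀ v u u', Frame B u → Frame B u' → (∀ i, W F u i = W F u' i) → C v u = C v u' := by
    intro v u u' hu hu' hW
    rw [hC, Matrix.mul_apply, Matrix.mul_apply]
    exact Finset.sum_congr rfl fun x _ => by rw [hFfl x u u' hu hu' hW]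
  have hCcl : ∀ u u' v v', Frame B u → Frame B u' → v ≠ 0 → B v v = 0 → v' ≠ 0 → B v' v' = 0 →
      cl B u v = cl B u' v' → C v u = C v' u' := by
    intro u u' v v' hu hu' hv hvv hv' hvv' hcl
    obtain ⟨g, hg, e, hW⟩ := Cfsg.Agent.H450.UF.exists_flag_map hB hn hu hu' hv hvv hvv' hcl
    rw [← hCi ⟨g, hg⟩ v u]
    have e1 : (⟨g, hg⟩ : SIso B) • v = v' := e
    rw [e1]
    exact hCfl v' _ _ (frame_smul hu _) hu' fun i => by rw [W_smul]; exact hW i
  -- the function of the position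
  let gg : ℕ → ℝ := fun n => if h : ∃ p : (Fin j → V) × V, Frame B p.1 ∧ (p.2 ≠ 0 ∧ B p.2 p.2 = 0) ∧ cl B p.1 p.2 = n then
    C h.choose.2 h.choose.1 else 0
  have hgg : ∀ u v, Frame B u → v ≠ 0 → B v v = 0 → C v u = gg (cl B u v) := by
    intro u v hu hv hvv
    have hex : ∃ p : (Fin j → V) × V, Frame B p.1 ∧ (p.2 ≠ 0 ∧ B p.2 p.2 = 0) ∧ cl B p.1 p.2 = cl B u v :=
      ⟨(u, v), hu, ⟨hv, hvv⟩, rfl⟩
    have e1 : gg (cl B u v) = C hex.choose.2 hex.choose.1 := dif_pos hex
    rw [e1]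
    obtain ⟨h1, h2, h3⟩ := hex.choose_spec
    exact (hCcl _ _ _ _ h1 hu h2.1 h2.2 hv hvv h3).symm
  have hlin : Lin B j (nf B O) (fun u => γ⁻¹ * ∑ i ∈ Finset.range (2 * j + 1),
      (gg i - gg (i + 1)) * sm (nf B O) (Ch B u i)) :=
    (Lin.sum _ fun i _ => (lin_Ch (sum_nf hO) hlam i).const_mul _).const_mul _
  obtain ⟨α, hα⟩ := hlin
  refine ⟨m₁ - ∑ l ∈ Finset.range (j + 1), α l * ((O.ncard : ℝ) / mu B *
    ((Fintype.card F : ℝ) ^ l - 1)), α, fun u hu => ?_⟩
  have h1 : γ * Fm x₀ u = ∑ v, nf B O v * C v u := by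
    have := congrFun (congrFun hmain x₀) u
    rw [Matrix.smul_apply, smul_eq_mul, Matrix.mul_apply] at this
    rw [this]
    exact Finset.sum_congr rfl fun v _ => by rw [h0]
  rw [sum_eq hu (fun v hv => nf_not hO hv) (sum_nf hO) (fun v hv hvv => hgg u v hu hv hvv)] at h1
  have h2 : Fm x₀ u = ∑ l ∈ Finset.range (j + 1), α l * sm (nf B O) (W F u l) := by
    rw [← hα u hu]
    beta_reduce
    rw [← h1, ← mul_assoc, inv_mul_cancel₀ hγ, one_mul]
  rw [hFm _ _ hu, hA0] at h2
  have h3 : f u = m₁ + ∑ l ∈ Finset.range (j + 1), α l * sm (nf B O) (W F u l) := by linarith only [h2]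
  rw [h3, sub_add, ← Finset.sum_sub_distrib, sub_eq_add_neg, ← Finset.sum_neg_distrib]
  congr 1
  refine Finset.sum_congr rfl fun l hl => ?_
  have hl' : l ≤ j := by have := Finset.mem_range.1 hl; omega
  rw [sm_nf (hu.W_ti l), Module.natCard_eq_pow_finrank (K := F), finrank_W hu.li hl', Nat.card_eq_fintype_card]
  push_cast
  ring

end Main

end Cfsg.Agent.H91.U
end

-- part: H449/U/ZeroB
section
/-!
# Two orbits on isotropic points: `(0, b)`-sets (helper449, S2196; port of helper91's symplectic file)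

* `exists_zero_b` : `O` or its complement meets every totally isotropic line in `0` or `b` points;
* `flag_trans` : `K` is transitive on the totally isotropic flags with given intersection numbers with `O`.
-/

set_option autoImplicit false
set_option linter.unusedSectionVars false

namespace Cfsg.Agent.H449.U

open Module Cfsg.Agent.H91.U
open Cfsg.Agent.H450.UF (exists_iso_orth)

variable {F V : Type*} [Field F] [Fintype F] [AddCommGroup V] [Module F V] [FiniteDimensional F V] [Fintype V]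
  {σ : F →+* F} {B : V →ₛₗ[σ] V →ₗ[F] F}

theorem Orb.cone {K : Subgroup (SIso B)} {O : Set V} (h : Orb K O) : Cone F O :=
  ⟨h.zero, fun c hc v hv => (h.smul c hc v).2 hv⟩

/-- the intersection number -/
noncomputable def nn (O : Set V) (L : Submodule F V) : ℕ := ((L : Set V) ∩ O).ncard

theorem span_pair_swap (x y : V) : Submodule.span F {x, y} = Submodule.span F {y, x} := by rw [Set.pair_comm]

theorem li_swap {x y : V} (h : LinearIndependent F ![x, y]) : LinearIndependent F ![y, x] := by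
  rw [LinearIndependent.pair_iff] at h ⊢
  intro s t e
  have := h t s (by rw [add_comm]; exact e)
  exact ⟨this.2, this.1⟩

theorem finrank_span_pair {x y : V} (h : LinearIndependent F ![x, y]) : finrank F (Submodule.span F {x, y}) = 2 := by
  have h1 := finrank_span_eq_card h
  rwa [Fintype.card_fin, Matrix.range_cons, Matrix.range_cons, Matrix.range_empty, Set.union_empty,
    Set.singleton_union] at h1

theorem exists_span_pair {L : Submodule F V} (hL : finrank F L = 2) {x : V} (hx : x ∈ L) (hx0 : x ≠ 0) :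
    ∃ y ∈ L, LinearIndependent F ![x, y] ∧ Submodule.span F {x, y} = L := by
  obtain ⟨y, hy, hyx⟩ : ∃ y ∈ L, y ∉ Submodule.span F {x} := by
    by_contra hcon
    push Not at hcon
    have h1 : L ≤ Submodule.span F {x} := hcon
    have h2 := Submodule.finrank_mono h1
    rw [hL, finrank_span_singleton hx0] at h2
    omega
  have hli : LinearIndependent F ![x, y] := by
    rw [LinearIndependent.pair_iff' hx0]
    intro a e
    exact hyx (Submodule.mem_span_singleton.2 ⟨a, e⟩)
  refine ⟨y, hy, hli, ?_⟩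
  refine Submodule.eq_of_le_of_finrank_eq (Submodule.span_le.2 ?_) ?_
  · rintro z (rfl | rfl)
    · exact hx
    · exact hy
  · rw [hL, finrank_span_pair hli]

theorem frame_pair (hB : HForm B) {x y : V} (h : LinearIndependent F ![x, y]) (hx : B x x = 0) (hy : B y y = 0)
    (hxy : B x y = 0) : Frame B ![x, y] := by
  refine ⟨h, ?_⟩
  intro i l
  fin_cases i <;> fin_cases l
  · exact hx
  · exact hxy
  · exact hB.swap_zero hxy
  · exact hy

theorem W_pair_one (x y : V) : W F ![x, y] 1 = Submodule.span F {x} := by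
  unfold W
  congr 1
  ext v
  constructor
  · rintro ⟨l, hl, rfl⟩
    have : l = 0 := Fin.ext (by have : (l : ℕ) < 1 := hl; change (l : ℕ) = 0; omega)
    rw [this]; rfl
  · intro hv
    rw [Set.mem_singleton_iff.1 hv]
    exact ⟨0, Nat.zero_lt_one, rfl⟩

theorem W_pair_two (x y : V) : W F ![x, y] 2 = Submodule.span F {x, y} := by
  rw [W_of_le _ le_rfl, Matrix.range_cons, Matrix.range_cons, Matrix.range_empty, Set.union_empty, Set.singleton_union]

theorem ti_span_pair (hB : HForm B) {x y : V} (hx : B x x = 0) (hy : B y y = 0) (h : B x y = 0) :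
    TI B (Submodule.span F {x, y}) := by
  refine ti_span ?_
  rintro a (rfl | rfl) b (rfl | rfl)
  · exact hx
  · exact h
  · exact hB.swap_zero h
  · exact hy

theorem li_of_mem_of_notMem {K : Subgroup (SIso B)} {O : Set V} (hO : Orb K O) {x y : V} (hx : x ∈ O) (hy0 : y ≠ 0)
    (hy : y ∉ O) : LinearIndependent F ![x, y] := by
  have hx0 : x ≠ 0 := fun e => hO.zero (e ▸ hx)
  rw [LinearIndependent.pair_iff' hx0]
  rintro a rfl
  have ha : a ≠ 0 := by rintro rfl; exact hy0 (zero_smul F x)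
  exact hy ((hO.smul a ha x).2 hx)

/-- intersection numbers with the members of a flag are invariant -/
theorem ncard_W_smul {K : Subgroup (SIso B)} {O : Set V} (hO : Orb K O) {j : ℕ} {g : SIso B} (hg : g ∈ K)
    (u : Fin j → V) (i : ℕ) : nn O (W F (g • u) i) = nn O (W F u i) := by
  unfold nn
  have h1 : ((W F (g • u) i : Set V) ∩ O) = g.1 '' ((W F u i : Set V) ∩ O) := by
    rw [W_smul]
    ext v
    constructor
    · rintro ⟨⟨w, hw, rfl⟩, h2⟩
      exact ⟨w, ⟨hw, (hO.inv g hg w).1 h2⟩, rfl⟩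
    · rintro ⟨w, ⟨hw, h2⟩, rfl⟩
      exact ⟨⟨w, hw, rfl⟩, (hO.inv g hg w).2 h2⟩
  rw [h1, Set.ncard_image_of_injective _ g.1.injective]

/-- the relation on pairs (point, line) -/
theorem star {K : Subgroup (SIso B)} {O : Set V} (hB : HForm B) (hO : Orb K O) (hA : AffP K O) :
    ∃ a a₁ a₂ : ℝ, ∀ x y, LinearIndependent F ![x, y] → B x x = 0 → B y y = 0 → B x y = 0 →
      (nn O (Submodule.span F {x}) : ℝ) * nn O (Submodule.span F {x, y}) =
        a + a₁ * nn O (Submodule.span F {x}) + a₂ * nn O (Submodule.span F {x, y}) := by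
  obtain ⟨a, α, h⟩ := hA 2 (fun u => (nn O (W F u 1) : ℝ) * nn O (W F u 2))
    (fun g hg u => by simp only [ncard_W_smul hO hg u]) (fun u u' _ _ hW => by simp only [hW])
  refine ⟨a, α 1, α 2, fun x y hxy hx hy hB0 => ?_⟩
  have h1 := h _ (frame_pair hB hxy hx hy hB0)
  rw [Finset.sum_range_succ, Finset.sum_range_succ, Finset.sum_range_one, W_pair_one, W_pair_two, W_zero] at h1
  have h2 : ((⊥ : Submodule F V) : Set V) ∩ O = ∅ := by
    ext v
    constructor
    · rintro ⟨h3, h4⟩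
      rw [(Submodule.mem_bot F).1 h3] at h4
      exact absurd h4 hO.zero
    · exact fun h => h.elim
  rw [h2, Set.ncard_empty, Nat.cast_zero, mul_zero, zero_add] at h1
  rw [h1]
  unfold nn
  ring

/-- there is a mixed line -/
theorem exists_mixed {K : Subgroup (SIso B)} {O : Set V} (hB : HForm B) (hO : Orb K O) (hV : 4 ≤ finrank F V) :
    ∃ x y, x ∈ O ∧ y ≠ 0 ∧ B y y = 0 ∧ y ∉ O ∧ B x y = 0 := by
  obtain ⟨v, hv⟩ := hO.ne
  obtain ⟨w, hw0, hww, hw⟩ := hO.ne'
  obtain ⟨z, hz0, hzz, h1⟩ := exists_iso_orth hB ![v, w] (by rw [Fintype.card_fin]; exact hV)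
  by_cases hz : z ∈ O
  · exact ⟨z, w, hz, hw0, hww, hw, hB.swap_zero (h1 1)⟩
  · exact ⟨v, z, hv, hz0, hzz, hz, h1 0⟩

theorem nn_eq_of_subset {O : Set V} {L : Submodule F V} (hL : finrank F L = 2) (h : ∀ v ∈ L, v ≠ 0 → v ∈ O)
    (h0 : (0 : V) ∉ O) : nn O L = Fintype.card F ^ 2 - 1 := by
  have h1 : ((L : Set V) ∩ O) = (L : Set V) \ {0} := by
    ext v
    constructor
    · exact fun hv => ⟨hv.1, fun e => h0 (Set.mem_singleton_iff.1 e ▸ hv.2)⟩
    · exact fun hv => ⟨hv.1, h v hv.1 fun e => hv.2 (Set.mem_singleton_iff.2 e)⟩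
  unfold nn
  rw [h1, Set.ncard_sdiff_singleton_of_mem (show (0 : V) ∈ (L : Set V) from L.zero_mem), card_submodule L, hL]

theorem nn_lt {O : Set V} {L : Submodule F V} (hL : finrank F L = 2) {y : V} (hy : y ∈ L) (hy0 : y ≠ 0) (hyO : y ∉ O)
    (h0 : (0 : V) ∉ O) : nn O L < Fintype.card F ^ 2 - 1 := by
  have h1 : ((L : Set V) ∩ O) ⊂ (L : Set V) \ {0} := by
    refine ⟨fun v hv => ⟨hv.1, fun e => h0 (Set.mem_singleton_iff.1 e ▸ hv.2)⟩, fun h => ?_⟩
    exact hyO (h ⟨hy, fun e => hy0 (Set.mem_singleton_iff.1 e)⟩).2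
  have h2 := Set.ncard_lt_ncard h1
  rw [Set.ncard_sdiff_singleton_of_mem (show (0 : V) ∈ (L : Set V) from L.zero_mem), card_submodule L, hL] at h2
  exact h2

theorem nn_pos {O : Set V} {L : Submodule F V} {x : V} (hx : x ∈ L) (hxO : x ∈ O) : 0 < nn O L :=
  (Set.ncard_pos (Set.toFinite _)).2 ⟨x, hx, hxO⟩

theorem nn_eq_zero {O : Set V} {L : Submodule F V} (h : ∀ x ∈ L, x ∉ O) : nn O L = 0 := by
  unfold nn
  rw [Set.ncard_eq_zero (Set.toFinite _)]
  ext v
  constructor
  · rintro ⟨h4, h5⟩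
    exact absurd h5 (h v h4)
  · exact fun h => h.elim

variable (B) in
/-- every totally isotropic line meets `O` in `0` or `b` vectors -/
structure ZV (O : Set V) (b : ℕ) : Prop where
  pos : 0 < b
  lt : b < Fintype.card F ^ 2 - 1
  line : ∀ L : Submodule F V, finrank F L = 2 → TI B L → nn O L = 0 ∨ nn O L = b

theorem exists_zv {K : Subgroup (SIso B)} {O : Set V} (hB : HForm B) (hO : Orb K O) (hA : AffP K O)
    (hV : 4 ≤ finrank F V) : ∃ b, ZV B O b ∨ ZV B (co B O) b := by
  classical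
  obtain ⟨a, a₁, a₂, hst⟩ := star hB hO hA
  have hq1 : 1 < Fintype.card F := Fintype.one_lt_card
  have hq : ((Fintype.card F - 1 : ℕ) : ℝ) ≠ 0 := by
    have : Fintype.card F - 1 ≠ 0 := by omega
    exact_mod_cast this
  have hnO : ∀ {x : V}, x ∈ O → nn O (Submodule.span F {x}) = Fintype.card F - 1 :=
    fun hx => ncard_span_of_mem (Orb.cone hO) hx
  have hnO' : ∀ {x : V}, x ∉ O → nn O (Submodule.span F {x}) = 0 := fun hx => ncard_span_of_notMem (Orb.cone hO) hx
  -- mixed lines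
  have hmix : ∀ x y, x ∈ O → y ≠ 0 → B y y = 0 → y ∉ O → B x y = 0 →
      (nn O (Submodule.span F {x, y}) : ℝ) = a₁ ∧ a + a₂ * a₁ = 0 := by
    intro x y hx hy0 hyy hy hxy
    have hli := li_of_mem_of_notMem hO hx hy0 hy
    have h1 := hst x y hli (hO.iso x hx) hyy hxy
    have h2 := hst y x (li_swap hli) hyy (hO.iso x hx) (hB.swap_zero hxy)
    rw [hnO hx] at h1
    rw [hnO' hy, span_pair_swap] at h2
    rw [Nat.cast_zero, zero_mul, mul_zero, add_zero] at h2
    have h3 : (nn O (Submodule.span F {x, y}) : ℝ) = a₁ := by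
      have h4 : ((Fintype.card F - 1 : ℕ) : ℝ) * (nn O (Submodule.span F {x, y}) - a₁) = 0 := by
        linear_combination h1 - h2
      have := (mul_eq_zero.1 h4).resolve_left hq
      linarith only [this]
    exact ⟨h3, by rw [h3] at h2; exact h2.symm⟩
  obtain ⟨x₁, y₁, hx₁, hy₁0, hyy₁, hy₁, hxy₁⟩ := exists_mixed hB hO hV
  obtain ⟨hm1, hm2⟩ := hmix x₁ y₁ hx₁ hy₁0 hyy₁ hy₁ hxy₁
  have hli₁ := li_of_mem_of_notMem hO hx₁ hy₁0 hy₁
  set b := nn O (Submodule.span F {x₁, y₁}) with hb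
  have hx₁L : x₁ ∈ Submodule.span F {x₁, y₁} := Submodule.subset_span (Or.inl rfl)
  have hy₁L : y₁ ∈ Submodule.span F {x₁, y₁} := Submodule.subset_span (Or.inr rfl)
  have hb0 : 0 < b := nn_pos hx₁L hx₁
  have hb1 : b < Fintype.card F ^ 2 - 1 := nn_lt (finrank_span_pair hli₁) hy₁L hy₁0 hy₁ hO.zero
  -- mixed lines have `b` vectors in `O`
  have hmixL : ∀ L : Submodule F V, TI B L → ∀ x ∈ L, ∀ y ∈ L, finrank F L = 2 → x ∈ O → y ≠ 0 → y ∉ O →
      nn O L = b := by
    intro L hTI x hx y hy hL hxO hy0 hyO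
    have h1 := (hmix x y hxO hy0 (hTI y hy y hy) hyO (hTI x hx y hy)).1
    have h2 : Submodule.span F {x, y} = L := by
      refine Submodule.eq_of_le_of_finrank_eq (Submodule.span_le.2 ?_) ?_
      · rintro z (rfl | rfl)
        · exact hx
        · exact hy
      · rw [finrank_span_pair (li_of_mem_of_notMem hO hxO hy0 hyO), hL]
    rw [h2, ← hm1] at h1
    exact_mod_cast h1
  by_cases hin : ∃ L : Submodule F V, finrank F L = 2 ∧ TI B L ∧ ∀ v ∈ L, v ≠ 0 → v ∈ O
  · -- lines in `O` : no lines in the complement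
    obtain ⟨L', hL', hTI', hin⟩ := hin
    refine ⟨Fintype.card F ^ 2 - 1 - b, Or.inr ⟨by omega, by omega, fun L hL hTI => ?_⟩⟩
    by_cases hLO : ∃ x ∈ L, x ∈ O
    · obtain ⟨x, hx, hxO⟩ := hLO
      by_cases hLH : ∃ y ∈ L, y ≠ 0 ∧ y ∉ O
      · obtain ⟨y, hy, hy0, hyO⟩ := hLH
        right
        have h1 := hmixL L hTI x hx y hy hL hxO hy0 hyO
        have h2 : nn O L + nn (co B O) L = Fintype.card F ^ 2 - 1 := by
          have h3 := nn_eq_of_subset (O := {v : V | v ≠ 0}) hL (fun v _ hv => hv) (fun h => h rfl)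
          rw [← h3]
          unfold nn
          rw [← Set.ncard_union_eq]
          · congr 1
            ext v
            constructor
            · rintro (⟨h4, h5⟩ | ⟨h4, h5⟩)
              · exact ⟨h4, fun e => hO.zero (e ▸ h5)⟩
              · exact ⟨h4, h5.1⟩
            · rintro ⟨h4, h5⟩
              by_cases h6 : v ∈ O
              · exact Or.inl ⟨h4, h6⟩
              · exact Or.inr ⟨h4, h5, hTI v h4 v h4, h6⟩
          · rw [Set.disjoint_left]
            rintro v ⟨_, h4⟩ ⟨_, h5⟩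
            exact h5.2.2 h4
        omega
      · left
        push Not at hLH
        refine nn_eq_zero fun v hv h => ?_
        exact h.2.2 (hLH v hv h.1)
    · -- a line in the complement: contradiction
      exfalso
      push Not at hLO
      obtain ⟨⟨y, hy⟩, hy0⟩ := (Module.finrank_pos_iff_exists_ne_zero (R := F)).1
        (show 0 < finrank F L by omega)
      have hy0' : y ≠ 0 := fun e => hy0 (Subtype.ext e)
      obtain ⟨z, hz, hli, hspan⟩ := exists_span_pair hL hy hy0'
      have h1 := hst y z hli (hTI y hy y hy) (hTI z hz z hz) (hTI y hy z hz)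
      rw [hnO' (hLO y hy), hspan, nn_eq_zero hLO] at h1
      have ha : a = 0 := by push_cast at h1; linarith only [h1]
      have ha2 : a₂ = 0 := by
        rw [ha, zero_add] at hm2
        rcases mul_eq_zero.1 hm2 with h | h
        · exact h
        · exfalso
          rw [← hm1] at h
          have : (b : ℝ) ≠ 0 := by exact_mod_cast hb0.ne'
          exact this h
      obtain ⟨⟨x, hx⟩, hx0⟩ := (Module.finrank_pos_iff_exists_ne_zero (R := F)).1
        (show 0 < finrank F L' by omega)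
      have hx0' : x ≠ 0 := fun e => hx0 (Subtype.ext e)
      obtain ⟨z, hz, hli, hspan⟩ := exists_span_pair hL' hx hx0'
      have h3 := hst x z hli (hTI' x hx x hx) (hTI' z hz z hz) (hTI' x hx z hz)
      rw [hnO (hin x hx hx0'), hspan, nn_eq_of_subset hL' hin hO.zero, ha, ha2, zero_mul, add_zero,
        zero_add, mul_comm] at h3
      have h4 := mul_right_cancel₀ hq h3
      rw [← hm1] at h4
      have h5 : Fintype.card F ^ 2 - 1 = b := by exact_mod_cast h4
      omega
  · refine ⟨b, Or.inl ⟨hb0, hb1, fun L hL hTI => ?_⟩⟩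
    push Not at hin
    obtain ⟨y, hy, hy0, hyO⟩ := hin L hL hTI
    by_cases hLO : ∃ x ∈ L, x ∈ O
    · obtain ⟨x, hx, hxO⟩ := hLO
      exact Or.inr (hmixL L hTI x hx y hy hL hxO hy0 hyO)
    · left
      push Not at hLO
      exact nn_eq_zero hLO

variable (B) in
/-- every totally isotropic line meets `O` in `0` or `b` points -/
structure ZB (O : Set V) (b : ℕ) : Prop where
  pos : 0 < b
  le : b ≤ Fintype.card F
  line : ∀ L : Submodule F V, finrank F L = 2 → TI B L → nn O L = 0 ∨ nn O L = b * (Fintype.card F - 1)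

theorem ZV.zb {K : Subgroup (SIso B)} {O : Set V} (hB : HForm B) (hO : Orb K O) (hV : 4 ≤ finrank F V) {b : ℕ}
    (hZ : ZV B O b) : ∃ β, ZB B O β := by
  obtain ⟨x, y, hx, hy0, hyy, hy, hxy⟩ := exists_mixed hB hO hV
  have hli := li_of_mem_of_notMem hO hx hy0 hy
  have h1 : nn O (Submodule.span F {x, y}) = b := by
    rcases hZ.line _ (finrank_span_pair hli) (ti_span_pair hB (hO.iso x hx) hyy hxy) with h | h
    · exfalso
      have := nn_pos (L := Submodule.span F {x, y}) (Submodule.subset_span (Or.inl rfl)) hx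
      omega
    · exact h
  have h0 : (Fintype.card F - 1) ∣ b := by
    rw [← h1]
    have hc := (cone_sub (F := F) (Orb.cone hO) (Submodule.span F {x, y})).dvd
    have h2 := ncard_sub' (F := F) (S := O) (Submodule.span F {x, y}) ⊤
    rw [Submodule.map_subtype_top, Submodule.top_coe, Set.univ_inter] at h2
    rw [h2] at hc
    exact hc
  obtain ⟨β, hβ⟩ := h0
  rw [mul_comm] at hβ
  refine ⟨β, ?_, ?_, fun L hL hTI => by rw [← hβ]; exact hZ.line L hL hTI⟩
  · rcases Nat.eq_zero_or_pos β with h | h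
    · rw [h, zero_mul] at hβ
      have := hZ.pos
      omega
    · exact h
  · have h2 := hZ.lt
    rw [hβ] at h2
    have hq : 1 < Fintype.card F := Fintype.one_lt_card
    have h3 : Fintype.card F ^ 2 - 1 = (Fintype.card F + 1) * (Fintype.card F - 1) := by
      obtain ⟨t, ht⟩ : ∃ t, Fintype.card F = t + 1 := ⟨Fintype.card F - 1, by omega⟩
      rw [ht, Nat.add_sub_cancel]
      have : (t + 1) ^ 2 = (t + 1 + 1) * t + 1 := by ring
      omega
    rw [h3] at h2
    have := lt_of_mul_lt_mul_right h2 (Nat.zero_le _)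
    omega

/-- **`(0, b)`-sets.** -/
theorem exists_zero_b {K : Subgroup (SIso B)} {O : Set V} (hB : HForm B) (hO : Orb K O) (hA : AffP K O)
    (hV : 4 ≤ finrank F V) : ∃ b, ZB B O b ∨ ZB B (co B O) b := by
  obtain ⟨b, h | h⟩ := exists_zv hB hO hA hV
  · obtain ⟨β, hβ⟩ := h.zb hB hO hV
    exact ⟨β, Or.inl hβ⟩
  · obtain ⟨β, hβ⟩ := h.zb hB hO.co hV
    exact ⟨β, Or.inr hβ⟩

theorem flag_smul {j : ℕ} (g : SIso B) (u : Fin j → V) (i : ℕ) :
    (W F u i).map (g.1 : V →ₗ[F] V) = W F (g • u) i := (W_smul g u i).symm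

/-- **`K` is transitive on the flags with given intersection numbers.** -/
theorem flag_trans {K : Subgroup (SIso B)} {O : Set V} (hA : AffP K O) {j : ℕ} {u u' : Fin j → V} (hu : Frame B u)
    (hu' : Frame B u') (h0 : ∀ i, i ≤ j → nn O (W F u i) = nn O (W F u' i)) :
    ∃ g ∈ K, ∀ i, (W F u i).map (g.1 : V →ₗ[F] V) = W F u' i := by
  classical
  let f : (Fin j → V) → ℝ := fun w => if ∃ g ∈ K, ∀ i, (W F w i).map (g.1 : V →ₗ[F] V) = W F u' i then 1 else 0
  obtain ⟨a, α, h⟩ := hA j f (by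
    intro g hg w
    have h1 : (∃ g' ∈ K, ∀ i, (W F (g • w) i).map (g'.1 : V →ₗ[F] V) = W F u' i) ↔
        ∃ g' ∈ K, ∀ i, (W F w i).map (g'.1 : V →ₗ[F] V) = W F u' i := by
      constructor
      · rintro ⟨g', hg', h2⟩
        refine ⟨g' * g, mul_mem hg' hg, fun i => ?_⟩
        rw [← h2 i, flag_smul, flag_smul, mul_smul]
      · rintro ⟨g', hg', h2⟩
        refine ⟨g' * g⁻¹, mul_mem hg' (inv_mem hg), fun i => ?_⟩
        rw [← h2 i, flag_smul, flag_smul, mul_smul, inv_smul_smul]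
    simp only [f, h1]) (by
    intro w w' _ _ hW
    simp only [f, hW])
  have h1 : f u = f u' := by
    rw [h u hu, h u' hu']
    congr 1
    refine Finset.sum_congr rfl fun l hl => ?_
    have := h0 l (by have := Finset.mem_range.1 hl; omega)
    unfold nn at this
    rw [this]
  have h2 : f u' = 1 := by
    refine if_pos ⟨1, one_mem K, fun i => ?_⟩
    rw [flag_smul, one_smul]
  rw [h2] at h1
  by_contra hcon
  have h3 : f u = 0 := if_neg hcon
  rw [h3] at h1
  exact zero_ne_one h1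

end Cfsg.Agent.H449.U
end

-- part: H450/UF/Four
section
/-!
# Stabilisers of totally isotropic subspaces of dimension at least three have rank at least four (helper450)

* `exists_dual_frame` : hyperbolic partners of a frame;
* `exists_inter` : for `i ≤ j` an element of `SIso B` which moves `M = <u>` to a subspace meeting `M` in dimension `j - i`;
* `four_le` : if `K = stabiliser of x₀` leaves the totally isotropic subspace `M` of dimension at least three invariant,
  then `K` has at least four orbits on `X`;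
* `par_main` : the parabolic case: if `K` leaves a nonzero totally isotropic subspace invariant and has rank at most three
  then `|X|` is the number of isotropic points (`n ≥ 6`).
-/

set_option autoImplicit false
set_option linter.unusedSectionVars false

namespace Cfsg.Agent.H450.UF

open Module Cfsg.Agent.H91.U Cfsg.Agent.LieClassical.HermBasic
open Cfsg.Agent.H950 (isoNum)

variable {F V : Type*} [Field F] [AddCommGroup V] [Module F V] {σ : F →+* F} {B : V →ₛₗ[σ] V →ₗ[F] F} {j : ℕ}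

/-- hyperbolic partners -/
theorem exists_dual_frame [Fintype F] [FiniteDimensional F V] {q : ℕ} (hF : Fintype.card F = q ^ 2) (hB : HForm B)
    {u : Fin j → V} (hu : Frame B u) :
    ∃ f : Fin j → V, (∀ a b, B (u a) (f b) = if a = b then 1 else 0) ∧ ∀ a b, B (f a) (f b) = 0 := by
  obtain ⟨φ, hφ⟩ := exists_model hF hB
  have hli : LinearIndependent F (fun i => φ (u i)) :=
    hu.li.map' (φ : V →ₗ[F] (Fin (finrank F V) → F)) (LinearEquiv.ker φ)
  have hti : ∀ a b, Cfsg.hermForm (finrank F V) F q (φ (u a)) (φ (u b)) = 0 := fun a b => by rw [← hφ, hu.ti]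
  obtain ⟨f, h1, h2⟩ := Cfsg.Agent.ClassicalGeometry.HermFrame.exists_hyperbolic hF hli hti
  refine ⟨fun i => φ.symm (f i), fun a b => ?_, fun a b => ?_⟩
  · rw [hφ, φ.apply_symm_apply, herm_swap hF (φ (u a)) (f b), h1]
    split_ifs
    · exact one_pow q
    · exact zero_pow_q hF
  · rw [hφ, φ.apply_symm_apply, φ.apply_symm_apply, h2]

theorem exists_inter [Fintype F] [FiniteDimensional F V] {q : ℕ} (hF : Fintype.card F = q ^ 2) (hB : HForm B)
    {M : Submodule F V} (hM : TI B M) {i : ℕ} (hi : i ≤ finrank F M) :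
    ∃ g : SIso B, finrank F (M ⊓ M.map (g.1 : V →ₗ[F] V) : Submodule F V) = finrank F M - i := by
  classical
  obtain ⟨j, hj⟩ : ∃ j, finrank F M = j := ⟨_, rfl⟩
  obtain ⟨u, hu, hW⟩ := exists_frame_of_ti hM hj
  obtain ⟨f, h1, h2⟩ := exists_dual_frame hF hB hu
  have h1' : ∀ a b, B (f b) (u a) = if a = b then 1 else 0 := by
    intro a b
    rw [sw hB (u a), h1]
    split_ifs
    · exact map_one σ
    · exact map_zero σ
  let w : Fin j → V := fun l => if (l : ℕ) < i then f l else u l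
  have hw1 : ∀ l : Fin j, (l : ℕ) < i → w l = f l := fun l hl => if_pos hl
  have hw2 : ∀ l : Fin j, ¬ (l : ℕ) < i → w l = u l := fun l hl => if_neg hl
  -- coefficients
  have hc1 : ∀ (c : Fin j → F) (l : Fin j), (l : ℕ) < i → B (u l) (∑ a, c a • w a) = c l := by
    intro c l hl
    rw [map_sum, Finset.sum_eq_single l]
    · rw [smul_right, hw1 l hl, h1, if_pos rfl, mul_one]
    · intro a _ hal
      rw [smul_right]
      by_cases ha : (a : ℕ) < i
      · rw [hw1 a ha, h1, if_neg (Ne.symm hal), mul_zero]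
      · rw [hw2 a ha, hu.ti, mul_zero]
    · exact fun h => absurd (Finset.mem_univ l) h
  have hc2 : ∀ (c : Fin j → F) (l : Fin j), ¬ (l : ℕ) < i → B (f l) (∑ a, c a • w a) = c l := by
    intro c l hl
    rw [map_sum, Finset.sum_eq_single l]
    · rw [smul_right, hw2 l hl, h1', if_pos rfl, mul_one]
    · intro a _ hal
      rw [smul_right]
      by_cases ha : (a : ℕ) < i
      · rw [hw1 a ha, h2, mul_zero]
      · rw [hw2 a ha, h1', if_neg hal, mul_zero]
    · exact fun h => absurd (Finset.mem_univ l) h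
  have hwF : Frame B w := by
    refine ⟨?_, ?_⟩
    · rw [Fintype.linearIndependent_iff]
      intro c hc l
      by_cases hl : (l : ℕ) < i
      · rw [← hc1 c l hl, hc, map_zero]
      · rw [← hc2 c l hl, hc, map_zero]
    · intro a b
      by_cases ha : (a : ℕ) < i <;> by_cases hb : (b : ℕ) < i
      · rw [hw1 a ha, hw1 b hb, h2]
      · rw [hw1 a ha, hw2 b hb, h1', if_neg]
        rintro rfl
        exact hb ha
      · rw [hw2 a ha, hw1 b hb, h1, if_neg]
        rintro rfl
        exact ha hb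
      · rw [hw2 a ha, hw2 b hb, hu.ti]
  obtain ⟨g, hg, hgW⟩ := exists_flag_map0 hB hu hwF
  refine ⟨⟨g, hg⟩, ?_⟩
  have h3 : M.map ((⟨g, hg⟩ : SIso B).1 : V →ₗ[F] V) = Submodule.span F (Set.range w) := by
    rw [← hW]
    exact (hgW j).trans (W_of_le w le_rfl)
  have h4 : M ⊓ Submodule.span F (Set.range w) =
      Submodule.span F (Set.range fun l : {l : Fin j // ¬ (l : ℕ) < i} => u l) := by
    apply le_antisymm
    · rintro x ⟨hx1, hx2⟩
      obtain ⟨c, rfl⟩ := (Submodule.mem_span_range_iff_exists_fun F).1 hx2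
      refine Submodule.sum_mem _ fun a _ => ?_
      by_cases ha : (a : ℕ) < i
      · have h5 := hc1 c a ha
        rw [hM (u a) (by rw [← hW]; exact mem_W u a.2) _ hx1] at h5
        rw [← h5, zero_smul]
        exact Submodule.zero_mem _
      · refine Submodule.smul_mem _ _ (Submodule.subset_span ⟨⟨a, ha⟩, (hw2 a ha).symm⟩)
    · rw [Submodule.span_le]
      rintro _ ⟨⟨a, ha⟩, rfl⟩
      refine ⟨?_, ?_⟩
      · rw [← hW]
        exact mem_W u a.2
      · have h5 : u a ∈ Submodule.span F (Set.range w) := by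
          rw [← hw2 a ha]
          exact Submodule.subset_span ⟨a, rfl⟩
        exact h5
  rw [h3, h4, hj]
  have h5 := finrank_span_eq_card (R := F) (hu.li.comp (fun l : {l : Fin j // ¬ (l : ℕ) < i} => l.1)
    Subtype.val_injective)
  refine h5.trans ?_
  have h6 : Fintype.card {l : Fin j // (l : ℕ) < i} = i := by
    have e : {l : Fin j // (l : ℕ) < i} ≃ Fin i :=
      ⟨fun l => ⟨l.1, l.2⟩, fun l => ⟨⟨l, lt_of_lt_of_le l.2 (hj ▸ hi)⟩, l.2⟩, fun _ => rfl, fun _ => rfl⟩
    rw [Fintype.card_congr e, Fintype.card_fin]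
  have h7 := Fintype.card_subtype_compl (fun l : Fin j => (l : ℕ) < i)
  rw [h7, h6, Fintype.card_fin]

/-- a totally isotropic subspace of dimension at least three: rank at least four -/
theorem four_le [Fintype F] [FiniteDimensional F V] {q : ℕ} (hF : Fintype.card F = q ^ 2) (hB : HForm B)
    {M : Submodule F V} (hM : TI B M) (h3 : 3 ≤ finrank F M) {X : Type*} [Finite X] [MulAction (SIso B) X] (x₀ : X)
    (hK : ∀ g ∈ MulAction.stabilizer (SIso B) x₀, M.map (g.1 : V →ₗ[F] V) = M) :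
    4 ≤ Nat.card (MulAction.orbitRel.Quotient (MulAction.stabilizer (SIso B) x₀) X) := by
  classical
  have h : ∀ i : Fin 4, ∃ g : SIso B, finrank F (M ⊓ M.map (g.1 : V →ₗ[F] V) : Submodule F V) = finrank F M - i :=
    fun i => exists_inter hF hB hM (by omega)
  choose g hg using h
  have : Finite (MulAction.orbitRel.Quotient (MulAction.stabilizer (SIso B) x₀) X) := Quotient.finite _
  let f : Fin 4 → MulAction.orbitRel.Quotient (MulAction.stabilizer (SIso B) x₀) X := fun i => Quotient.mk'' (g i • x₀)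
  have hmul : ∀ (a b : SIso B) (C : Submodule F V),
      C.map ((a * b).1 : V →ₗ[F] V) = (C.map (b.1 : V →ₗ[F] V)).map (a.1 : V →ₗ[F] V) := by
    intro a b C
    rw [← Submodule.map_comp]
    rfl
  have hf : Function.Injective f := by
    intro i l e
    have h1 : g i • x₀ ∈ MulAction.orbit (MulAction.stabilizer (SIso B) x₀) (g l • x₀) := Quotient.exact' e
    obtain ⟨⟨k, hk⟩, h2⟩ := h1
    have h4 : k • g l • x₀ = g i • x₀ := h2
    have h5 : (g i)⁻¹ * (k * g l) ∈ MulAction.stabilizer (SIso B) x₀ := by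
      rw [MulAction.mem_stabilizer_iff, mul_smul, mul_smul, h4, inv_smul_smul]
    have h6 := hK _ h5
    have h7 : M.map ((k * g l).1 : V →ₗ[F] V) = M.map ((g i).1 : V →ₗ[F] V) := by
      conv_rhs => rw [← h6]
      rw [← hmul, mul_inv_cancel_left]
    rw [hmul] at h7
    have h8 : M ⊓ M.map ((g i).1 : V →ₗ[F] V) =
        (M ⊓ M.map ((g l).1 : V →ₗ[F] V)).map (k.1 : V →ₗ[F] V) := by
      rw [Submodule.map_inf _ k.1.injective, hK k hk, h7]
    have h9 := hg i
    rw [h8, LinearEquiv.finrank_map_eq, hg l] at h9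
    exact Fin.ext (by omega)
  have h1 := Nat.card_le_card_of_injective f hf
  rwa [Nat.card_eq_fintype_card (α := Fin 4), Fintype.card_fin] at h1

/-- **the parabolic case** -/
theorem par_main [Fintype F] [FiniteDimensional F V] {q : ℕ} (hF : Fintype.card F = q ^ 2) (hB : HForm B)
    (hn : 6 ≤ finrank F V) {X : Type*} [Fintype X] [MulAction (SIso B) X] [MulAction.IsPretransitive (SIso B) X]
    (x₀ : X) (h3 : Nat.card (MulAction.orbitRel.Quotient (MulAction.stabilizer (SIso B) x₀) X) ≤ 3)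
    {M : Submodule F V} (hM : TI B M) (hM0 : M ≠ ⊥)
    (hK : ∀ g ∈ MulAction.stabilizer (SIso B) x₀, M.map (g.1 : V →ₗ[F] V) = M) :
    Fintype.card X * (q ^ 2 - 1) = isoNum q (finrank F V) := by
  by_cases hd : 2 * finrank F M + 2 ≤ finrank F V
  swap
  · have := four_le hF hB hM (by omega) x₀ hK
    omega
  obtain ⟨x, hx, hx0⟩ := Submodule.exists_mem_ne_zero_of_ne_bot hM0
  obtain ⟨z, hz, hzM, hzz⟩ := exists_iso_perp hB hd
  obtain ⟨y, hyy, hxy⟩ := exists_hyp hB hx0 (hM x hx x hx)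
  have hmem : ∀ g ∈ MulAction.stabilizer (SIso B) x₀, ∀ v, g • v ∈ M ↔ v ∈ M := by
    intro g hg v
    conv_lhs => rw [← hK g hg]
    constructor
    · rintro ⟨w, hw, e⟩
      rwa [← g.1.injective e]
    · exact fun h => ⟨v, h, rfl⟩
  have hperp : ∀ g ∈ MulAction.stabilizer (SIso B) x₀, ∀ v, g • v ∈ perp B M ↔ v ∈ perp B M := by
    intro g hg v
    constructor
    · intro h w hw
      rw [← B_smul g]
      exact h _ ((hmem g hg w).2 hw)
    · intro h w hw
      have h1 : g⁻¹ • w ∈ M := (hmem g⁻¹ (inv_mem hg) w).2 hw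
      have h2 := h _ h1
      rwa [← B_smul g, smul_inv_smul] at h2
  have hsm : ∀ (C : Submodule F V) (v w : V) (c : F), v ≠ 0 → v = c • w → (v ∈ C ↔ w ∈ C) := by
    rintro C v w c hv rfl
    have hc : c ≠ 0 := by rintro rfl; exact hv (zero_smul F w)
    exact Submodule.smul_mem_iff C hc
  have hxM : x ∈ perp B M := ti_le_perp hM hx
  have hyM : y ∉ perp B M := fun h => by
    have := hB.swap_zero (h x hx)
    rw [hxy] at this
    exact one_ne_zero this
  have hz0 : z ≠ 0 := fun e => hzM (e ▸ M.zero_mem)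
  have hy0 : y ≠ 0 := fun e => hyM (e ▸ (perp B M).zero_mem)
  have hyM' : y ∉ M := fun h => hyM (ti_le_perp hM h)
  let v : Fin 3 → V := ![x, z, y]
  have hv : ∀ i, v i ≠ 0 := by
    intro i
    fin_cases i
    · exact hx0
    · exact hz0
    · exact hy0
  refine card_of_three hF hB hn x₀ h3 (v := v) hv ?_ ?_
  · intro i
    fin_cases i
    · exact hM x hx x hx
    · exact hzz
    · exact hyy
  · rintro i l ⟨g, hg, c, e⟩
    have hne : g • v i ≠ 0 := (smul_ne_zero_iff_ne g).2 (hv i)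
    have h1 : v i ∈ M ↔ v l ∈ M := (hmem g hg _).symm.trans (hsm M _ _ c hne e)
    have h2 : v i ∈ perp B M ↔ v l ∈ perp B M := (hperp g hg _).symm.trans (hsm _ _ _ c hne e)
    fin_cases i <;> fin_cases l
    · rfl
    · exact absurd (h1.1 hx) hzM
    · exact absurd (h1.1 hx) hyM'
    · exact absurd (h1.2 hx) hzM
    · rfl
    · exact absurd (h2.1 hz) hyM
    · exact absurd (h1.2 hx) hyM'
    · exact absurd (h2.2 hz) hyM
    · rfl

end Cfsg.Agent.H450.UF
end

-- part: H449/U/SixBase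
section
/-!
# The six-dimensional Hermitian space: hyperbolic frames (helper449, for S2196)
-/

set_option autoImplicit false
set_option linter.unusedSectionVars false

namespace Cfsg.Agent.H449.U

open Module Cfsg.Agent.H91.U
open Cfsg.Agent.H450.UF (self_fix)

variable {F V : Type*} [Field F] [Fintype F] [AddCommGroup V] [Module F V] [FiniteDimensional F V]
  {σ : F →+* F} {B : V →ₛₗ[σ] V →ₗ[F] F}

/-- a frame of a plane through a line and a point -/
theorem exists_frame3 {M L : Submodule F V} (hM : finrank F M = 3) (hTI : TI B M) (hL : finrank F L = 2) (hLM : L ≤ M)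
    {s : V} (hs : s ∈ L) (hs0 : s ≠ 0) :
    ∃ u : Fin 3 → V, Frame B u ∧ u 0 = s ∧ W F u 1 = Submodule.span F {s} ∧ W F u 2 = L ∧ W F u 3 = M := by
  obtain ⟨y, hy, hyx⟩ : ∃ y ∈ L, y ∉ Submodule.span F {s} := by
    by_contra hcon
    push Not at hcon
    have h1 : L ≤ Submodule.span F {s} := hcon
    have h2 := Submodule.finrank_mono h1
    rw [hL, finrank_span_singleton hs0] at h2
    omega
  have hli : LinearIndependent F ![s, y] := by
    rw [LinearIndependent.pair_iff' hs0]
    intro a e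
    exact hyx (Submodule.mem_span_singleton.2 ⟨a, e⟩)
  have hfr : finrank F (Submodule.span F {s, y}) = 2 := by
    have h1 := finrank_span_eq_card hli
    rwa [Fintype.card_fin, Matrix.range_cons, Matrix.range_cons, Matrix.range_empty, Set.union_empty,
      Set.singleton_union] at h1
  have hsp : Submodule.span F {s, y} = L := by
    refine Submodule.eq_of_le_of_finrank_eq (Submodule.span_le.2 ?_) (by rw [hfr, hL])
    rintro z (rfl | rfl)
    · exact hs
    · exact hy
  obtain ⟨z, hz, hzL⟩ : ∃ z ∈ M, z ∉ L := by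
    by_contra hcon
    push Not at hcon
    have := Submodule.finrank_mono (show M ≤ L from hcon)
    omega
  let u : Fin 3 → V := ![s, y, z]
  have hW2 : W F u 2 = L := by
    rw [← hsp]
    unfold W
    congr 1
    ext v
    constructor
    · rintro ⟨l, hl, rfl⟩
      have h1 : (l : ℕ) < 2 := hl
      have h2 : l = 0 ∨ l = 1 := by
        rcases l with ⟨l, hl⟩
        have : l = 0 ∨ l = 1 := by
          change l < 2 at h1
          omega
        rcases this with rfl | rfl
        · exact Or.inl rfl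
        · exact Or.inr rfl
      rcases h2 with rfl | rfl
      · exact Or.inl rfl
      · exact Or.inr rfl
    · rintro (rfl | rfl)
      · exact ⟨0, show (0 : ℕ) < 2 by omega, rfl⟩
      · exact ⟨1, show (1 : ℕ) < 2 by omega, rfl⟩
  have hW1 : W F u 1 = Submodule.span F {s} := by
    unfold W
    congr 1
    ext v
    constructor
    · rintro ⟨l, hl, rfl⟩
      have : l = 0 := Fin.ext (by have : (l : ℕ) < 1 := hl; change (l : ℕ) = 0; omega)
      rw [this]; rfl
    · intro hv
      rw [Set.mem_singleton_iff.1 hv]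
      exact ⟨0, Nat.zero_lt_one, rfl⟩
  have hle : Submodule.span F (Set.range u) ≤ M := by
    rw [Submodule.span_le]
    rintro _ ⟨l, rfl⟩
    fin_cases l
    · exact hLM hs
    · exact hLM hy
    · exact hz
  have hlt : L < Submodule.span F (Set.range u) := by
    refine lt_of_le_of_ne ?_ ?_
    · rw [← hW2, ← W_of_le u le_rfl]
      exact W_mono u (by omega)
    · intro e
      apply hzL
      rw [e]
      exact Submodule.subset_span ⟨2, rfl⟩
  have h1 := Submodule.finrank_lt_finrank_of_lt hlt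
  have h2 := Submodule.finrank_mono hle
  have hli3 : LinearIndependent F u := by
    rw [linearIndependent_iff_card_eq_finrank_span, Fintype.card_fin, Set.finrank]
    omega
  have hW3 : W F u 3 = M := by
    rw [W_of_le u le_rfl]
    exact Submodule.eq_of_le_of_finrank_eq hle (by omega)
  refine ⟨u, ⟨hli3, fun i l => ?_⟩, rfl, hW1, hW2, hW3⟩
  exact hTI _ (hle (Submodule.subset_span ⟨i, rfl⟩)) _ (hle (Submodule.subset_span ⟨l, rfl⟩))

/-- hyperbolic frames -/
structure Hyp (B : V →ₛₗ[σ] V →ₗ[F] F) (e f : Fin 3 → V) : Prop where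
  ee : ∀ i j, B (e i) (e j) = 0
  ff : ∀ i j, B (f i) (f j) = 0
  ef : ∀ i j, B (e i) (f j) = if i = j then 1 else 0

theorem Hyp.fe (hB : HForm B) {e f : Fin 3 → V} (h : Hyp B e f) (i j : Fin 3) :
    B (f i) (e j) = if i = j then 1 else 0 := by
  rw [hB.swap, h.ef]
  split_ifs with h1 h2 h2
  · exact map_one σ
  · exact absurd h1.symm h2
  · exact absurd h2.symm h1
  · exact map_zero σ

theorem Hyp.expand (hB : HForm B) (hV : finrank F V = 6) {e f : Fin 3 → V} (h : Hyp B e f) (v : V) :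
    v = ∑ i, B (f i) v • e i + ∑ i, B (e i) v • f i := by
  have he : ∀ (a b : Fin 3 → F) j, B (e j) (∑ i, a i • e i + ∑ i, b i • f i) = b j := by
    intro a b j
    rw [map_add, map_sum, map_sum]
    simp only [smul_right', h.ee, h.ef, mul_zero, Finset.sum_const_zero, zero_add, mul_ite, mul_one]
    rw [Finset.sum_ite_eq, if_pos (Finset.mem_univ _)]
  have hf : ∀ (a b : Fin 3 → F) j, B (f j) (∑ i, a i • e i + ∑ i, b i • f i) = a j := by
    intro a b j
    rw [map_add, map_sum, map_sum]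
    simp only [smul_right', h.ff, h.fe hB, mul_zero, Finset.sum_const_zero, add_zero, mul_ite, mul_one]
    rw [Finset.sum_ite_eq, if_pos (Finset.mem_univ _)]
  have hli : LinearIndependent F (Sum.elim e f) := by
    rw [Fintype.linearIndependent_iff]
    intro g hg
    rw [Fintype.sum_sum_type] at hg
    simp only [Sum.elim_inl, Sum.elim_inr] at hg
    rintro (i | i)
    · have := hf (fun i => g (Sum.inl i)) (fun i => g (Sum.inr i)) i
      rw [hg, map_zero] at this
      exact this.symm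
    · have := he (fun i => g (Sum.inl i)) (fun i => g (Sum.inr i)) i
      rw [hg, map_zero] at this
      exact this.symm
  have hspan : Submodule.span F (Set.range (Sum.elim e f)) = ⊤ := by
    apply hli.span_eq_top_of_card_eq_finrank'
    rw [Fintype.card_sum, Fintype.card_fin, hV]
  have hv : v ∈ Submodule.span F (Set.range (Sum.elim e f)) := by rw [hspan]; trivial
  obtain ⟨c, hc⟩ := (Submodule.mem_span_range_iff_exists_fun F).1 hv
  rw [Fintype.sum_sum_type] at hc
  simp only [Sum.elim_inl, Sum.elim_inr] at hc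
  have h1 : ∀ i, B (f i) v = c (Sum.inl i) := fun i => by rw [← hc]; exact hf _ _ i
  have h2 : ∀ i, B (e i) v = c (Sum.inr i) := fun i => by rw [← hc]; exact he _ _ i
  simp only [h1, h2]
  exact hc.symm

theorem Hyp.swap (hB : HForm B) {e f : Fin 3 → V} (h : Hyp B e f) : Hyp B ![e 0, e 1, f 2] ![f 0, f 1, e 2] := by
  refine ⟨fun i j => ?_, fun i j => ?_, fun i j => ?_⟩ <;> (revert i j; simp only [h.ee, h.ff, h.ef, h.fe hB, _root_.Fin.forall_fin_succ, Fin.isValue, _root_.Matrix.cons_val_zero, _root_.Matrix.cons_val_succ, _root_.Matrix.cons_val_fin_one, _root_.forall_const, Fin.reduceEq, ↓reduceIte, _root_.and_self, _root_.implies_true, _root_.Fin.succ_zero_eq_one, _root_.Fin.succ_one_eq_two, _root_.IsEmpty.forall_iff, _root_.and_true, _root_.zero_ne_one, _root_.Fin.succ_ne_zero, _root_.one_ne_zero, _root_.right_eq_ite_iff, _root_.imp_false, _root_.left_eq_ite_iff, _root_.Decidable.not_not, _root_.true_and, _root_.not_false_eq_true])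

theorem Hyp.li (hB : HForm B) {e f : Fin 3 → V} (h : Hyp B e f) : LinearIndependent F e := by
  rw [Fintype.linearIndependent_iff]
  intro g hg i
  have h1 : B (f i) (∑ j, g j • e j) = g i := by
    rw [map_sum]
    simp only [smul_right', h.fe hB, mul_ite, mul_one, mul_zero]
    rw [Finset.sum_ite_eq, if_pos (Finset.mem_univ _)]
  rw [← h1, hg, map_zero]

theorem Hyp.frame (hB : HForm B) {e f : Fin 3 → V} (h : Hyp B e f) : Frame B e := ⟨h.li hB, h.ee⟩

/-- the data for the six-dimensional case -/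
structure SixD (B : V →ₛₗ[σ] V →ₗ[F] F) (O : Set V) (K : Subgroup (V ≃ₗ[F] V)) : Prop where
  hB : HForm B
  hV : finrank F V = 6
  cone : Cone F O
  iso : ∀ v ∈ O, B v v = 0
  one : ∀ x ∈ O, ∀ y ∈ O, B x y = 0 → y ∈ Submodule.span F {x}
  meet : ∀ M : Submodule F V, finrank F M = 3 → TI B M → ∃ x ∈ M, x ∈ O
  isom : ∀ k ∈ K, ∀ x y, B (k x) (k y) = B x y
  inv : ∀ k ∈ K, ∀ v ∈ O, k v ∈ O
  tr : ∀ u u' : Fin 3 → V, Frame B u → Frame B u' → (∀ i, (∃ v ∈ W F u i, v ∈ O) ↔ (∃ v ∈ W F u' i, v ∈ O)) →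
    W F u 3 = W F u' 3 → ∃ k ∈ K, ∀ i, (W F u i).map (k : V →ₗ[F] V) = W F u' i

/-- there is a hyperbolic frame with first vector in `O` -/
theorem SixD.exists_frame {q : ℕ} (hF : Fintype.card F = q ^ 2) {O : Set V} {K : Subgroup (V ≃ₗ[F] V)} (D : SixD B O K) :
    ∃ e f : Fin 3 → V, Hyp B e f ∧ e 0 ∈ O := by
  have : Finite V := Module.finite_of_finite F
  obtain ⟨M, -, hTI, hM⟩ := Cfsg.Agent.H450.UF.exists_ti_le D.hB Cfsg.Agent.H450.UF.ti_bot (k := 3) (by
    rw [finrank_bot]; omega) (by rw [D.hV])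
  obtain ⟨x, hx, hxO⟩ := D.meet M hM hTI
  have hx0 := D.cone.ne hxO
  obtain ⟨y, hy, hyx⟩ : ∃ y ∈ M, y ∉ Submodule.span F {x} := by
    by_contra hcon
    push Not at hcon
    have h1 : M ≤ Submodule.span F {x} := hcon
    have h2 := Submodule.finrank_mono h1
    rw [hM, finrank_span_singleton hx0] at h2
    omega
  have hli : LinearIndependent F ![x, y] := by
    rw [LinearIndependent.pair_iff' hx0]
    intro a e
    exact hyx (Submodule.mem_span_singleton.2 ⟨a, e⟩)
  have hL : finrank F (Submodule.span F {x, y}) = 2 := by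
    have h1 := finrank_span_eq_card hli
    rwa [Fintype.card_fin, Matrix.range_cons, Matrix.range_cons, Matrix.range_empty, Set.union_empty,
      Set.singleton_union] at h1
  obtain ⟨u, hu, hu0, -⟩ := exists_frame3 (B := B) hM hTI hL (Submodule.span_le.2 (by
    rintro z (rfl | rfl)
    · exact hx
    · exact hy)) (Submodule.subset_span (Or.inl rfl)) hx0
  obtain ⟨f, h1, h2⟩ := Cfsg.Agent.H450.UF.exists_dual_frame hF D.hB hu
  exact ⟨u, f, ⟨hu.ti, h2, h1⟩, by rw [hu0]; exact hxO⟩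

end Cfsg.Agent.H449.U
end

-- part: H449/U/Six
section
/-!
# No `(0, 1)`-sets in dimension six (helper449, for S2196)
-/

set_option autoImplicit false
set_option linter.unusedSectionVars false

namespace Cfsg.Agent.H449.U

open Module Cfsg.Agent.H91.U
open Cfsg.Agent.H450.UF (self_fix)

variable {F V : Type*} [Field F] [Fintype F] [AddCommGroup V] [Module F V] [FiniteDimensional F V]
  {σ : F →+* F} {B : V →ₛₗ[σ] V →ₗ[F] F} {O : Set V} {K : Subgroup (V ≃ₗ[F] V)} {e f : Fin 3 → V}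

/-! ### the group acting on `⟨e⟩` by transvections with centre `e 0` -/

/-- the elements of `K` acting on `⟨e 0, e 1, e 2⟩` as transvections with centre `e 0` -/
def AM (K : Subgroup (V ≃ₗ[F] V)) (e : Fin 3 → V) : Subgroup (V ≃ₗ[F] V) where
  carrier := {g | g ∈ K ∧ g (e 0) = e 0 ∧ ∀ i, ∃ c : F, g (e i) = e i + c • e 0}
  one_mem' := ⟨one_mem K, rfl, fun i => ⟨0, by rw [zero_smul, add_zero]; rfl⟩⟩
  mul_mem' := by
    rintro g g' ⟨h1, h2, h3⟩ ⟨h1', h2', h3'⟩
    refine ⟨mul_mem h1 h1', by rw [LinearEquiv.mul_apply, h2', h2], fun i => ?_⟩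
    obtain ⟨c, hc⟩ := h3 i
    obtain ⟨c', hc'⟩ := h3' i
    exact ⟨c + c', by rw [LinearEquiv.mul_apply, hc', map_add, map_smul, h2, hc, add_smul, add_assoc]⟩
  inv_mem' := by
    rintro g ⟨h1, h2, h3⟩
    have hi : ∀ x y, g x = y → g⁻¹ y = x := by
      rintro x y rfl
      rw [← LinearEquiv.mul_apply, inv_mul_cancel]; rfl
    refine ⟨inv_mem h1, hi _ _ h2, fun i => ?_⟩
    obtain ⟨c, hc⟩ := h3 i
    refine ⟨-c, hi _ _ ?_⟩
    rw [map_add, map_smul, h2, hc, neg_smul, add_neg_cancel_right]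

variable (B) in
/-- the functional of `g` -/
def lam (e f : Fin 3 → V) (g : V ≃ₗ[F] V) (i : Fin 3) : F := B (f 0) (g (e i) - e i)

variable (B) in
/-- the form of `g` -/
def cc (f : Fin 3 → V) (g : V ≃ₗ[F] V) (i j : Fin 3) : F := B (f i) (g (f j))

section

variable (D : SixD B O K) (h : Hyp B e f)

include D h in
theorem lam_spec {g : V ≃ₗ[F] V} (hg : g ∈ AM K e) (i : Fin 3) : g (e i) = e i + lam B e f g i • e 0 := by
  obtain ⟨c, hc⟩ := hg.2.2 i
  have : lam B e f g i = c := by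
    unfold lam
    rw [hc, add_sub_cancel_left, smul_right', h.fe D.hB, if_pos rfl, mul_one]
  rw [this, hc]

include D h in
theorem B_e {g : V ≃ₗ[F] V} (hg : g ∈ AM K e) (i : Fin 3) (v : V) :
    B (e i) (g v) = B (e i) v - σ (lam B e f g i) * B (e 0) v := by
  have h1 := D.isom g hg.1 (e i) v
  have h2 := D.isom g hg.1 (e 0) v
  rw [hg.2.1] at h2
  rw [lam_spec D h hg, map_add, LinearMap.add_apply, smul_left', h2] at h1
  rw [← h1]; ring

include D h in
theorem g_f {g : V ≃ₗ[F] V} (hg : g ∈ AM K e) {j : Fin 3} (hj : j ≠ 0) :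
    g (f j) = f j + ∑ i, cc B f g i j • e i := by
  conv_lhs => rw [h.expand D.hB D.hV (g (f j))]
  have h1 : ∀ i, B (e i) (g (f j)) = if i = j then 1 else 0 := by
    intro i
    rw [B_e D h hg, h.ef, h.ef, if_neg (Ne.symm hj), mul_zero, sub_zero]
  have h2 : ∑ i, B (e i) (g (f j)) • f i = f j := by
    simp only [h1, ite_smul, one_smul, zero_smul]
    rw [Finset.sum_ite_eq', if_pos (Finset.mem_univ _)]
  rw [h2, add_comm]
  rfl

include D h in
theorem cc_skew {g : V ≃ₗ[F] V} (hg : g ∈ AM K e) {i j : Fin 3} (hi : i ≠ 0) (hj : j ≠ 0) :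
    cc B f g i j + σ (cc B f g j i) = 0 := by
  have h1 := D.isom g hg.1 (f i) (f j)
  rw [g_f D h hg hi, h.ff, map_add, LinearMap.add_apply, map_sum, LinearMap.sum_apply] at h1
  have h2 : ∀ k, B (cc B f g k i • e k) (g (f j)) = if k = j then σ (cc B f g k i) else 0 := by
    intro k
    rw [smul_left', B_e D h hg, h.ef, h.ef, if_neg (Ne.symm hj), mul_zero, sub_zero]
    split_ifs
    · rw [mul_one]
    · rw [mul_zero]
  simp only [h2] at h1
  rw [Finset.sum_ite_eq', if_pos (Finset.mem_univ _)] at h1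
  exact h1

include D h in
theorem cc_mul {g g' : V ≃ₗ[F] V} (hg : g ∈ AM K e) (hg' : g' ∈ AM K e) {i j : Fin 3} (hi : i ≠ 0) (hj : j ≠ 0) :
    cc B f (g * g') i j = cc B f g i j + cc B f g' i j := by
  have h1 : cc B f (g * g') i j = B (f i) (g (g' (f j))) := rfl
  rw [h1, g_f D h hg' hj, map_add, map_add, map_sum, map_sum]
  have h2 : ∀ k, B (f i) (g (cc B f g' k j • e k)) = if i = k then cc B f g' k j else 0 := by
    intro k
    rw [map_smul, lam_spec D h hg, smul_right', map_add, smul_right', h.fe D.hB, h.fe D.hB, if_neg hi, mul_zero,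
      add_zero]
    split_ifs
    · rw [mul_one]
    · rw [mul_zero]
  simp only [h2]
  rw [Finset.sum_ite_eq, if_pos (Finset.mem_univ _)]
  rfl

include D h in
theorem lam_mul {g g' : V ≃ₗ[F] V} (hg : g ∈ AM K e) (hg' : g' ∈ AM K e) (i : Fin 3) :
    lam B e f (g * g') i = lam B e f g i + lam B e f g' i := by
  have h1 : lam B e f (g * g') i = B (f 0) (g (g' (e i)) - e i) := rfl
  rw [h1, lam_spec D h hg' i, map_add, map_smul, hg.2.1, lam_spec D h hg i]
  have h2 : e i + lam B e f g i • e 0 + lam B e f g' i • e 0 - e i = (lam B e f g i + lam B e f g' i) • e 0 := by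
    rw [add_smul]; abel
  rw [h2, smul_right', h.fe D.hB, if_pos rfl, mul_one]

/-! ### the unipotent radical of the stabiliser of `e 0` -/

variable (B) in
/-- the vectors of the elements of `K` acting trivially on `p` and on `p^⊥ / p` -/
def WW (K : Subgroup (V ≃ₗ[F] V)) (p : V) : AddSubgroup V where
  carrier := {u | B p u = 0 ∧ ∃ g ∈ K, g p = p ∧ ∀ x, B p x = 0 → g x = x - B u x • p}
  zero_mem' := ⟨map_zero _, 1, one_mem K, rfl, fun x _ => by
    rw [map_zero, LinearMap.zero_apply, zero_smul, sub_zero]; rfl⟩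
  add_mem' := by
    rintro u u' ⟨h0, g, hg, h1, h2⟩ ⟨h0', g', hg', h1', h2'⟩
    refine ⟨by rw [map_add, h0, h0', add_zero], g * g', mul_mem hg hg', by rw [LinearEquiv.mul_apply, h1', h1],
      fun x hx => ?_⟩
    rw [LinearEquiv.mul_apply, h2' x hx, map_sub, map_smul, h1, h2 x hx, map_add, LinearMap.add_apply, add_smul]
    abel
  neg_mem' := by
    rintro u ⟨h0, g, hg, h1, h2⟩
    have hi : ∀ x y, g x = y → g⁻¹ y = x := by
      rintro x y rfl
      rw [← LinearEquiv.mul_apply, inv_mul_cancel]; rfl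
    refine ⟨by rw [map_neg, h0, neg_zero], g⁻¹, inv_mem hg, hi _ _ h1, fun x hx => hi _ _ ?_⟩
    rw [map_sub, map_smul, h1, h2 x hx, map_neg, LinearMap.neg_apply, neg_smul]
    abel

include D h in
theorem mem_span_p {w : V} (hw : ∀ x, B (e 0) x = 0 → B x w = 0) : w = B (f 0) w • e 0 := by
  have h1 : ∀ i, B (e i) w = 0 := fun i => hw _ (h.ee 0 i)
  have h2 : ∀ i, i ≠ 0 → B (f i) w = 0 := fun i hi => hw _ (by rw [h.ef, if_neg (Ne.symm hi)])
  conv_lhs => rw [h.expand D.hB D.hV w]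
  simp only [h1, zero_smul, Finset.sum_const_zero, add_zero]
  rw [Fin.sum_univ_three, h2 1 (by decide), h2 2 (by decide), zero_smul, zero_smul, add_zero, add_zero]

include D h in
/-- no isotropic vectors -/
theorem iso_mem (hp : e 0 ∈ O) {u : V} (hu : u ∈ WW B K (e 0)) (huu : B u u = 0) : ∃ c : F, u = c • e 0 := by
  by_contra hcon
  push Not at hcon
  have hfin : Finite V := Module.finite_of_finite F
  have hfin' : Fintype V := Fintype.ofFinite V
  obtain ⟨hpu, g, hg, hgp, hgx⟩ := hu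
  have hB := D.hB
  have hup : B u (e 0) = 0 := hB.swap_zero hpu
  have hp0 : e 0 ≠ 0 := fun h0 => D.cone.zero (h0 ▸ hp)
  have hpp : B (e 0) (e 0) = 0 := h.ee 0 0
  have hpf : B (e 0) (f 0) = 1 := by rw [h.ef, if_pos rfl]
  have hfp : B (f 0) (e 0) = 1 := by rw [h.fe hB, if_pos rfl]
  -- the action on `f 0`
  obtain ⟨τ, hτ⟩ : ∃ τ : F, g (f 0) = f 0 + u + τ • e 0 := by
    have h1 : ∀ x, B (e 0) x = 0 → B x (g (f 0) - (f 0 + u)) = 0 := by
      intro x hx
      have h2 : g (x + B u x • e 0) = x := by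
        rw [map_add, map_smul, hgp, hgx x hx, sub_add_cancel]
      have h3 := D.isom g hg (x + B u x • e 0) (f 0)
      rw [h2, map_add, LinearMap.add_apply, smul_left', hpf, mul_one, ← hB.swap] at h3
      rw [map_sub, h3, map_add, sub_self]
    exact ⟨_, by rw [← mem_span_p D h h1, add_sub_cancel]⟩
  set κ := τ + B u (f 0) with hκ
  have hy : ∀ y, B (e 0) y = 1 → g y = y + u + (κ - B u y) • e 0 := by
    intro y hy
    have h1 : B (e 0) (y - f 0) = 0 := by rw [map_sub, hy, hpf, sub_self]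
    have h2 := hgx _ h1
    rw [map_sub, hτ] at h2
    have h3 : g y = (y - f 0 - B u (y - f 0) • e 0) + (f 0 + u + τ • e 0) := by rw [← h2, sub_add_cancel]
    rw [h3, map_sub, hκ]
    module
  have hκ0 : κ + σ κ = 0 := by
    have h1 := D.isom g hg (f 0) (f 0)
    rw [hτ, h.ff] at h1
    have h2 : B (f 0 + u + τ • e 0) (f 0 + u + τ • e 0) = B (f 0) u + τ + B u (f 0) + σ τ := by
      simp only [map_add, LinearMap.add_apply, smul_left', smul_right', h.ff, hfp, hup, huu, hpf, hpu, hpp]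
      ring
    rw [h2] at h1
    rw [hκ, map_add, ← hB.swap]
    rw [← h1]; ring
  obtain ⟨θ, hθ⟩ := Cfsg.Agent.H450.UF.exists_trace hB (s := (1 : F)) (map_one σ)
  set b := θ * κ with hb
  have hb1 : b - σ b = κ := by
    have h1 : σ κ = -κ := by linear_combination hκ0
    rw [hb, map_mul, h1]
    linear_combination κ * hθ
  -- the isotropic vector `w`
  set w := u - σ b • e 0 with hw
  have hw0 : ∀ y, B w y = B u y - b * B (e 0) y := by
    intro y
    rw [hw, map_sub, LinearMap.sub_apply, smul_left', hB.invol]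
  have hpw : B (e 0) w = 0 := by rw [hw, map_sub, smul_right', hpu, hpp, mul_zero, sub_zero]
  have hwp : B w (e 0) = 0 := hB.swap_zero hpw
  have hww : B w w = 0 := by
    rw [hw0, hpw, mul_zero, sub_zero, hw, map_sub, smul_right', huu, hup, mul_zero, sub_zero]
  have hli : LinearIndependent F ![e 0, w] := by
    rw [LinearIndependent.pair_iff' hp0]
    intro a ha
    apply hcon (a + σ b)
    rw [add_smul, ha, hw, sub_add_cancel]
  obtain ⟨z₀, hz₀⟩ := Cfsg.Agent.H450.UF.exists_dual hB hli ![1, 0]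
  have hz1 : B (e 0) z₀ = 1 := by
    have h1 : B z₀ (e 0) = 1 := hz₀ 0
    rw [hB.swap, h1, map_one]
  have hz2 : B w z₀ = 0 := hB.swap_zero (hz₀ 1)
  obtain ⟨c, hc⟩ := Cfsg.Agent.H450.UF.exists_iso hB hpp hz1
  set z := z₀ + c • e 0 with hz
  have hpz : B (e 0) z = 1 := by rw [hz, map_add, smul_right', hz1, hpp, mul_zero, add_zero]
  have hwz : B w z = 0 := by rw [hz, map_add, smul_right', hz2, hwp, mul_zero, add_zero]
  have hw_ne : w ≠ 0 := by
    intro h0
    apply hcon (σ b)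
    rw [hw, sub_eq_zero] at h0
    exact h0
  have hli2 : LinearIndependent F ![w, z] := by
    rw [LinearIndependent.pair_iff' hw_ne]
    intro a ha
    have := congrArg (B (e 0)) ha
    rw [smul_right', hpw, hpz, mul_zero] at this
    exact zero_ne_one this
  obtain ⟨M, hM1, hTI, hM⟩ := Cfsg.Agent.H450.UF.exists_ti_le hB (ti_span_pair hB hww hc hwz) (k := 3) (by
    have h1 := finrank_span_eq_card hli2
    rw [Fintype.card_fin, Matrix.range_cons, Matrix.range_cons, Matrix.range_empty, Set.union_empty,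
      Set.singleton_union] at h1
    rw [h1]; omega) (by rw [D.hV])
  have hwM : w ∈ M := hM1 (Submodule.subset_span (Or.inl rfl))
  have hzM : z ∈ M := hM1 (Submodule.subset_span (Or.inr rfl))
  obtain ⟨y₁, hy₁, hy₁O⟩ := D.meet M hM hTI
  have hpy : B (e 0) y₁ ≠ 0 := by
    intro h0
    obtain ⟨a, ha⟩ := Submodule.mem_span_singleton.1 (D.one _ hp _ hy₁O h0)
    have ha0 : a ≠ 0 := by
      rintro rfl
      rw [zero_smul] at ha
      exact D.cone.zero (ha ▸ hy₁O)
    have h1 := hTI y₁ hy₁ z hzM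
    rw [← ha, smul_left', hpz, mul_one, map_eq_zero] at h1
    exact ha0 h1
  obtain ⟨y, hyO, hy1, hy2⟩ : ∃ y, y ∈ O ∧ B (e 0) y = 1 ∧ B u y = b := by
    have hy1 : B (e 0) ((B (e 0) y₁)⁻¹ • y₁) = 1 := by rw [smul_right', inv_mul_cancel₀ hpy]
    refine ⟨(B (e 0) y₁)⁻¹ • y₁, D.cone.smul _ (inv_ne_zero hpy) _ hy₁O, hy1, ?_⟩
    have h1 : B w ((B (e 0) y₁)⁻¹ • y₁) = 0 := by rw [smul_right', hTI w hwM y₁ hy₁, mul_zero]
    rw [hw0, hy1, mul_one, sub_eq_zero] at h1
    exact h1
  have hgy := hy y hy1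
  have h1 : B y (g y) = 0 := by
    have h2 : B y u = σ b := by rw [hB.swap, hy2]
    have h3 : B y (e 0) = 1 := by rw [hB.swap, hy1, map_one]
    rw [hgy, map_add, map_add, smul_right', D.iso y hyO, h2, h3, hy2, ← hb1]
    ring
  obtain ⟨a, ha⟩ := Submodule.mem_span_singleton.1 (D.one _ hyO _ (D.inv g hg y hyO) h1)
  have h2 := congrArg (B (e 0)) ha
  rw [hgy, smul_right', hy1, map_add, map_add, smul_right', hpu, hpp, hy1] at h2
  have ha1 : a = 1 := by rw [mul_one, mul_zero, add_zero, add_zero] at h2; exact h2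
  rw [ha1, one_smul, hgy] at ha
  apply hcon (-(κ - B u y))
  have h3 : u + (κ - B u y) • e 0 = 0 := by
    have : y + (u + (κ - B u y) • e 0) = y + 0 := by rw [add_zero, ← add_assoc]; exact ha.symm
    exact add_left_cancel this
  rw [neg_smul]
  exact eq_neg_of_add_eq_zero_left h3

end

/-! ### restriction to a subspace -/

theorem exists_restrict {k : V ≃ₗ[F] V} {M : Submodule F V} (h : M.map (k : V →ₗ[F] V) = M) :
    ∃ t : M ≃ₗ[F] M, ∀ x : M, ((t x : M) : V) = k (x : V) := ⟨LinearEquiv.ofSubmodules k M M h, fun _ => rfl⟩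

/-- the group induced on a subspace -/
def TM (K : Subgroup (V ≃ₗ[F] V)) (M : Submodule F V) : Subgroup (M ≃ₗ[F] M) where
  carrier := {t | ∃ k ∈ K, ∀ x : M, ((t x : M) : V) = k (x : V)}
  one_mem' := ⟨1, one_mem K, fun _ => rfl⟩
  mul_mem' := by
    rintro s t ⟨g, hg, h⟩ ⟨g', hg', h'⟩
    refine ⟨g * g', mul_mem hg hg', fun v => ?_⟩
    rw [LinearEquiv.mul_apply, h, h', LinearEquiv.mul_apply]
  inv_mem' := by
    rintro t ⟨g, hg, h⟩
    have hi : ∀ x y, g x = y → g⁻¹ y = x := by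
      rintro x y rfl
      rw [← LinearEquiv.mul_apply, inv_mul_cancel]; rfl
    refine ⟨g⁻¹, inv_mem hg, fun v => ?_⟩
    have h1 := h (t⁻¹ v)
    rw [← LinearEquiv.mul_apply, mul_inv_cancel] at h1
    exact (hi _ _ h1.symm).symm

theorem map_restrict {M : Submodule F V} {k : V ≃ₗ[F] V} {t : M ≃ₗ[F] M} (ht : ∀ v : M, ((t v : M) : V) = k (v : V))
    {L L' : Submodule F M} (h : (L.map M.subtype).map (k : V →ₗ[F] V) = L'.map M.subtype) :
    L.map (t : M →ₗ[F] M) = L' := by
  apply Submodule.map_injective_of_injective (Submodule.subtype_injective M)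
  rw [← h]
  ext v
  constructor
  · rintro ⟨_, ⟨w, hw, rfl⟩, rfl⟩
    exact ⟨_, ⟨w, hw, rfl⟩, (ht w).symm⟩
  · rintro ⟨_, ⟨w, hw, rfl⟩, rfl⟩
    exact ⟨_, ⟨w, hw, rfl⟩, ht w⟩

theorem map_le_sub (M : Submodule F V) (L : Submodule F M) : L.map M.subtype ≤ M := by
  rintro _ ⟨w, -, rfl⟩
  exact w.2

section

variable (D : SixD B O K) (h : Hyp B e f) (hp : e 0 ∈ O)

include D h hp in
theorem mem_span_of_O {v : V} (hv : v ∈ W F e 3) (hvO : v ∈ O) : v ∈ Submodule.span F {e 0} :=
  D.one _ hp _ hvO ((h.frame D.hB).W_ti 3 _ (mem_W e (by decide)) _ hv)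

/-- the first vector -/
def p₀ (F : Type*) {V : Type*} [Field F] [AddCommGroup V] [Module F V] (e : Fin 3 → V) : W F e 3 :=
  ⟨e 0, mem_W e (by decide)⟩

include D h hp in
theorem tm_p {t : W F e 3 ≃ₗ[F] W F e 3} (ht : t ∈ TM K (W F e 3)) : ∃ c : F, t (p₀ F e) = c • p₀ F e := by
  obtain ⟨k, hk, h1⟩ := ht
  have h2 : ((t (p₀ F e) : W F e 3) : V) = k (e 0) := h1 _
  obtain ⟨c, hc⟩ := Submodule.mem_span_singleton.1 (mem_span_of_O D h hp (v := k (e 0)) (by rw [← h2]; exact Subtype.coe_prop _)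
    (D.inv k hk _ hp))
  exact ⟨c, Subtype.ext (by rw [h2, ← hc]; rfl)⟩

include D h hp in
theorem tm_tr {L L' : Submodule F (W F e 3)} (hL : finrank F L = 2) (hL' : finrank F L' = 2)
    (hLL : p₀ F e ∈ L ↔ p₀ F e ∈ L') : ∃ t ∈ TM K (W F e 3), L.map (t : W F e 3 →ₗ[F] W F e 3) = L' := by
  classical
  have hfr := h.frame D.hB
  have hM : finrank F (W F e 3) = 3 := finrank_W hfr.li le_rfl
  have hTI : TI B (W F e 3) := hfr.W_ti 3
  have hp0 : e 0 ≠ 0 := fun h0 => D.cone.zero (h0 ▸ hp)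
  -- frames
  have key : ∀ L : Submodule F (W F e 3), finrank F L = 2 → ∃ u : Fin 3 → V, Frame B u ∧ W F u 2 = L.map (W F e 3).subtype ∧
      W F u 3 = W F e 3 ∧ ∀ i, (∃ v ∈ W F u i, v ∈ O) ↔ (if p₀ F e ∈ L then 1 ≤ i else 3 ≤ i) := by
    intro L hL
    have hLv : finrank F (L.map (W F e 3).subtype) = 2 := (Submodule.finrank_map_subtype_eq _ L).trans hL
    by_cases hpL : p₀ F e ∈ L
    · obtain ⟨u, hu, hu0, h1, h2, h3⟩ := exists_frame3 hM hTI hLv (map_le_sub _ L) (s := e 0) ⟨_, hpL, rfl⟩ hp0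
      refine ⟨u, hu, h2, h3, fun i => ?_⟩
      rw [if_pos hpL]
      constructor
      · rintro ⟨v, hv, hvO⟩
        by_contra hcon
        have hi : i = 0 := by omega
        rw [hi, W_zero, Submodule.mem_bot] at hv
        exact D.cone.zero (hv ▸ hvO)
      · intro hi
        refine ⟨e 0, ?_, hp⟩
        rw [← hu0]
        exact mem_W u (by exact hi)
    · obtain ⟨s, hs, hs0⟩ : ∃ s ∈ L.map (W F e 3).subtype, s ≠ 0 := by
        have h1 : 0 < finrank F (L.map (W F e 3).subtype) := by omega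
        obtain ⟨⟨s, hs⟩, hs0⟩ := (Module.finrank_pos_iff_exists_ne_zero (R := F)).1 h1
        exact ⟨s, hs, fun h0 => hs0 (Subtype.ext h0)⟩
      obtain ⟨u, hu, hu0, h1, h2, h3⟩ := exists_frame3 hM hTI hLv (map_le_sub _ L) hs hs0
      refine ⟨u, hu, h2, h3, fun i => ?_⟩
      rw [if_neg hpL]
      constructor
      · rintro ⟨v, hv, hvO⟩
        by_contra hcon
        have hv2 : v ∈ W F u 2 := W_mono u (by omega) hv
        rw [h2] at hv2
        obtain ⟨c, hc⟩ := Submodule.mem_span_singleton.1 (mem_span_of_O D h hp (map_le_sub _ L hv2) hvO)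
        have hc0 : c ≠ 0 := by
          rintro rfl
          rw [zero_smul] at hc
          exact D.cone.zero (hc ▸ hvO)
        apply hpL
        have h4 : e 0 ∈ L.map (W F e 3).subtype := by
          rw [← hc] at hv2
          exact (Submodule.smul_mem_iff _ hc0).1 hv2
        obtain ⟨w, hw, hwe⟩ := h4
        have : w = p₀ F e := Subtype.ext hwe
        rw [← this]
        exact hw
      · intro hi
        refine ⟨e 0, ?_, hp⟩
        have h4 : e 0 ∈ W F u 3 := by rw [h3]; exact mem_W e (by decide)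
        exact W_mono u hi h4
  obtain ⟨u, hu, h2, h3, h4⟩ := key L hL
  obtain ⟨u', hu', h2', h3', h4'⟩ := key L' hL'
  obtain ⟨k, hk, hmap⟩ := D.tr u u' hu hu' (fun i => by rw [h4, h4']; simp only [hLL]) (h3.trans h3'.symm)
  have h5 := hmap 3
  rw [h3, h3'] at h5
  obtain ⟨t, ht⟩ := exists_restrict h5
  refine ⟨t, ⟨k, hk, ht⟩, map_restrict ht ?_⟩
  rw [← h2, ← h2']
  exact hmap 2

include D h hp in
/-- **all transvections with centre `e 0` are induced on `⟨e⟩`** -/
theorem exists_AM (c : Fin 3 → F) (hc : c 0 = 0) : ∃ g ∈ AM K e, ∀ i, lam B e f g i = c i := by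
  have hfr := h.frame D.hB
  have hM : finrank F (W F e 3) = 3 := finrank_W hfr.li le_rfl
  have hp0 : p₀ F e ≠ 0 := by
    intro h0
    have h1 : e 0 = 0 := congrArg Subtype.val h0
    exact D.cone.zero (h1 ▸ hp)
  -- the functional
  let μ : Dual F (W F e 3) := ∑ i, c i • ((B (f i)).comp (W F e 3).subtype)
  have hμ : ∀ i (hi : e i ∈ W F e 3), μ ⟨e i, hi⟩ = c i := by
    intro i hi
    change (∑ j, c j • ((B (f j)).comp (W F e 3).subtype)) ⟨e i, hi⟩ = c i
    rw [LinearMap.sum_apply]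
    have : ∀ j, (c j • ((B (f j)).comp (W F e 3).subtype)) ⟨e i, hi⟩ = if j = i then c j else 0 := by
      intro j
      change c j * B (f j) (e i) = _
      rw [h.fe D.hB]
      split_ifs <;> simp
    simp only [this]
    rw [Finset.sum_ite_eq', if_pos (Finset.mem_univ _)]
  obtain ⟨t, ⟨k, hk, hkt⟩, ht⟩ := Planar.all_tv hM hp0 (T := TM K (W F e 3)) (fun t ht => tm_p D h hp ht)
    (fun L L' hL hL' h1 h2 => tm_tr D h hp hL hL' ⟨fun _ => h2, fun _ => h1⟩)
    (fun L L' hL hL' h1 h2 => tm_tr D h hp hL hL' ⟨fun h3 => absurd h3 h1, fun h3 => absurd h3 h2⟩) μ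
    ((hμ 0 (mem_W e (by decide))).trans hc)
  have hke : ∀ i, k (e i) = e i + c i • e 0 := by
    intro i
    have hi : e i ∈ W F e 3 := mem_W e (by have := i.2; omega)
    have h1 := congrArg Subtype.val (ht ⟨e i, hi⟩)
    rw [hkt, hμ] at h1
    exact h1
  have hg : k ∈ AM K e := ⟨hk, by rw [hke, hc, zero_smul, add_zero], fun i => ⟨c i, hke i⟩⟩
  refine ⟨k, hg, fun i => ?_⟩
  have h1 := lam_spec D h hg i
  rw [hke i] at h1
  have h2 : c i • e 0 = lam B e f k i • e 0 := add_left_cancel h1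
  exact (smul_left_injective F (fun h0 => D.cone.zero (h0 ▸ hp) : e 0 ≠ 0) h2).symm

include D h hp in
/-- **the elements of `K` in the unipotent radical of the stabiliser of `e 0` are transvections** -/
theorem WW_eq {u : V} (hu : u ∈ WW B K (e 0)) : ∃ c : F, u = c • e 0 := by
  by_contra hcon
  have hB := D.hB
  have hfr := h.frame D.hB
  have hM : finrank F (W F e 3) = 3 := finrank_W hfr.li le_rfl
  have hTI : TI B (W F e 3) := hfr.W_ti 3
  have hp0 : p₀ F e ≠ 0 := by
    intro h0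
    have h1 : e 0 = 0 := congrArg Subtype.val h0
    exact D.cone.zero (h1 ▸ hp)
  have hpp : B (e 0) (e 0) = 0 := h.ee 0 0
  let Λ : AddSubgroup (Dual F (W F e 3)) :=
    { carrier := {μ | ∃ u ∈ WW B K (e 0), ∀ x : W F e 3, μ x = B u (x : V)}
      zero_mem' := ⟨0, zero_mem _, fun x => by rw [map_zero, LinearMap.zero_apply, LinearMap.zero_apply]⟩
      add_mem' := by
        rintro μ ν ⟨u, hu, h1⟩ ⟨v, hv, h2⟩
        exact ⟨u + v, add_mem hu hv, fun x => by rw [LinearMap.add_apply, h1, h2, map_add, LinearMap.add_apply]⟩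
      neg_mem' := by
        rintro μ ⟨u, hu, h1⟩
        exact ⟨-u, neg_mem hu, fun x => by rw [LinearMap.neg_apply, h1, map_neg, LinearMap.neg_apply]⟩ }
  have hΛ : ∀ μ, μ ∈ Λ ↔ ∃ u ∈ WW B K (e 0), ∀ x : W F e 3, μ x = B u (x : V) := fun μ => Iff.rfl
  have h0 : ∀ μ ∈ Λ, μ (p₀ F e) = 0 := by
    rintro μ ⟨u, hu, h1⟩
    rw [h1]
    exact hB.swap_zero hu.1
  have hinv : Planar.InvL (p₀ F e) (TM K (W F e 3)) Λ := by
    rintro t ht c hc μ ⟨u, hu, h1⟩
    obtain ⟨hu0, g, hg, hgp, hgx⟩ := hu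
    obtain ⟨k, hk, hkt⟩ := ht
    have hit : ∀ x, t (t⁻¹ x) = x := fun x => by rw [← LinearEquiv.mul_apply, mul_inv_cancel]; rfl
    have hik : ∀ x, k⁻¹ (k x) = x := fun x => by rw [← LinearEquiv.mul_apply, inv_mul_cancel]; rfl
    have hki : ∀ x, k (k⁻¹ x) = x := fun x => by rw [← LinearEquiv.mul_apply, mul_inv_cancel]; rfl
    have hkp : k (e 0) = c • e 0 := by
      have h2 := congrArg Subtype.val hc
      rw [hkt] at h2
      exact h2
    have hc0 : c ≠ 0 := by
      rintro rfl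
      rw [zero_smul] at hkp
      exact hp0 (Subtype.ext ((LinearEquiv.map_eq_zero_iff k).1 hkp))
    have hki' : k⁻¹ (e 0) = c⁻¹ • e 0 := by
      have h2 : k (c⁻¹ • e 0) = e 0 := by rw [map_smul, hkp, smul_smul, inv_mul_cancel₀ hc0, one_smul]
      rw [← hik (c⁻¹ • e 0), h2]
    have hx' : ∀ x, B (e 0) x = 0 → B (e 0) (k⁻¹ x) = 0 := by
      intro x hx
      have h2 := D.isom k⁻¹ (inv_mem hk) (e 0) x
      rw [hki', smul_left', hx] at h2
      exact (mul_eq_zero.1 h2).resolve_left ((map_ne_zero σ).2 (inv_ne_zero hc0))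
    have hBk : ∀ x, B (k u) x = B u (k⁻¹ x) := by
      intro x
      have h2 := D.isom k hk u (k⁻¹ x)
      rwa [hki] at h2
    refine ⟨σ c • k u, ⟨?_, k * g * k⁻¹, mul_mem (mul_mem hk hg) (inv_mem hk), ?_, fun x hx => ?_⟩, fun x => ?_⟩
    · rw [smul_right']
      have h2 : B (k u) (e 0) = 0 := by rw [hBk, hki', smul_right', hB.swap_zero hu0, mul_zero]
      rw [hB.swap_zero h2, mul_zero]
    · rw [LinearEquiv.mul_apply, LinearEquiv.mul_apply, hki', map_smul, hgp, ← hki', hki]
    · rw [LinearEquiv.mul_apply, LinearEquiv.mul_apply, hgx _ (hx' x hx), map_sub, hki, map_smul, hkp, smul_smul,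
        smul_left', hB.invol, hBk, mul_comm]
    · have h2 : ((t⁻¹ x : W F e 3) : V) = k⁻¹ (x : V) := by
        have h3 := hkt (t⁻¹ x)
        rw [hit] at h3
        rw [h3, hik]
      rw [LinearMap.smul_apply, smul_eq_mul, smul_left', hB.invol, hBk]
      change c * μ (t⁻¹ x) = _
      rw [h1, h2]
  have hsm : ∀ c : F, c • e 0 ∈ WW B K (e 0) := fun c => ⟨by rw [smul_right', hpp, mul_zero], 1, one_mem K, rfl,
    fun x hx => by rw [smul_left', hx, mul_zero, zero_smul, sub_zero]; rfl⟩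
  have hne : Λ ≠ ⊥ := by
    intro hbot
    have h1 : (B u).comp (W F e 3).subtype ∈ Λ := ⟨u, hu, fun x => rfl⟩
    rw [hbot, AddSubgroup.mem_bot] at h1
    have h2 : ∀ i, B u (e i) = 0 := fun i =>
      congrArg (fun φ : Dual F (W F e 3) => φ ⟨e i, mem_W e (by have := i.2; omega)⟩) h1
    apply hcon
    refine iso_mem D h hp hu ?_
    have h3 := h.expand hB D.hV u
    have h4 : ∀ i, B (e i) u = 0 := fun i => hB.swap_zero (h2 i)
    simp only [h4, zero_smul, Finset.sum_const_zero, add_zero] at h3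
    have h5 : B u u = B u (∑ i, B (f i) u • e i) := congrArg (B u) h3
    rw [h5, map_sum]
    exact Finset.sum_eq_zero fun i _ => by rw [smul_right', h2, mul_zero]
  have hbig := Planar.big hM hp0 (T := TM K (W F e 3)) (fun t ht => tm_p D h hp ht)
    (fun L L' hL hL' h1 h2 => tm_tr D h hp hL hL' ⟨fun _ => h2, fun _ => h1⟩) h0 hinv hne
  -- representatives
  have hfin : Finite V := Module.finite_of_finite F
  let W' : AddSubgroup V := WW B K (e 0) ⊓ (LinearMap.ker (B (f 0))).toAddSubgroup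
  have hW' : ∀ v, v ∈ W' ↔ v ∈ WW B K (e 0) ∧ B (f 0) v = 0 := fun v => Iff.rfl
  have hcard : Nat.card Λ ≤ Nat.card W' := by
    refine Nat.card_le_card_of_surjective (fun w : W' => (⟨(B w.1).comp (W F e 3).subtype, w.1, w.2.1, fun x => rfl⟩ : Λ)) ?_
    rintro ⟨μ, v, hv, h1⟩
    refine ⟨⟨v - B (f 0) v • e 0, (hW' _).2 ⟨sub_mem hv (hsm _), ?_⟩⟩, Subtype.ext (LinearMap.ext fun x => ?_)⟩
    · rw [map_sub, smul_right', h.fe hB, if_pos rfl, mul_one, sub_self]
    · change B (v - B (f 0) v • e 0) (x : V) = μ x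
      rw [h1, map_sub, LinearMap.sub_apply, smul_left', hTI (e 0) (mem_W e (by decide)) x x.2, mul_zero, sub_zero]
  obtain ⟨w, hw, hw0, hww⟩ := exists_iso_of_card hB W' (by omega)
  obtain ⟨c, hc⟩ := iso_mem D h hp hw.1 hww
  have h1 : B (f 0) w = 0 := hw.2
  rw [hc, smul_right', h.fe hB, if_pos rfl, mul_one] at h1
  rw [h1, zero_smul] at hc
  exact hw0 hc

include D h in
theorem lam_p {g : V ≃ₗ[F] V} (hg : g ∈ AM K e) : lam B e f g 0 = 0 := by
  unfold lam
  rw [hg.2.1, sub_self, map_zero]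

include D h hp in
/-- the form determines the functional -/
theorem lam_zero {g : V ≃ₗ[F] V} (hg : g ∈ AM K e) (h0 : ∀ i j, i ≠ 0 → j ≠ 0 → cc B f g i j = 0) (i : Fin 3) :
    lam B e f g i = 0 := by
  have hB := D.hB
  set u : V := -(∑ i, σ (lam B e f g i) • f i + ∑ j, σ (cc B f g 0 j) • e j) with hu
  have hBu : ∀ x, B u x = -(∑ i, lam B e f g i * B (f i) x + ∑ j, cc B f g 0 j * B (e j) x) := by
    intro x
    rw [hu, map_neg, LinearMap.neg_apply, map_add, LinearMap.add_apply, map_sum, map_sum, LinearMap.sum_apply,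
      LinearMap.sum_apply]
    simp only [smul_left', hB.invol]
  have hBe : ∀ i, B u (e i) = -lam B e f g i := by
    intro i
    rw [hBu]
    simp only [h.ee, h.fe hB, mul_zero, Finset.sum_const_zero, add_zero, mul_ite, mul_one]
    rw [Finset.sum_ite_eq', if_pos (Finset.mem_univ _)]
  have hmem : u ∈ WW B K (e 0) := by
    refine ⟨hB.swap_zero ?_, g, hg.1, hg.2.1, fun x hx => ?_⟩
    · rw [hBe, lam_p D h hg, neg_zero]
    · have h1 : ∀ j, B (e j) x • g (f j) = B (e j) x • f j + (B (e j) x * cc B f g 0 j) • e 0 := by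
        intro j
        by_cases hj : j = 0
        · rw [hj, hx, zero_smul, zero_smul, zero_mul, zero_smul, add_zero]
        · rw [g_f D h hg hj, smul_add, Fin.sum_univ_three, h0 1 j (by decide) hj, h0 2 j (by decide) hj, zero_smul,
            zero_smul, add_zero, add_zero, smul_smul]
      have h2 : ∀ i, B (f i) x • g (e i) = B (f i) x • e i + (B (f i) x * lam B e f g i) • e 0 := by
        intro i
        rw [lam_spec D h hg, smul_add, smul_smul]
      have h3 : g x = ∑ i, B (f i) x • g (e i) + ∑ j, B (e j) x • g (f j) := by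
        conv_lhs => rw [h.expand hB D.hV x]
        rw [map_add, map_sum, map_sum]
        simp only [map_smul]
      rw [h3]
      simp only [h1, h2]
      rw [Finset.sum_add_distrib, Finset.sum_add_distrib, ← Finset.sum_smul, ← Finset.sum_smul]
      have h4 := h.expand hB D.hV x
      rw [hBu, neg_smul, sub_neg_eq_add, add_smul]
      conv_rhs => rw [h4]
      have h5 : ∑ i, B (f i) x * lam B e f g i = ∑ i, lam B e f g i * B (f i) x :=
        Finset.sum_congr rfl fun i _ => mul_comm _ _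
      have h6 : ∑ i, B (e i) x * cc B f g 0 i = ∑ i, cc B f g 0 i * B (e i) x :=
        Finset.sum_congr rfl fun i _ => mul_comm _ _
      rw [h5, h6]
      conv_rhs => rw [← h4]
      conv_lhs => rw [add_add_add_comm, ← h4]
  obtain ⟨c, hc⟩ := WW_eq D h hp hmem
  have h1 := hBe i
  rw [hc, smul_left', h.ee, mul_zero] at h1
  exact (neg_eq_zero.1 h1.symm)

/-- the values of the form -/
abbrev Sk (σ : F →+* F) : Type _ := {a : F // a + σ a = 0}

/-- a combinatorial lemma -/
theorem comb {A X Y : Type*} [Finite X] [Finite Y] (c : A → X) (l : A → Y) (hl : Function.Surjective l)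
    (h : ∀ g g', c g = c g' → l g = l g') (hcard : Nat.card X ≤ Nat.card Y) :
    Function.Surjective c ∧ ∀ g g', l g = l g' → c g = c g' := by
  obtain ⟨s, hs⟩ := hl.hasRightInverse
  have hinj : Function.Injective (c ∘ s) := by
    intro y y' e
    have := h _ _ e
    rwa [hs, hs] at this
  have hbij : Function.Bijective (c ∘ s) := by
    have h1 : Nat.card Y ≤ Nat.card X := Nat.card_le_card_of_injective _ hinj
    exact (Nat.bijective_iff_injective_and_card _).2 ⟨hinj, le_antisymm h1 hcard⟩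
  refine ⟨fun x => ?_, fun g g' e => ?_⟩
  · obtain ⟨y, hy⟩ := hbij.2 x
    exact ⟨s y, hy⟩
  · obtain ⟨y, hy⟩ := hbij.2 (c g)
    obtain ⟨y', hy'⟩ := hbij.2 (c g')
    have h1 := h _ _ hy
    have h2 := h _ _ hy'
    rw [hs] at h1 h2
    rw [← hy, ← hy', h1, h2, e]

include D h hp in
theorem comb' : (∀ (a b : Sk σ) (x : F), ∃ g ∈ AM K e, cc B f g 1 1 = a ∧ cc B f g 1 2 = x ∧ cc B f g 2 2 = b) ∧
    (∀ g ∈ AM K e, ∀ g' ∈ AM K e, lam B e f g 1 = lam B e f g' 1 → lam B e f g 2 = lam B e f g' 2 →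
      cc B f g 1 1 = cc B f g' 1 1 ∧ cc B f g 1 2 = cc B f g' 1 2 ∧ cc B f g 2 2 = cc B f g' 2 2) ∧
    (∀ g ∈ AM K e, ∀ g' ∈ AM K e, cc B f g 1 1 = cc B f g' 1 1 → cc B f g 1 2 = cc B f g' 1 2 →
      cc B f g 2 2 = cc B f g' 2 2 → lam B e f g 1 = lam B e f g' 1 ∧ lam B e f g 2 = lam B e f g' 2) := by
  let c : AM K e → Sk σ × F × Sk σ := fun g => (⟨cc B f g.1 1 1, cc_skew D h g.2 (by decide) (by decide)⟩, cc B f g.1 1 2,
    ⟨cc B f g.1 2 2, cc_skew D h g.2 (by decide) (by decide)⟩)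
  let l : AM K e → F × F := fun g => (lam B e f g.1 1, lam B e f g.1 2)
  have hl : Function.Surjective l := by
    rintro ⟨a, b⟩
    obtain ⟨g, hg, h1⟩ := exists_AM D h hp ![0, a, b] rfl
    exact ⟨⟨g, hg⟩, Prod.ext (h1 1) (h1 2)⟩
  have h3 : ∀ g ∈ AM K e, ∀ g' ∈ AM K e, cc B f g 1 1 = cc B f g' 1 1 → cc B f g 1 2 = cc B f g' 1 2 →
      cc B f g 2 2 = cc B f g' 2 2 → lam B e f g 1 = lam B e f g' 1 ∧ lam B e f g 2 = lam B e f g' 2 := by
    intro g hg g' hg' h11 h12 h22
    have hk : g⁻¹ * g' ∈ AM K e := mul_mem (inv_mem hg) hg'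
    have hgk : g * (g⁻¹ * g') = g' := mul_inv_cancel_left g g'
    have hcc : ∀ i j, i ≠ 0 → j ≠ 0 → cc B f g' i j = cc B f g i j + cc B f (g⁻¹ * g') i j := by
      intro i j hi hj
      rw [← cc_mul D h hg hk hi hj, hgk]
    have e11 : cc B f (g⁻¹ * g') 1 1 = 0 := by
      have := hcc 1 1 (by decide) (by decide)
      rw [h11] at this
      exact left_eq_add.1 this
    have e12 : cc B f (g⁻¹ * g') 1 2 = 0 := by
      have := hcc 1 2 (by decide) (by decide)
      rw [h12] at this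
      exact left_eq_add.1 this
    have e22 : cc B f (g⁻¹ * g') 2 2 = 0 := by
      have := hcc 2 2 (by decide) (by decide)
      rw [h22] at this
      exact left_eq_add.1 this
    have e21 : cc B f (g⁻¹ * g') 2 1 = 0 := by
      have := cc_skew D h hk (i := 2) (j := 1) (by decide) (by decide)
      rwa [e12, map_zero, add_zero] at this
    have h0 : ∀ i j : Fin 3, i ≠ 0 → j ≠ 0 → cc B f (g⁻¹ * g') i j = 0 := by
      intro i j hi hj
      fin_cases i <;> fin_cases j <;> first | exact absurd rfl hi | exact absurd rfl hj | assumption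
    have h1 := lam_zero D h hp hk h0
    have h2 : ∀ i, lam B e f g' i = lam B e f g i := by
      intro i
      have := lam_mul D h hg hk i
      rw [hgk, h1, add_zero] at this
      exact this
    exact ⟨(h2 1).symm, (h2 2).symm⟩
  have hcard : Nat.card (Sk σ × F × Sk σ) ≤ Nat.card (F × F) := by
    rw [Nat.card_prod, Nat.card_prod, Nat.card_prod]
    have h1 := card_skew D.hB.ne_id
    calc Nat.card (Sk σ) * (Nat.card F * Nat.card (Sk σ)) = Nat.card (Sk σ) ^ 2 * Nat.card F := by ring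
      _ ≤ Nat.card F * Nat.card F := Nat.mul_le_mul_right _ h1
  obtain ⟨hs, hi⟩ := comb c l hl (by
    rintro ⟨g, hg⟩ ⟨g', hg'⟩ hcg
    have e1 := congrArg (fun x : Sk σ × F × Sk σ => x.1.1) hcg
    have e2 := congrArg (fun x : Sk σ × F × Sk σ => x.2.1) hcg
    have e3 := congrArg (fun x : Sk σ × F × Sk σ => x.2.2.1) hcg
    obtain ⟨h4, h5⟩ := h3 g hg g' hg' e1 e2 e3
    exact Prod.ext h4 h5) hcard
  refine ⟨fun a b x => ?_, fun g hg g' hg' h1 h2 => ?_, h3⟩
  · obtain ⟨⟨g, hg⟩, h1⟩ := hs (a, x, b)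
    exact ⟨g, hg, congrArg (fun x : Sk σ × F × Sk σ => x.1.1) h1, congrArg (fun x : Sk σ × F × Sk σ => x.2.1) h1,
      congrArg (fun x : Sk σ × F × Sk σ => x.2.2.1) h1⟩
  · have h3 := hi ⟨g, hg⟩ ⟨g', hg'⟩ (Prod.ext h1 h2)
    exact ⟨congrArg (fun x : Sk σ × F × Sk σ => x.1.1) h3, congrArg (fun x : Sk σ × F × Sk σ => x.2.1) h3,
      congrArg (fun x : Sk σ × F × Sk σ => x.2.2.1) h3⟩

include D h hp in
/-- the elements with functional vanishing at `e 1` -/
theorem cc_vanish {g : V ≃ₗ[F] V} (hg : g ∈ AM K e) (h1 : lam B e f g 1 = 0) : cc B f g 1 2 = 0 ∧ cc B f g 2 2 = 0 := by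
  have hB := D.hB
  have hs := h.swap hB
  have key : ∀ b : F, b * cc B f g 2 2 = 0 ∧
      σ b * cc B f g 1 2 + b * cc B f g 2 1 + b * σ b * cc B f g 2 2 = 0 := by
    intro b
    obtain ⟨k, hk, k11, k12, k22⟩ := (comb' D hs hp).1 ⟨0, by rw [map_zero, add_zero]⟩ ⟨0, by rw [map_zero, add_zero]⟩ b
    have hkp : k (e 0) = e 0 := hk.2.1
    have hk1 : k (e 1) = e 1 + lam B ![e 0, e 1, f 2] ![f 0, f 1, e 2] k 1 • e 0 := lam_spec D hs hk 1
    have hk2 : k (f 2) = f 2 + lam B ![e 0, e 1, f 2] ![f 0, f 1, e 2] k 2 • e 0 := lam_spec D hs hk 2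
    set l1 := lam B ![e 0, e 1, f 2] ![f 0, f 1, e 2] k 1 with hl1
    set l2 := lam B ![e 0, e 1, f 2] ![f 0, f 1, e 2] k 2 with hl2
    have k21 : cc B ![f 0, f 1, e 2] k 2 1 = -σ b := by
      have := cc_skew D hs hk (i := 2) (j := 1) (by decide) (by decide)
      rw [k12] at this
      exact eq_neg_of_add_eq_zero_left this
    have hk3 : k (e 2) = e 2 + (cc B ![f 0, f 1, e 2] k 0 2 • e 0 + b • e 1) := by
      have h2 := g_f D hs hk (j := 2) (by decide)
      rw [Fin.sum_univ_three, k12, k22] at h2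
      have h3 : k (e 2) = e 2 + (cc B ![f 0, f 1, e 2] k 0 2 • e 0 + b • e 1 + (0 : F) • f 2) := h2
      rw [h3, zero_smul, add_zero]
    have hk4 : k (f 1) = f 1 + (cc B ![f 0, f 1, e 2] k 0 1 • e 0 - σ b • f 2) := by
      have h2 := g_f D hs hk (j := 1) (by decide)
      rw [Fin.sum_univ_three, k11, k21] at h2
      have h3 : k (f 1) = f 1 + (cc B ![f 0, f 1, e 2] k 0 1 • e 0 + (0 : F) • e 1 + (-σ b) • f 2) := h2
      rw [h3, zero_smul, add_zero, neg_smul, sub_eq_add_neg]
    have hik : ∀ x y, k x = y → k⁻¹ y = x := by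
      rintro x y rfl
      rw [← LinearEquiv.mul_apply, inv_mul_cancel]; rfl
    have hki : ∀ x, k (k⁻¹ x) = x := fun x => by rw [← LinearEquiv.mul_apply, mul_inv_cancel]; rfl
    -- the inverse
    have i0 : k⁻¹ (e 0) = e 0 := hik _ _ hkp
    have i1 : k⁻¹ (e 1) = e 1 - l1 • e 0 := hik _ _ (by rw [map_sub, map_smul, hk1, hkp, add_sub_cancel_right])
    obtain ⟨d, i2⟩ : ∃ d : F, k⁻¹ (e 2) = e 2 - b • e 1 + d • e 0 := by
      refine ⟨b * l1 - cc B ![f 0, f 1, e 2] k 0 2, hik _ _ ?_⟩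
      rw [map_add, map_sub, map_smul, map_smul, hk3, hk1, hkp]
      module
    have i3 : k⁻¹ (f 2) = f 2 - l2 • e 0 := hik _ _ (by rw [map_sub, map_smul, hk2, hkp, add_sub_cancel_right])
    obtain ⟨d', i4⟩ : ∃ d : F, k⁻¹ (f 1) = f 1 + σ b • f 2 + d • e 0 := by
      refine ⟨-(cc B ![f 0, f 1, e 2] k 0 1 + σ b * l2), hik _ _ ?_⟩
      rw [map_add, map_add, map_smul, map_smul, hk4, hk2, hkp]
      module
    -- the conjugate
    have hkK : k ∈ K := hk.1
    have hge1 : g (e 1) = e 1 := by rw [lam_spec D h hg, h1, zero_smul, add_zero]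
    have hge2 : g (e 2) = e 2 + lam B e f g 2 • e 0 := lam_spec D h hg 2
    have hgp : g (e 0) = e 0 := hg.2.1
    have c0 : (k * g * k⁻¹) (e 0) = e 0 := by
      rw [LinearEquiv.mul_apply, LinearEquiv.mul_apply, i0, hgp, hkp]
    have c1 : (k * g * k⁻¹) (e 1) = e 1 := by
      rw [LinearEquiv.mul_apply, LinearEquiv.mul_apply, i1, map_sub, map_smul, hge1, hgp, ← i1, hki]
    have c2 : (k * g * k⁻¹) (e 2) = e 2 + lam B e f g 2 • e 0 := by
      have h2 : g (k⁻¹ (e 2)) = k⁻¹ (e 2) + lam B e f g 2 • e 0 := by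
        rw [i2, map_add, map_sub, map_smul, map_smul, hge1, hge2, hgp]
        abel
      rw [LinearEquiv.mul_apply, LinearEquiv.mul_apply, h2, map_add, hki, map_smul, hkp]
    have hg' : k * g * k⁻¹ ∈ AM K e := by
      refine ⟨mul_mem (mul_mem hkK hg.1) (inv_mem hkK), c0, fun i => ?_⟩
      fin_cases i
      · exact ⟨0, by rw [zero_smul, add_zero]; exact c0⟩
      · exact ⟨0, by rw [zero_smul, add_zero]; exact c1⟩
      · exact ⟨_, c2⟩
    have hl1' : lam B e f (k * g * k⁻¹) 1 = lam B e f g 1 := by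
      unfold lam
      rw [c1, hge1]
    have hl2' : lam B e f (k * g * k⁻¹) 2 = lam B e f g 2 := by
      have h2 : lam B e f (k * g * k⁻¹) 2 = B (f 0) ((k * g * k⁻¹) (e 2) - e 2) := rfl
      rw [h2, c2, add_sub_cancel_left, smul_right', h.fe hB, if_pos rfl, mul_one]
    obtain ⟨e11, e12, e22⟩ := (comb' D h hp).2.1 _ hg' _ hg hl1' hl2'
    have hcc : ∀ i j, cc B f (k * g * k⁻¹) i j = B (k⁻¹ (f i)) (g (k⁻¹ (f j))) := by
      intro i j
      have h2 := D.isom k⁻¹ (inv_mem hkK) (f i) ((k * g * k⁻¹) (f j))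
      have h3 : k⁻¹ ((k * g * k⁻¹) (f j)) = g (k⁻¹ (f j)) := by
        rw [LinearEquiv.mul_apply, LinearEquiv.mul_apply]
        exact hik _ _ rfl
      rw [h3] at h2
      exact h2.symm
    have z1 : B (e 0) (g (f 1)) = 0 := by
      rw [B_e D h hg, lam_p D h hg, map_zero, zero_mul, sub_zero, h.ef, if_neg (by decide)]
    have z2 : B (e 0) (g (f 2)) = 0 := by
      rw [B_e D h hg, lam_p D h hg, map_zero, zero_mul, sub_zero, h.ef, if_neg (by decide)]
    have z3 : B (f 1) (e 0) = 0 := by rw [h.fe hB, if_neg (by decide)]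
    have z4 : B (f 2) (e 0) = 0 := by rw [h.fe hB, if_neg (by decide)]
    have z5 : B (e 0) (e 0) = 0 := h.ee 0 0
    have m12 : B (f 1) (g (f 2)) = cc B f g 1 2 := rfl
    have m11 : B (f 1) (g (f 1)) = cc B f g 1 1 := rfl
    have m21 : B (f 2) (g (f 1)) = cc B f g 2 1 := rfl
    have m22 : B (f 2) (g (f 2)) = cc B f g 2 2 := rfl
    constructor
    · rw [hcc, i4, i3] at e12
      simp only [map_add, map_sub, map_smul, LinearMap.add_apply, smul_left', smul_right', hgp, hB.invol,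
        z1, z2, z3, z4, z5, m12, m22, smul_eq_mul] at e12
      linear_combination e12
    · rw [hcc, i4] at e11
      simp only [map_add, map_sub, map_smul, LinearMap.add_apply, smul_left', smul_right', hgp, hB.invol,
        z1, z2, z3, z4, z5, m12, m22, m11, m21, smul_eq_mul] at e11
      linear_combination e11
  have h22 : cc B f g 2 2 = 0 := by
    have := (key 1).1
    rwa [one_mul] at this
  have h21 := cc_skew D h hg (i := 2) (j := 1) (by decide) (by decide)
  have h3 : ∀ b, σ b * cc B f g 1 2 = b * σ (cc B f g 1 2) := by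
    intro b
    have h4 := (key b).2
    rw [h22, eq_neg_of_add_eq_zero_left h21] at h4
    linear_combination h4
  obtain ⟨a, ha⟩ := exists_moved hB.ne_id
  have h4 := h3 1
  rw [map_one, one_mul, one_mul] at h4
  have h5 := h3 a
  rw [← h4] at h5
  refine ⟨?_, h22⟩
  have h6 : (σ a - a) * cc B f g 1 2 = 0 := by linear_combination h5
  exact (mul_eq_zero.1 h6).resolve_left (sub_ne_zero.2 ha)

end

/-- **There is no such set in dimension six.** -/
theorem six_false {q : ℕ} (hF : Fintype.card F = q ^ 2) (D : SixD B O K) : False := by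
  obtain ⟨e, f, h, hp⟩ := D.exists_frame hF
  have hex : ∀ c : F, ∃ g ∈ AM K e, lam B e f g 1 = 0 ∧ lam B e f g 2 = c := by
    intro c
    obtain ⟨g, hg, h1⟩ := exists_AM D h hp ![0, 0, c] rfl
    exact ⟨g, hg, h1 1, h1 2⟩
  choose g hg h1 h2 using hex
  have hinj : Function.Injective (fun c : F => (⟨cc B f (g c) 1 1, cc_skew D h (hg c) (by decide) (by decide)⟩ : Sk σ)) := by
    intro c c' e1
    have e2 : cc B f (g c) 1 1 = cc B f (g c') 1 1 := congrArg (fun x : Sk σ => x.1) e1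
    obtain ⟨a1, a2⟩ := cc_vanish D h hp (hg c) (h1 c)
    obtain ⟨b1, b2⟩ := cc_vanish D h hp (hg c') (h1 c')
    have := ((comb' D h hp).2.2 _ (hg c) _ (hg c') e2 (a1.trans b1.symm) (a2.trans b2.symm)).2
    rwa [h2, h2] at this
  have h3 := Nat.card_le_card_of_injective _ hinj
  have h4 := card_skew D.hB.ne_id
  have h5 : 1 < Nat.card F := by rw [Nat.card_eq_fintype_card]; exact Fintype.one_lt_card
  have h6 : Nat.card F ^ 2 ≤ Nat.card (Sk σ) ^ 2 := Nat.pow_le_pow_left h3 2
  have h7 : Nat.card F ^ 2 ≤ Nat.card F := h6.trans h4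
  nlinarith only [h4, h5, h6]

end Cfsg.Agent.H449.U
end

private theorem dce_31483524e7bf : _root_.True := by
  try have : _root_.True := by simp only [_root_.Cfsg.Agent.H449.U.fib.eq_1]
  try have : _root_.True := by simp only [_root_.Cfsg.Agent.H449.U.Planar.mult.eq_1]
  exact _root_.True.intro
end

-- part: H985/UT/Ord
section
prune_inst 0x14030240040000000000506000000000000009000008000000000040000002209002040000000080020000000000028110004000240000004000400002106090080000011000000020006000000410000000000000000000000000000000000200400002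
set_option linter.all false
open scoped Cfsg.Agent.FastGrp

-- part: H985/UT/Lab
section
/-!
# Labels for groups transitive on the isotropic points (helper985, S2196 part B3)

`S : Sys Δ G p`, `ρ` simple over the finite field `k` with `p ^ (2 a)` elements, `β` an invariant nondegenerate reflexive
sesquilinear form (`β w v = ⟨v, w⟩`), every isotropic vector is in a block (`hcov`).

* `Frm ρ β`; `exists_pair`, `eq_of_pair` : the pairing of the blocks of an apartment; `isotropic`;
* `even_index` : `|W : W_J|` is even;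
* `card_iso` : the number of isotropic vectors;
* **`labels`** : if there are `(Q ^ m - 1) (q ^ c + 1)` isotropic vectors, `Q = p ^ (2 a)`, `q ^ c = p ^ (a c)`, `c` odd and
  `dim V ≤ 2 m + 1`, then `|W : W_J| d = 2 m`, `d = dim Vx`, and the numbers `n w + 2 a j`, `w` `J`-minimal, `j < d`, are exactly
  the numbers `2 a i`, `a c + 2 a i`, `i < m`.
-/

set_option autoImplicit false
set_option linter.unusedSectionVars false
set_option linter.style.haveILetI false

namespace Cfsg.Agent.H985.UT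

open Cfsg.Agent.Tits.Core Cfsg.Agent.Tits.Core.Bldg Cfsg.Agent.Tits.Exchange Cfsg.Agent.Tits
open Cfsg.Agent.FixBN Cfsg.Agent.FixBN.Cox Cfsg.Agent.Omega.CR Cfsg.Agent.Omega.CR.Bl Cfsg.Agent.H905.DC
open Cfsg.Agent.H50.Her

variable {I : Type*} {M : CoxeterMatrix I} {W : Type*} [Group W] {cs : CoxeterSystem M W} {C : Type*}
  {Δ : Bldg cs C}

local prefix:100 "ℓ" => cs.length

variable {G : Type*} [Group G] [MulAction G C] {p : ℕ} {S : Sys Δ G p} [F : OppRes.Cox cs]
  {k V : Type*} [Field k] [AddCommGroup V] [Module k V] {ρ : G →* Module.End k V}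

/-- an invariant nondegenerate reflexive sesquilinear form, `β w v = ⟨v, w⟩` -/
structure Frm (ρ : G →* Module.End k V) (β : V → Module.Dual k V) : Prop where
  add : ∀ w w', β (w + w') = β w + β w'
  inv : ∀ g w v, β (ρ g w) (ρ g v) = β w v
  symm : ∀ v w, β v w = 0 → β w v = 0
  nondeg : ∀ w, β w = 0 → w = 0

namespace Frm

variable {β : V → Module.Dual k V}

theorem zero (hβ : Frm ρ β) : β 0 = 0 := by
  have h := hβ.add 0 0
  rw [add_zero] at h
  exact left_eq_add.1 h

theorem neg (hβ : Frm ρ β) (w : V) : β (-w) = -β w := by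
  have h := hβ.add w (-w)
  rw [add_neg_cancel, hβ.zero] at h
  exact (neg_eq_of_add_eq_zero_right h.symm).symm

theorem inj (hβ : Frm ρ β) : Function.Injective β := by
  intro w w' h
  have h1 := hβ.add w (-w')
  rw [hβ.neg, h, add_neg_cancel] at h1
  have h2 := hβ.nondeg _ h1
  exact add_neg_eq_zero.1 h2

theorem surj [Finite k] [Finite V] (hβ : Frm ρ β) (φ : Module.Dual k V) : ∃ w, β w = φ := by
  have hfin : FiniteDimensional k V := Module.Finite.of_finite
  have hfd : Finite (Module.Dual k V) := Module.finite_of_finite k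
  have h1 : Nat.card V = Nat.card (Module.Dual k V) := by
    rw [Module.natCard_eq_pow_finrank (K := k) (V := V),
      Module.natCard_eq_pow_finrank (K := k) (V := Module.Dual k V), Subspace.dual_finrank_eq]
  exact ((Nat.bijective_iff_injective_and_card β).2 ⟨hβ.inj, h1⟩).2 φ

theorem mem_iff (hβ : Frm ρ β) {x : C} {w : V} : β w ∈ Vx S ((dualRep ρ :)) x ↔ w ∈ Vx S ρ x := by
  constructor
  · intro h u hu
    apply hβ.inj
    refine LinearMap.ext fun v => ?_
    have h1 := (mem_fx_dual ρ).1 h u⁻¹ (inv_mem hu) v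
    have h2 := hβ.inv u w (ρ u⁻¹ v)
    rw [rho_rho_inv] at h2
    rw [h2, h1]
  · intro h
    refine (mem_fx_dual ρ).2 fun u hu v => ?_
    have h2 := hβ.inv u w v
    rwa [h u hu] at h2

end Frm

section pairing

variable {β : V → Module.Dual k V}
variable [Fintype C] [Fact p.Prime] [CharP k p] (hth : Δ.Thick) [Finite G] [Finite k] [Finite V]
  (hirr : ∀ L : Submodule k V, Ivt ρ ⊤ L → L = ⊥ ∨ L = ⊤) (hβ : Frm ρ β)

include hth hirr hβ

theorem exists_pair {c d : C} (hcd : Δ.Opp c d) {v : V} (hv : v ∈ Vx S ρ c) (hv0 : v ≠ 0) :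
    ∃ w ∈ Vx S ρ d, β w v ≠ 0 := by
  have hfin : FiniteDimensional k V := Module.Finite.of_finite
  obtain ⟨φ, hφ, h⟩ := exists_pair_Vx (S := S) hth hirr hcd hv hv0
  obtain ⟨w, rfl⟩ := hβ.surj φ
  exact ⟨w, hβ.mem_iff.1 hφ, h⟩

theorem eq_of_pair {c : W → C} (hc : IsApt Δ c) {a u : W} {v w : V} (hw : w ∈ Vx S ρ (c a)) (hv : v ∈ Vx S ρ (c u))
    (h : β w v ≠ 0) : Vx S ρ (c u) = Vx S ρ (c (a * w0 cs)) := by
  have hfin : FiniteDimensional k V := Module.Finite.of_finite
  have h1 := Vx_eq_of_pair_apt (S := S) hth hirr (hc.shift a) (φ := β w) (w := a⁻¹ * u) (v := v)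
    (by rw [mul_one]; exact hβ.mem_iff.2 hw) (by rw [mul_inv_cancel_left]; exact hv) h
  rwa [mul_inv_cancel_left] at h1

variable (hJ : Jset S ρ ≠ Set.univ)

omit hth hirr hβ [Fintype C] [Fact p.Prime] [CharP k p] [Finite G] [Finite k] [Finite V] in
include hJ in
theorem w0_notMem : w0 cs ∉ WJ cs (Jset S ρ) := by
  intro h
  apply hJ
  refine Set.eq_univ_of_forall fun i => ?_
  refine F.descent_mem _ _ h i ?_
  have h1 := length_le_w0 (cs := cs) (w0 cs * cs.simple i)
  exact lt_of_le_of_ne h1 (cs.length_mul_simple_ne _ i)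

include hJ

theorem isotropic [Nontrivial V] (x : C) {v w : V} (hv : v ∈ Vx S ρ x) (hw : w ∈ Vx S ρ x) : β w v = 0 := by
  have hfin : FiniteDimensional k V := Module.Finite.of_finite
  by_contra h
  obtain ⟨c, h1, hc⟩ := exists_apt (Δ := Δ) x
  have h2 := eq_of_pair (S := S) hth hirr hβ hc (a := 1) (u := 1) (by rw [h1]; exact hw) (by rw [h1]; exact hv) h
  have h3 := (Vx_eq_iff (S := S) hth hirr hc).1 h2
  rw [inv_one, one_mul, one_mul] at h3
  exact w0_notMem hJ h3

theorem even_index [Nontrivial V] (x : C) : Even (WJ cs (Jset S ρ)).index := by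
  classical
  have hfin : FiniteDimensional k V := Module.Finite.of_finite
  have hW : Finite W := Finite.of_surjective (Δ.δ x) (Δ.exists_δ x)
  obtain ⟨c, -, hc⟩ := exists_apt (Δ := Δ) x
  have hwd : ∀ w w' : W, w⁻¹ * w' ∈ WJ cs (Jset S ρ) → (w * w0 cs)⁻¹ * (w' * w0 cs) ∈ WJ cs (Jset S ρ) := by
    intro w w' h
    have h1 := (Vx_eq_iff (S := S) hth hirr hc).2 h
    rw [← Vx_eq_iff (S := S) hth hirr hc]
    obtain ⟨v, hv, hv0⟩ := (Submodule.ne_bot_iff _).1 (Vx_ne_bot' (S := S) (ρ := ρ) (c (w * w0 cs)))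
    obtain ⟨y, hy, hne⟩ := exists_pair (S := S) hth hirr hβ (c := c (w * w0 cs)) (d := c w) (by
      change Δ.δ _ _ = _
      rw [hc, mul_inv_rev, mul_assoc, inv_mul_cancel, mul_one, F.w0_inv]) hv hv0
    exact eq_of_pair (S := S) hth hirr hβ hc (a := w') (u := w * w0 cs) (by rw [← h1]; exact hy) hv hne
  let f : W ⧸ WJ cs (Jset S ρ) → W ⧸ WJ cs (Jset S ρ) :=
    Quotient.lift (fun w => QuotientGroup.mk (w * w0 cs)) fun a b hab =>
      QuotientGroup.eq.2 (hwd a b (QuotientGroup.leftRel_apply.1 hab))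
  have hf : ∀ w : W, f (QuotientGroup.mk w) = QuotientGroup.mk (w * w0 cs) := fun _ => rfl
  have hff : ∀ z, f (f z) = z := by
    intro z
    induction z using QuotientGroup.induction_on with
    | H w => rw [hf, hf, mul_assoc, F.w0_mul_self, mul_one]
  have hfix : ∀ z, f z ≠ z := by
    intro z
    induction z using QuotientGroup.induction_on with
    | H w =>
      intro h
      rw [hf] at h
      have h1 := QuotientGroup.eq.1 h
      rw [mul_inv_rev, mul_assoc, inv_mul_cancel, mul_one] at h1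
      have h2 := inv_mem h1
      rw [inv_inv] at h2
      exact w0_notMem hJ h2
  have hfq : Finite (W ⧸ WJ cs (Jset S ρ)) := Quotient.finite _
  have : Fintype (W ⧸ WJ cs (Jset S ρ)) := Fintype.ofFinite _
  have h1 : ∑ _z : W ⧸ WJ cs (Jset S ρ), (1 : ZMod 2) = 0 :=
    Finset.sum_involution (fun z _ => f z) (fun _ _ => by decide) (fun z _ _ => hfix z) (fun _ _ => Finset.mem_univ _)
      (fun z _ => hff z)
  rw [Finset.sum_const, Finset.card_univ, nsmul_eq_mul, mul_one] at h1
  rw [Subgroup.index, Nat.card_eq_fintype_card]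
  exact (ZMod.natCast_eq_zero_iff_even).1 h1

variable (hcov : ∀ v : V, v ≠ 0 → β v v = 0 → ∃ x, v ∈ Vx S ρ x)

include hcov

/-- **The number of isotropic vectors.** -/
theorem card_iso [Nontrivial V] (x : C) : Nat.card {v : V // v ≠ 0 ∧ β v v = 0} =
    Nat.card {z : C // IsMinR cs (Jset S ρ) (Δ.δ x z)} * (Nat.card (Vx S ρ x) - 1) := by
  classical
  have hfinV : FiniteDimensional k V := Module.Finite.of_finite
  let Φ : (Σ z : {z : C // IsMinR cs (Jset S ρ) (Δ.δ x z)}, {v : Vx S ρ z.1 // v ≠ 0}) →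
      {v : V // v ≠ 0 ∧ β v v = 0} :=
    fun a => ⟨a.2.1.1, fun h => a.2.2 (Subtype.ext h), isotropic (S := S) hth hirr hβ hJ _ a.2.1.2 a.2.1.2⟩
  have hΦ : Function.Bijective Φ := by
    constructor
    · rintro ⟨⟨z, hz⟩, ⟨⟨v, hv⟩, hv0⟩⟩ ⟨⟨z', hz'⟩, ⟨⟨v', hv'⟩, hv0'⟩⟩ h
      have h1 : v = v' := congrArg Subtype.val h
      subst h1
      have hv1 : v ≠ 0 := fun h => hv0 (Subtype.ext h)
      have h2 : z = z' := gate_unique (S := S) hth hirr hz hz' (Vx_eq_of_mem (S := S) hth hirr hv hv' hv1)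
      subst h2
      rfl
    · rintro ⟨v, hv0, hvi⟩
      obtain ⟨y, hy⟩ := hcov v hv0 hvi
      obtain ⟨z, hz, hzy⟩ := exists_gate (S := S) hth hirr x y
      exact ⟨⟨⟨z, hz⟩, ⟨⟨v, by rw [hzy]; exact hy⟩, fun h => hv0 (congrArg Subtype.val h)⟩⟩, rfl⟩
  have h1 : ∀ (α : Type _) [AddCommGroup α] [Finite α], Nat.card {v : α // v ≠ 0} = Nat.card α - 1 := by
    intro α _ _
    have h2 : Nat.card {v : α // v ≠ 0} = ({0}ᶜ : Set α).ncard := by
      rw [← Nat.card_coe_set_eq]
      rfl
    rw [h2, Set.ncard_compl, Set.ncard_singleton]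
  rw [← Nat.card_congr (Equiv.ofBijective Φ hΦ), Nat.card_sigma]
  rw [Finset.sum_congr rfl (g := fun _ => Nat.card (Vx S ρ x) - 1), Finset.sum_const, Finset.card_univ,
    smul_eq_mul, ← Nat.card_eq_fintype_card]
  rintro ⟨z, hz⟩ -
  rw [← h1 (Vx S ρ x)]
  have h3 : Nat.card (Vx S ρ z) = Nat.card (Vx S ρ x) := by
    rw [Module.natCard_eq_pow_finrank (K := k) (V := Vx S ρ z),
      Module.natCard_eq_pow_finrank (K := k) (V := Vx S ρ x), finrank_Vx hth z x]
  have h4 := h1 (Vx S ρ z)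
  have h5 := h1 (Vx S ρ x)
  rw [h3] at h4
  exact h4.trans h5.symm

omit hth hirr hβ hJ hcov [Fintype C] [Fact p.Prime] [CharP k p] [Finite G] [Finite k] [Finite V] in
theorem card_gates_eq' [Finite C] [Fintype W] [DecidablePred fun w : W => IsMinR cs (Jset S ρ) w] (x : C) :
    Nat.card {z : C // IsMinR cs (Jset S ρ) (Δ.δ x z)} =
      ∑ w ∈ Finset.univ.filter (fun w : W => IsMinR cs (Jset S ρ) w), Nat.card {z : C // Δ.δ x z = w} := by
  classical
  let Ψ : {z : C // IsMinR cs (Jset S ρ) (Δ.δ x z)} ≃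
      Σ w : {w : W // IsMinR cs (Jset S ρ) w}, {z : C // Δ.δ x z = w.1} :=
    { toFun := fun z => ⟨⟨Δ.δ x z.1, z.2⟩, ⟨z.1, rfl⟩⟩
      invFun := fun a => ⟨a.2.1, by rw [a.2.2]; exact a.1.2⟩
      left_inv := fun _ => rfl
      right_inv := by
        rintro ⟨⟨w, hw⟩, ⟨z, hz⟩⟩
        change Δ.δ x z = w at hz
        subst hz
        rfl }
  rw [Nat.card_congr Ψ, Nat.card_sigma]
  rw [Finset.sum_subtype (Finset.univ.filter (fun w : W => IsMinR cs (Jset S ρ) w))
    (p := fun w => IsMinR cs (Jset S ρ) w) (by intro w; simp)]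

omit hth hirr hβ hJ hcov [Fintype C] [Fact p.Prime] [CharP k p] [Finite G] [Finite k] [Finite V] in
theorem card_minR_le' [Fintype W] [DecidablePred fun w : W => IsMinR cs (Jset S ρ) w] :
    (Finset.univ.filter (fun w : W => IsMinR cs (Jset S ρ) w)).card ≤ (WJ cs (Jset S ρ)).index := by
  classical
  rw [← Fintype.card_subtype, ← Nat.card_eq_fintype_card]
  refine Nat.card_le_card_of_injective
    (fun w : {w : W // IsMinR cs (Jset S ρ) w} => (QuotientGroup.mk w.1 : W ⧸ WJ cs (Jset S ρ))) ?_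
  rintro ⟨w, hw⟩ ⟨w', hw'⟩ h
  have h1 : w⁻¹ * w' ∈ WJ cs (Jset S ρ) := QuotientGroup.eq.1 h
  have h2 : w'⁻¹ * w ∈ WJ cs (Jset S ρ) := by
    have := inv_mem h1
    rwa [mul_inv_rev, inv_inv] at this
  have h3 := hw _ h1
  have h4 := hw' _ h2
  rw [mul_inv_cancel_left] at h3 h4
  have h5 : ℓ (w⁻¹ * w') = 0 := by omega
  have h6 := cs.length_eq_zero_iff.1 h5
  exact Subtype.ext (inv_mul_eq_one.1 h6)

end pairing

/-- the labels of the isotropic points -/
def LamSet (a m c : ℕ) : Finset ℕ :=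
  (Finset.range m).image (fun i => 2 * a * i) ∪ (Finset.range m).image (fun i => a * c + 2 * a * i)

theorem mem_LamSet {a m c x : ℕ} : x ∈ LamSet a m c ↔ ∃ i < m, x = 2 * a * i ∨ x = a * c + 2 * a * i := by
  unfold LamSet
  rw [Finset.mem_union, Finset.mem_image, Finset.mem_image]
  simp only [Finset.mem_range]
  constructor
  · rintro (⟨i, hi, rfl⟩ | ⟨i, hi, rfl⟩)
    · exact ⟨i, hi, Or.inl rfl⟩
    · exact ⟨i, hi, Or.inr rfl⟩
  · rintro ⟨i, hi, rfl | rfl⟩
    · exact Or.inl ⟨i, hi, rfl⟩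
    · exact Or.inr ⟨i, hi, rfl⟩

theorem LamSet_disj {a m c : ℕ} (ha : 0 < a) (hc : Odd c) :
    Disjoint ((Finset.range m).image (fun i => 2 * a * i)) ((Finset.range m).image (fun i => a * c + 2 * a * i)) := by
  rw [Finset.disjoint_left]
  intro x hx hx'
  obtain ⟨i, -, rfl⟩ := Finset.mem_image.1 hx
  obtain ⟨j, -, h⟩ := Finset.mem_image.1 hx'
  obtain ⟨t, rfl⟩ := hc
  have h1 : a * (2 * t + 1 + 2 * j) = a * (2 * i) := by rw [← mul_assoc, mul_comm a 2, ← h]; ring
  have h2 := Nat.eq_of_mul_eq_mul_left ha h1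
  omega

theorem card_LamSet {a m c : ℕ} (ha : 0 < a) (hc : Odd c) : (LamSet a m c).card = 2 * m := by
  unfold LamSet
  rw [Finset.card_union_of_disjoint (LamSet_disj ha hc), Finset.card_image_of_injective, Finset.card_image_of_injective,
    Finset.card_range]
  · ring
  · intro i j h
    have h1 : a * c + 2 * a * i = a * c + 2 * a * j := h
    exact Nat.eq_of_mul_eq_mul_left (by omega) (Nat.add_left_cancel h1)
  · intro i j h
    exact Nat.eq_of_mul_eq_mul_left (by omega) h

theorem sum_LamSet {a m c p : ℕ} (ha : 0 < a) (hc : Odd c) : ∑ x ∈ LamSet a m c, p ^ x =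
    (∑ i ∈ Finset.range m, (p ^ (2 * a)) ^ i) * (p ^ (a * c) + 1) := by
  unfold LamSet
  rw [Finset.sum_union (LamSet_disj ha hc), Finset.sum_image, Finset.sum_image, mul_add, mul_one, add_comm,
    Finset.sum_mul]
  · congr 1
    · refine Finset.sum_congr rfl fun i _ => ?_
      rw [← pow_mul, ← pow_add, add_comm]
    · exact Finset.sum_congr rfl fun i _ => by rw [pow_mul]
  · intro i _ j _ h
    have h1 : a * c + 2 * a * i = a * c + 2 * a * j := h
    exact Nat.eq_of_mul_eq_mul_left (by omega) (Nat.add_left_cancel h1)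
  · intro i _ j _ h
    exact Nat.eq_of_mul_eq_mul_left (by omega) h

/-- The labels: `n w` for `w` `J`-minimal. -/
structure LabU (cs : CoxeterSystem M W) (J : Set I) (n : W → ℕ) (a m c d : ℕ) : Prop where
  d_pos : 1 ≤ d
  half : ∃ m', (WJ cs J).index = 2 * m' ∧ m' * d = m
  mem : ∀ w, IsMinR cs J w → ∀ j < d, n w + 2 * a * j ∈ LamSet a m c
  inj : ∀ w w', IsMinR cs J w → IsMinR cs J w' → ∀ j < d, ∀ j' < d, n w + 2 * a * j = n w' + 2 * a * j' →
    w = w' ∧ j = j'
  ex : ∀ x ∈ LamSet a m c, ∃ w, IsMinR cs J w ∧ ∃ j < d, n w + 2 * a * j = x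

section

variable {β : V → Module.Dual k V}
variable [Fintype C] [Fact p.Prime] [CharP k p] (hth : Δ.Thick) [Finite G] [Finite k] [Finite V] [Nontrivial V]
  (hirr : ∀ L : Submodule k V, Ivt ρ ⊤ L → L = ⊥ ∨ L = ⊤) (hβ : Frm ρ β)
  (hJ : Jset S ρ ≠ Set.univ) (hcov : ∀ v : V, v ≠ 0 → β v v = 0 → ∃ x, v ∈ Vx S ρ x)

include hth hirr hβ hJ hcov

/-- **The labels.** -/
theorem labels {a m c : ℕ} (ha : 0 < a) (hk : Nat.card k = p ^ (2 * a)) (hc : Odd c)
    (hdim : Module.finrank k V ≤ 2 * m + 1)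
    (hN : Nat.card {v : V // v ≠ 0 ∧ β v v = 0} = ((p ^ (2 * a)) ^ m - 1) * (p ^ (a * c) + 1)) (x : C)
    {n : W → ℕ} (hn : ∀ w, Nat.card {z : C // Δ.δ x z = w} = p ^ n w) :
    LabU cs (Jset S ρ) n a m c (Module.finrank k (Vx S ρ x)) := by
  classical
  have hfinV : FiniteDimensional k V := Module.Finite.of_finite
  have hW : Finite W := Finite.of_surjective (Δ.δ x) (Δ.exists_δ x)
  letI := Fintype.ofFinite W
  have hp := (Fact.out : p.Prime)
  set d := Module.finrank k (Vx S ρ x) with hd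
  have hPc : Nat.card (Vx S ρ x) = (p ^ (2 * a)) ^ d := by
    rw [Module.natCard_eq_pow_finrank (K := k) (V := Vx S ρ x), hk]
  have hd1 : 1 ≤ d := by
    rw [Nat.one_le_iff_ne_zero]
    intro h0
    exact Vx_ne_bot' (S := S) (ρ := ρ) x (Submodule.finrank_eq_zero.1 h0)
  have hQ2 : 2 ≤ p ^ (2 * a) := by
    calc 2 ≤ p := hp.two_le
      _ = p ^ 1 := (pow_one p).symm
      _ ≤ _ := Nat.pow_le_pow_right hp.pos (by omega)
  set Q := p ^ (2 * a) with hQ
  have h1 := card_iso (S := S) hth hirr hβ hJ hcov x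
  rw [card_gates_eq' (S := S) x, hPc, hN] at h1
  have hgeom : ∀ r, (∑ j ∈ Finset.range r, Q ^ j) * (Q - 1) = Q ^ r - 1 := by
    intro r
    rw [Nat.geomSum_eq hQ2 r]
    exact Nat.div_mul_cancel (by simpa only [_root_.one_pow] using Nat.sub_dvd_pow_sub_pow Q 1 r)
  set! E := Finset.univ.filter (fun w : W => IsMinR cs (Jset S ρ) w) with hE; rewrite [← hE] at h1
  have hsum : (∑ w ∈ E, p ^ n w) * (∑ j ∈ Finset.range d, Q ^ j) =
      (∑ i ∈ Finset.range m, Q ^ i) * (p ^ (a * c) + 1) := by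
    apply Nat.eq_of_mul_eq_mul_right (show 0 < Q - 1 by omega)
    calc (∑ w ∈ E, p ^ n w) * (∑ j ∈ Finset.range d, Q ^ j) * (Q - 1)
        = (∑ w ∈ E, p ^ n w) * ((∑ j ∈ Finset.range d, Q ^ j) * (Q - 1)) := by rw [mul_assoc]
      _ = (∑ w ∈ E, p ^ n w) * (Q ^ d - 1) := by rw [hgeom]
      _ = (∑ w ∈ E, Nat.card {z : C // Δ.δ x z = w}) * (Q ^ d - 1) := by
          congr 1
          exact Finset.sum_congr rfl fun w _ => (hn w).symm
      _ = (Q ^ m - 1) * (p ^ (a * c) + 1) := h1.symm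
      _ = ((∑ i ∈ Finset.range m, Q ^ i) * (Q - 1)) * (p ^ (a * c) + 1) := by rw [hgeom]
      _ = _ := by ring
  -- the multiset
  let P : Finset (W × ℕ) := E ×ˢ Finset.range d
  let f : W × ℕ → ℕ := fun b => n b.1 + 2 * a * b.2
  have hPsum : ∑ b ∈ P, p ^ f b = ∑ x ∈ LamSet a m c, p ^ x := by
    rw [sum_LamSet ha hc, ← hQ, ← hsum, Finset.sum_product, Finset.sum_mul]
    refine Finset.sum_congr rfl fun w _ => ?_
    rw [Finset.mul_sum]
    refine Finset.sum_congr rfl fun j _ => ?_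
    change p ^ (n w + 2 * a * j) = _
    rw [pow_add, pow_mul]
  have hidx := index_mul_le (S := S) hth hirr x
  rw [← hd] at hidx
  have hev := even_index (S := S) hth hirr hβ hJ x
  have hidx2 : (WJ cs (Jset S ρ)).index * d ≤ 2 * m := by
    obtain ⟨t, ht⟩ := hev
    have h2 : (WJ cs (Jset S ρ)).index * d = 2 * (t * d) := by rw [ht]; ring
    omega
  have hle : E.card ≤ (WJ cs (Jset S ρ)).index := card_minR_le' (S := S) (ρ := ρ)
  have hPcard : P.card = E.card * d := by rw [Finset.card_product, Finset.card_range]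
  have hkey := Cfsg.Agent.H794.HerDigit.key hp.two_le (LamSet a m c) P.card (P.val.map f)
    (by rw [Multiset.card_map]; rfl) (by
      rw [← hPsum, Multiset.map_map]
      rfl)
  rw [card_LamSet ha hc, Multiset.card_map] at hkey
  have hPle : P.card ≤ 2 * m := by
    rw [hPcard]
    exact (Nat.mul_le_mul_right d hle).trans hidx2
  have h2 := hkey.2 hPle
  have h3 : 2 * m ≤ P.card := hkey.1
  have hnd : (P.val.map f).Nodup := by rw [h2]; exact Finset.nodup _
  have hei := Multiset.inj_on_of_nodup_map hnd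
  have hmemE : ∀ w, w ∈ E ↔ IsMinR cs (Jset S ρ) w := fun w => by simp [hE]
  have hmemP : ∀ w j, IsMinR cs (Jset S ρ) w → j < d → (w, j) ∈ P.val := by
    intro w j hw hj
    exact Finset.mem_product.2 ⟨(hmemE w).2 hw, Finset.mem_range.2 hj⟩
  refine ⟨hd1, ?_, ?_, ?_, ?_⟩
  · rw [hPcard] at h3
    have h4 := Nat.mul_le_mul_right d hle
    obtain ⟨t, ht⟩ := hev
    refine ⟨t, by omega, ?_⟩
    have h5 : (WJ cs (Jset S ρ)).index * d = 2 * (t * d) := by rw [ht]; ring
    omega
  · intro w hw j hj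
    have h4 : f (w, j) ∈ P.val.map f := Multiset.mem_map_of_mem f (hmemP w j hw hj)
    rw [h2] at h4
    exact h4
  · intro w w' hw hw' j hj j' hj' h
    have h4 := hei _ (hmemP w j hw hj) _ (hmemP w' j' hw' hj') h
    exact ⟨congrArg Prod.fst h4, congrArg Prod.snd h4⟩
  · intro x hx
    have h4 : x ∈ P.val.map f := by rw [h2]; exact hx
    obtain ⟨⟨w, j⟩, hb, rfl⟩ := Multiset.mem_map.1 h4
    have h5 := Finset.mem_product.1 (show (w, j) ∈ P from hb)
    exact ⟨w, (hmemE w).1 h5.1, j, Finset.mem_range.1 h5.2, rfl⟩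

end

end Cfsg.Agent.H985.UT
end

-- part: H985/UT/Ad
section
/-!
# Additive labels of a finite building (helper985, S2196 part B3)

* `Ad cs n e` : `n w = ∑ e i` over a reduced word of `w`;
* `exists_len` : the spheres of a building with a system `Sys` have `p ^ n w` chambers, `n` additive;
* `Ad.lab_legal` : a legal word from `i ∉ J` is the inverse of a `J`-minimal element; `Ad.eq_of_three` : `M i j = 3`, `e i = e j`.
-/

set_option autoImplicit false
set_option linter.unusedSectionVars false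
set_option linter.style.haveILetI false

namespace Cfsg.Agent.H985.UT

open Cfsg.Agent.Tits.Core Cfsg.Agent.Tits.Core.Bldg Cfsg.Agent.Tits.Exchange Cfsg.Agent.Tits
open Cfsg.Agent.FixBN Cfsg.Agent.FixBN.Cox Cfsg.Agent.Omega.CR Cfsg.Agent.Omega.CR.Bl Cfsg.Agent.H905.DC
open Cfsg.Agent.H50.Her

section

variable {I : Type*} {M : CoxeterMatrix I} {W : Type*} [Group W] (cs : CoxeterSystem M W)

local prefix:100 "ℓ" => cs.length

/-- `n w` is the sum of the `e i` over a reduced word of `w`. -/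
structure Ad (n : W → ℕ) (e : I → ℕ) : Prop where
  red : ∀ ω : List I, cs.IsReduced ω → n (cs.wordProd ω) = (ω.map e).sum

variable {cs} {n : W → ℕ} {e : I → ℕ}

theorem Ad.one (h : Ad cs n e) : n 1 = 0 := by
  have := h.red [] (by simp [CoxeterSystem.IsReduced])
  simpa using this

theorem Ad.mul (h : Ad cs n e) {w : W} {i : I} (hw : ℓ (w * cs.simple i) = ℓ w + 1) :
    n (w * cs.simple i) = n w + e i := by
  obtain ⟨ω, hω, rfl⟩ := cs.exists_isReduced w
  have h1 : cs.IsReduced (ω ++ [i]) := by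
    unfold CoxeterSystem.IsReduced
    rw [cs.wordProd_append, cs.wordProd_singleton, hw, hω.eq, List.length_append, List.length_singleton]
  have h2 := h.red _ h1
  rw [cs.wordProd_append, cs.wordProd_singleton, List.map_append, List.sum_append] at h2
  rw [h2, h.red ω hω]
  simp

theorem Ad.inv (h : Ad cs n e) (w : W) : n w⁻¹ = n w := by
  obtain ⟨ω, hω, rfl⟩ := cs.exists_isReduced w
  rw [← cs.wordProd_reverse, h.red _ hω.reverse, h.red _ hω, List.map_reverse, List.sum_reverse]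

theorem Ad.simple (h : Ad cs n e) (i : I) : n (cs.simple i) = e i := by
  have := h.mul (w := 1) (i := i) (by rw [one_mul, cs.length_simple, cs.length_one])
  rwa [one_mul, h.one, zero_add] at this

/-- labels are divisible by `r` if the `e i` are -/
theorem Ad.dvd (h : Ad cs n e) {r : ℕ} (he : ∀ i, r ∣ e i) (w : W) : r ∣ n w := by
  obtain ⟨ω, hω, rfl⟩ := cs.exists_isReduced w
  rw [h.red _ hω]
  apply List.dvd_sum
  intro x hx
  obtain ⟨i, -, rfl⟩ := List.mem_map.1 hx
  exact he i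

end

section

variable {I W : Type*} [Fintype I] [DecidableEq I] [Group W] {M : CoxeterMatrix I}
  {cs : CoxeterSystem M W} {n : W → ℕ} {e : I → ℕ}

open Cfsg.Agent.ChevalleyStructure.CoxeterGeom Cfsg.Agent.Tits.Roots Cfsg.Agent.H219.HerUniq

/-- a legal word from `i ∉ J` -/
theorem Ad.lab_legal (hn : Ad cs n e) {A : I → I → ℤ} (h : IsCartan M A) {J : Set I} {i : I} (hi : i ∉ J)
    {ω : List I} (hω : Legal A (Pi.single i 1) ω) :
    IsMinR cs J (cs.wordProd ω)⁻¹ ∧ n (cs.wordProd ω)⁻¹ = (ω.map e).sum := by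
  have hone : IsMinL cs J 1 := by
    intro u _
    rw [mul_one, cs.length_one, add_zero]
  have hco : co cs h i 1 = Pi.single i 1 := by rw [co_one]; rfl
  have h3 := minL_of_legal cs h hi ω 1 hone (by rw [hco]; exact hω)
  rw [one_mul, cs.length_one, zero_add] at h3
  refine ⟨isMinR_inv_iff cs |>.2 h3.1, ?_⟩
  rw [hn.inv]
  exact hn.red ω h3.2

theorem cartan_three {A : I → I → ℤ} (h : IsCartan M A) {i j : I} (hij : M i j = 3) : A i j = -1 ∧ A j i = -1 := by
  have hne : i ≠ j := by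
    rintro rfl
    rw [M.diagonal] at hij
    omega
  rcases h.rel i j hne with ⟨h1, -⟩ | ⟨-, h2, h3⟩ | ⟨h1, -⟩ | ⟨h1, -⟩
  · omega
  · exact ⟨h2, h3⟩
  · omega
  · omega

/-- braid relations of length three -/
theorem Ad.eq_of_three (hn : Ad cs n e) {A : I → I → ℤ} (h : IsCartan M A) {i j : I} (hij : M i j = 3) :
    e i = e j := by
  have hne : i ≠ j := by
    rintro rfl
    rw [CoxeterMatrix.diagonal] at hij
    omega
  have hji : M j i = 3 := by rw [M.symmetric]; exact hij
  have key : ∀ i j : I, i ≠ j → M i j = 3 → n (cs.simple i * cs.simple j * cs.simple i) = e i + e j + e i := by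
    intro i j hne hij
    have hA : A i j = -1 ∧ A j i = -1 := cartan_three h hij
    have h1 : cs.length (cs.simple i * cs.simple j) = cs.length (cs.simple i) + 1 := by
      have h2 : 0 ≤ _root_.Cfsg.Agent.ChevalleyStructure.CoxeterGeom.rep cs h (cs.simple i) (sr j) := by
        intro m
        rw [rep_simple, sr, refl_single, mul_one]
        change 0 ≤ (Pi.single j 1 : I → ℤ) m - (Pi.single i (A i j) : I → ℤ) m
        rw [Pi.single_apply, Pi.single_apply, hA.1]
        split_ifs <;> omega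
      have h7 := (lt_iff' cs h (cs.simple i) j).2 h2
      rcases cs.length_mul_simple (cs.simple i) j with h8 | h8 <;> omega
    have h2 : cs.length (cs.simple i * cs.simple j * cs.simple i) = cs.length (cs.simple i * cs.simple j) + 1 := by
      have h3 : 0 ≤ _root_.Cfsg.Agent.ChevalleyStructure.CoxeterGeom.rep cs h (cs.simple i * cs.simple j) (sr i) := by
        intro m
        rw [map_mul]
        change 0 ≤ _root_.Cfsg.Agent.ChevalleyStructure.CoxeterGeom.rep cs h (cs.simple i) (_root_.Cfsg.Agent.ChevalleyStructure.CoxeterGeom.rep cs h (cs.simple j) (sr i)) m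
        have e1 : _root_.Cfsg.Agent.ChevalleyStructure.CoxeterGeom.rep cs h (cs.simple j) (sr i) = sr i + sr j := by
          rw [rep_simple, sr, refl_single, mul_one, hA.2]
          funext l
          change (Pi.single i 1 : I → ℤ) l - (Pi.single j (-1) : I → ℤ) l = (Pi.single i 1 : I → ℤ) l + (Pi.single j 1 : I → ℤ) l
          rw [Pi.single_apply, Pi.single_apply, Pi.single_apply]
          split_ifs <;> omega
        rw [e1, map_add, rep_simple_sr]
        have e2 : _root_.Cfsg.Agent.ChevalleyStructure.CoxeterGeom.rep cs h (cs.simple i) (sr j) = sr j + sr i := by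
          rw [rep_simple, sr, refl_single, mul_one, hA.1]
          funext l
          change (Pi.single j 1 : I → ℤ) l - (Pi.single i (-1) : I → ℤ) l = (Pi.single j 1 : I → ℤ) l + (Pi.single i 1 : I → ℤ) l
          rw [Pi.single_apply, Pi.single_apply, Pi.single_apply]
          split_ifs <;> omega
        rw [e2]
        change 0 ≤ -(sr i : I → ℤ) m + (sr j m + sr i m)
        have h5 : 0 ≤ (sr j : I → ℤ) m := sr_nonneg j m
        omega
      have h7 := (lt_iff' cs h (cs.simple i * cs.simple j) i).2 h3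
      rcases cs.length_mul_simple (cs.simple i * cs.simple j) i with h8 | h8 <;> omega
    rw [hn.mul h2, hn.mul h1, hn.simple]
  have h1 := key i j hne hij
  have h2 := key j i hne.symm hji
  have h3 : cs.simple i * cs.simple j * cs.simple i = cs.simple j * cs.simple i * cs.simple j := by
    have h4 := cs.simple_mul_simple_pow i j
    rw [hij] at h4
    have h5 : (cs.simple i * cs.simple j) ^ 3 = cs.simple i * cs.simple j * cs.simple i *
        (cs.simple j * cs.simple i * cs.simple j) := by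
      simp only [pow_succ, pow_zero, one_mul, mul_assoc]
    rw [h5] at h4
    have h6 := eq_inv_of_mul_eq_one_left h4
    rw [h6, mul_inv_rev, mul_inv_rev, cs.inv_simple, cs.inv_simple, mul_assoc]
  rw [h3, h2] at h1
  omega

end

section

variable {I : Type*} {M : CoxeterMatrix I} {W : Type*} [Group W] {cs : CoxeterSystem M W} {C : Type*}
  {Δ : Bldg cs C}
variable {G : Type*} [Group G] [MulAction G C] {p : ℕ} (S : Sys Δ G p) [F : OppRes.Cox cs]

include S in
/-- **The numbers of chambers of the spheres.** -/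
theorem exists_len [Finite W] [Fintype C] [hp : Fact p.Prime] (hth : Δ.Thick) [Finite G] (x₀ : C) :
    ∃ (n : W → ℕ) (e : I → ℕ), (∀ x w, Nat.card {z : C // Δ.δ x z = w} = p ^ n w) ∧ Ad cs n e ∧ ∀ i, 0 < e i := by
  classical
  have hpan : ∀ i, ∃ e : ℕ, 0 < e ∧ Nat.card {z : C // Δ.δ x₀ z = cs.simple i} = p ^ e := by
    intro i
    obtain ⟨y, z, hyz, hy, hz⟩ := hth x₀ i
    have h1 : (MulAction.orbit (S.U x₀) y) = {z : C | Δ.δ x₀ z = cs.simple i} := by
      ext w
      constructor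
      · rintro ⟨u, rfl⟩
        change Δ.δ x₀ (u.1 • y) = _
        rw [S.δ_smul u.2, hy]
      · intro hw
        obtain ⟨u, hu, e⟩ := S.exists_move (x := x₀) (hy.trans (show Δ.δ x₀ w = _ from hw).symm)
        exact ⟨⟨u, hu⟩, e⟩
    have h2 : Nat.card (MulAction.orbit (S.U x₀) y) ∣ Nat.card (S.U x₀) := by
      rw [Nat.card_congr (MulAction.orbitEquivQuotientStabilizer (S.U x₀) y)]
      exact Subgroup.card_quotient_dvd_card _
    obtain ⟨k, hk⟩ := IsPGroup.iff_card.1 (S.isP x₀)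
    rw [hk] at h2
    obtain ⟨e, -, he⟩ := (Nat.dvd_prime_pow hp.out).1 h2
    have h3 : Nat.card {z : C // Δ.δ x₀ z = cs.simple i} = p ^ e := by
      rw [← he, h1]
      rfl
    refine ⟨e, ?_, h3⟩
    rw [Nat.pos_iff_ne_zero]
    rintro rfl
    rw [pow_zero] at h3
    have h4 := (Nat.card_eq_one_iff_unique.1 h3).1
    exact hyz (congrArg Subtype.val (h4.elim ⟨y, hy⟩ ⟨z, hz⟩))
  choose e he0 he using hpan
  have hall : ∀ x i, Nat.card {z : C // Δ.δ x z = cs.simple i} = p ^ e i := by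
    intro x i
    obtain ⟨g, rfl⟩ := Cfsg.Agent.Omega.ML.LieRow.exists_smul_top S hth x₀ x
    rw [← he i]
    symm
    refine Nat.card_congr ⟨fun z => ⟨g • z.1, by rw [S.iso]; exact z.2⟩, fun z => ⟨g⁻¹ • z.1, ?_⟩, ?_, ?_⟩
    · have := S.iso g x₀ (g⁻¹ • z.1)
      rw [smul_inv_smul] at this
      rw [← this]
      exact z.2
    · intro z
      exact Subtype.ext (inv_smul_smul g z.1)
    · intro z
      exact Subtype.ext (smul_inv_smul g z.1)
  have hsph : ∀ x (ω : List I), cs.IsReduced ω → Nat.card {z : C // Δ.δ x z = cs.wordProd ω} = p ^ (ω.map e).sum := by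
    intro x ω hω
    rw [Opp.card_sphere Δ (q := fun i => p ^ e i) (fun i y => by rw [card_Pan_eq', hall])
      (fun i => Nat.pow_pos hp.out.pos) x hω]
    clear hω
    induction ω with
    | nil => simp
    | cons i ω ih => rw [List.map_cons, List.prod_cons, ih, List.map_cons, List.sum_cons, pow_add]
  choose ω hω hω' using fun w => cs.exists_isReduced w
  refine ⟨fun w => ((ω w).map e).sum, e, ?_, ⟨?_⟩, he0⟩
  · intro x w
    conv_lhs => rw [hω' w]
    exact hsph x _ (hω w)
  · intro υ hυ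
    apply Nat.pow_right_injective hp.out.two_le
    change p ^ ((ω (cs.wordProd υ)).map e).sum = p ^ (υ.map e).sum
    rw [← hsph x₀ _ (hω _), ← hsph x₀ _ hυ, ← hω']

end

end Cfsg.Agent.H985.UT
end

-- part: H985/UT/Elim
section
/-!
# The labels of a group transitive on the isotropic points: which types and parameters (helper985, S2196 part B3)

* `LS` : the setting; `LS.not_dvd`, `LS.ge`, `LS.node`, `LS.far`, `LS.exists_four`;
* `LS.all_eq` : all `e i` equal; `LS.two` : rank two, `M 0 1 ≥ 6`; `LS.f4`;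
* `LS.b` : type `B`.
-/

set_option autoImplicit false
set_option linter.unusedSectionVars false
set_option linter.style.haveILetI false

namespace Cfsg.Agent.H985.UT

open Cfsg.Agent.Tits.Core Cfsg.Agent.Tits.Core.Bldg Cfsg.Agent.Tits.Exchange Cfsg.Agent.Tits
open Cfsg.Agent.FixBN Cfsg.Agent.FixBN.Cox Cfsg.Agent.Omega.CR Cfsg.Agent.Omega.CR.Bl Cfsg.Agent.H905.DC
open Cfsg.Agent.H50.Her

section General

variable {I : Type*} {M : CoxeterMatrix I} {W : Type*} [Group W] {cs : CoxeterSystem M W} [F : OppRes.Cox cs]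
  {J : Set I} {n : W → ℕ} {e : I → ℕ} {a m c d : ℕ}

local prefix:100 "ℓ" => cs.length

/-- the setting -/
structure LS (cs : CoxeterSystem M W) (J : Set I) (n : W → ℕ) (e : I → ℕ) (a m c d : ℕ) : Prop where
  lab : LabU cs J n a m c d
  ad : Ad cs n e
  a_pos : 0 < a
  e_pos : ∀ i, 0 < e i
  three : 3 ≤ m
  odd : Odd c
  lo : 2 * m ≤ c + 1
  hi : c ≤ 2 * m + 1

namespace LS

theorem eq (h : LS cs J n e a m c d) {w w' : W} (hw : IsMinR cs J w) (hw' : IsMinR cs J w') (he : n w = n w') :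
    w = w' :=
  (h.lab.inj w w' hw hw' 0 h.lab.d_pos 0 h.lab.d_pos (by rw [he])).1

theorem mem0 (h : LS cs J n e a m c d) {w : W} (hw : IsMinR cs J w) :
    (∃ x < m, n w = 2 * a * x) ∨ a * c ≤ n w := by
  have h1 := h.lab.mem w hw 0 h.lab.d_pos
  rw [mul_zero, add_zero] at h1
  obtain ⟨i, hi, h2 | h2⟩ := mem_LamSet.1 h1
  · exact Or.inl ⟨i, hi, h2⟩
  · right; rw [h2]; exact Nat.le_add_right _ _

theorem isMinR_one (J : Set I) : IsMinR cs J 1 := by
  intro u _
  rw [one_mul, cs.length_one, zero_add]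

theorem two_c (h : LS cs J n e a m c d) (h2 : 2 * d ≤ m) : 2 * a * d ≤ a * c := by
  have h1 : 2 * d ≤ c := by have := h.lo; have := h.three; omega
  calc 2 * a * d = a * (2 * d) := by ring
    _ ≤ a * c := Nat.mul_le_mul_left a h1

theorem not_dvd (h : LS cs J n e a m c d) (he : ∀ i, 2 * a ∣ e i) : False := by
  obtain ⟨w, hw, j, hj, h1⟩ := h.lab.ex (a * c) (mem_LamSet.2 ⟨0, by have := h.three; omega, Or.inr (by rw [mul_zero, add_zero])⟩)
  obtain ⟨y, hy⟩ := h.ad.dvd he w
  obtain ⟨t, ht⟩ := h.odd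
  have h2 : a * (2 * (y + j)) = a * c := by rw [← h1, hy]; ring
  have h3 := Nat.eq_of_mul_eq_mul_left h.a_pos h2
  omega

/-- the labels are at least `2 a d` -/
theorem ge (h : LS cs J n e a m c d) (h2 : 2 * d ≤ m) {w : W} (hw : IsMinR cs J w) (h1 : w ≠ 1) :
    2 * a * d ≤ n w := by
  rcases h.mem0 hw with ⟨x, hx, hn⟩ | hn
  · by_contra hcon
    have hxd : x < d := by
      by_contra hd
      apply hcon
      rw [hn]
      exact Nat.mul_le_mul_left _ (by omega)
    exact h1 (h.lab.inj w 1 hw (isMinR_one J) 0 h.lab.d_pos x hxd (by rw [hn, h.ad.one, mul_zero, add_zero, zero_add])).1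
  · exact (h.two_c h2).trans hn

theorem ge_simple (h : LS cs J n e a m c d) (h2 : 2 * d ≤ m) {i : I} (hi : i ∉ J) : 2 * a * d ≤ e i := by
  have h1 := h.ge h2 (isMinR_simple (cs := cs) hi) (Trace.simple_ne_one i)
  rwa [h.ad.simple] at h1

/-- the node with the label `2 a d` -/
theorem node (h : LS cs J n e a m c d) (h2 : 2 * d ≤ m) : ∃ i, i ∉ J ∧ e i = 2 * a * d := by
  have hd := h.lab.d_pos
  have ha := h.a_pos
  obtain ⟨w, hw, j, hj, h1⟩ := h.lab.ex (2 * a * d) (mem_LamSet.2 ⟨d, by omega, Or.inl rfl⟩)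
  have hw1 : w ≠ 1 := by
    rintro rfl
    rw [h.ad.one, zero_add] at h1
    have := Nat.eq_of_mul_eq_mul_left (by omega) h1
    omega
  have h3 := h.ge h2 hw hw1
  obtain ⟨i, hi⟩ := cs.exists_rightDescent_of_ne_one hw1
  have hi' : ℓ (w * cs.simple i) < ℓ w := hi
  have hiJ : i ∉ J := by
    intro hiJ
    have := (isMinR_iff (cs := cs)).1 hw i hiJ
    omega
  have h4 := h.ge_simple h2 hiJ
  have h5 : n w = n (w * cs.simple i) + e i := by
    have h6 := h.ad.mul (w := w * cs.simple i) (i := i) (by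
      rw [cs.simple_mul_simple_cancel_right]
      rcases cs.length_mul_simple w i with h' | h' <;> omega)
    rwa [cs.simple_mul_simple_cancel_right] at h6
  exact ⟨i, hiJ, by omega⟩

/-- the labels of the elements other than `1`, `s_i` -/
theorem far (h : LS cs J n e a m c d) (h2 : 2 * d ≤ m) {i : I} (hi : i ∉ J) (hei : e i = 2 * a * d) {w : W}
    (hw : IsMinR cs J w) (h1 : w ≠ 1) (hwi : w ≠ cs.simple i) : 4 * a * d ≤ n w ∨ a * c ≤ n w := by
  have h3 := h.ge h2 hw h1
  rcases h.mem0 hw with ⟨x, hx, hn⟩ | hn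
  · left
    by_contra hcon
    have ha := h.a_pos
    have hdx : d ≤ x := by
      rw [hn] at h3
      exact Nat.le_of_mul_le_mul_left h3 (by omega)
    have hxd : x < 2 * d := by
      by_contra hd
      apply hcon
      rw [hn]
      calc 4 * a * d = 2 * a * (2 * d) := by ring
        _ ≤ 2 * a * x := Nat.mul_le_mul_left _ (by omega)
    refine hwi (h.lab.inj w (cs.simple i) hw (isMinR_simple (cs := cs) hi) 0 h.lab.d_pos (x - d) (by omega) ?_).1
    obtain ⟨y, rfl⟩ : ∃ y, x = d + y := ⟨x - d, by omega⟩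
    rw [hn, h.ad.simple, hei, Nat.add_sub_cancel_left]
    ring
  · exact Or.inr hn

/-- the label `4 a d` -/
theorem exists_four (h : LS cs J n e a m c d) (h3 : 3 * d ≤ m) {i : I} (hi : i ∉ J) (hei : e i = 2 * a * d) :
    ∃ w, IsMinR cs J w ∧ n w = 4 * a * d := by
  have hd := h.lab.d_pos
  have ha := h.a_pos
  have h2 : 2 * d ≤ m := by omega
  obtain ⟨w, hw, j, hj, h1⟩ := h.lab.ex (4 * a * d) (mem_LamSet.2 ⟨2 * d, by omega, Or.inl (by ring)⟩)
  refine ⟨w, hw, ?_⟩
  have hj' : 2 * a * j < 2 * a * d := Nat.mul_lt_mul_of_pos_left hj (by omega)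
  have hw1 : w ≠ 1 := by
    rintro rfl
    rw [h.ad.one, zero_add] at h1
    have e1 : 4 * a * d = 2 * a * (2 * d) := by ring
    rw [e1] at h1
    have := Nat.eq_of_mul_eq_mul_left (by omega) h1
    omega
  have hwi : w ≠ cs.simple i := by
    rintro rfl
    rw [h.ad.simple, hei] at h1
    have e1 : 4 * a * d = 2 * a * d + 2 * a * d := by ring
    omega
  rcases h.far h2 hi hei hw hw1 hwi with h4 | h4
  · omega
  · have h5 : 4 * a * d ≤ a * c := by
      have h6 : 4 * d ≤ c := by have := h.lo; omega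
      calc 4 * a * d = a * (4 * d) := by ring
        _ ≤ a * c := Nat.mul_le_mul_left a h6
    omega

/-- **all the parameters equal** -/
theorem all_eq (h : LS cs J n e a m c d) (h2 : 2 * d ≤ m) (he : ∀ i j, e i = e j) : False := by
  obtain ⟨i, -, hi⟩ := h.node h2
  exact h.not_dvd fun j => by rw [he j i, hi]; exact Dvd.intro _ rfl

/-- the number of nodes `≥ 2` implies `2 d ≤ m` -/
theorem le_of_index (h : LS cs J n e a m c d) {k : ℕ} (hk : 2 * k ≤ (WJ cs J).index + 1) : k * d ≤ m := by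
  obtain ⟨m', h1, h2⟩ := h.lab.half
  rw [← h2]
  exact Nat.mul_le_mul_right d (by omega)

end LS

end General

section Two

variable {W : Type*} [Group W] [Finite W] {M : CoxeterMatrix (Fin 2)} {cs : CoxeterSystem M W} [F : OppRes.Cox cs]
  {J : Set (Fin 2)} {n : W → ℕ} {e : Fin 2 → ℕ} {a m c d : ℕ}

theorem not_comm (cs : CoxeterSystem M W) (hM : 3 ≤ M 0 1) {i : Fin 2} :
    cs.simple i * cs.simple (1 - i) ≠ cs.simple (1 - i) * cs.simple i := by
  have key : cs.simple 0 * cs.simple 1 ≠ cs.simple 1 * cs.simple 0 := by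
    intro h
    have h1 := Cfsg.Agent.Tits.Generic.orderOf_eq cs 0 1
    have h2 : (cs.simple 0 * cs.simple 1) ^ 2 = 1 := by
      rw [pow_two]
      nth_rw 1 [h]
      rw [mul_assoc, ← mul_assoc (cs.simple 0), cs.simple_mul_simple_self, one_mul, cs.simple_mul_simple_self]
    have h3 := Nat.le_of_dvd (by norm_num) (orderOf_dvd_of_pow_eq_one h2)
    omega
  fin_cases i
  · exact key
  · exact key.symm

theorem length_two (cs : CoxeterSystem M W) (hM : 3 ≤ M 0 1) (i : Fin 2) :
    cs.length (cs.simple i * cs.simple (1 - i)) = cs.length (cs.simple i) + 1 := by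
  have h1 := not_comm cs hM (i := i)
  rcases cs.length_mul_simple (cs.simple i) (1 - i) with h | h
  · exact h
  · exfalso
    rw [cs.length_simple] at h
    have h2 : cs.length (cs.simple i * cs.simple (1 - i)) = 0 := by omega
    rw [cs.length_eq_zero_iff] at h2
    apply h1
    have h3 : cs.simple i = cs.simple (1 - i) := by
      rw [← cs.inv_simple (1 - i)]
      exact eq_inv_of_mul_eq_one_left h2
    rw [← h3]

/-- the index of a proper parabolic subgroup -/
theorem le_index_two (cs : CoxeterSystem M W) {J : Set (Fin 2)} (hJ : J ≠ Set.univ) :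
    M 0 1 ≤ (WJ cs J).index := by
  classical
  obtain ⟨i, hi⟩ : ∃ i, i ∉ J := by
    by_contra hcon
    push Not at hcon
    exact hJ (Set.eq_univ_of_forall hcon)
  have hJ1 : ∀ w ∈ WJ cs J, w = 1 ∨ w = cs.simple (1 - i) := by
    intro w hw
    unfold WJ at hw
    induction hw using Subgroup.closure_induction with
    | mem x hx =>
      obtain ⟨j, hj, rfl⟩ := hx
      right
      have : j ≠ i := fun e => hi (e ▸ hj)
      congr 1
      (clear * - this; solve | lia | omega)
    | one => exact Or.inl rfl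
    | mul x y _ _ hx hy =>
      rcases hx with rfl | rfl <;> rcases hy with rfl | rfl
      · left; rw [mul_one]
      · right; rw [one_mul]
      · right; rw [mul_one]
      · left; exact cs.simple_mul_simple_self _
    | inv x _ hx =>
      rcases hx with rfl | rfl
      · left; exact inv_one
      · right; exact cs.inv_simple _
  have ho := Cfsg.Agent.Tits.Generic.orderOf_eq cs 0 1
  have hfin : Finite (W ⧸ WJ cs J) := Quotient.finite _
  rw [Subgroup.index, ← ho, ← Nat.card_zpowers]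
  refine Nat.card_le_card_of_injective
    (fun z : Subgroup.zpowers (cs.simple 0 * cs.simple 1) => (QuotientGroup.mk z.1 : W ⧸ WJ cs J)) ?_
  rintro ⟨x, hx⟩ ⟨y, hy⟩ hxy
  have h1 : x⁻¹ * y ∈ WJ cs J := QuotientGroup.eq.1 hxy
  have h2 : x⁻¹ * y ∈ Subgroup.zpowers (cs.simple 0 * cs.simple 1) := mul_mem (inv_mem hx) hy
  rcases hJ1 _ h1 with h3 | h3
  · exact Subtype.ext (inv_mul_eq_one.1 h3)
  · exfalso
    obtain ⟨k, hk⟩ := h2
    have h4 : cs.lengthParity (x⁻¹ * y) = 1 := by
      change (cs.simple 0 * cs.simple 1) ^ k = x⁻¹ * y at hk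
      rw [← hk, map_zpow, map_mul, cs.lengthParity_simple, cs.lengthParity_simple]
      have h5 : (Multiplicative.ofAdd (1 : ZMod 2)) * Multiplicative.ofAdd (1 : ZMod 2) = 1 := by decide
      rw [h5, one_zpow]
    rw [h3, cs.lengthParity_simple] at h4
    exact absurd h4 (by decide)

namespace LS

/-- **rank two, `M 0 1 ≥ 6`** -/
theorem two (h : LS cs J n e a m c d) (hJ : J ≠ Set.univ) (hM : 6 ≤ M 0 1) : False := by
  have h3 : 3 * d ≤ m := h.le_of_index (by have := le_index_two cs hJ; omega)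
  have hd := h.lab.d_pos
  have ha := h.a_pos
  have hd1 := h.lab.d_pos
  have h2 : 2 * d ≤ m := by omega
  obtain ⟨i, hi, hei⟩ := h.node h2
  by_cases hj : 1 - i ∈ J
  · obtain ⟨w, hw, hnw⟩ := h.exists_four h3 hi hei
    have had : 0 < a * d := Nat.mul_pos ha hd
    have e4 : 4 * a * d = 4 * (a * d) := by ring
    have e2 : 2 * a * d = 2 * (a * d) := by ring
    rw [e4] at hnw
    rw [e2] at hei
    -- last letters
    have hdesc : ∀ w : W, w ≠ 1 → ∃ k, cs.length (w * cs.simple k) + 1 = cs.length w ∧ n w = n (w * cs.simple k) + e k := by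
      intro w hw
      obtain ⟨k, hk⟩ := cs.exists_rightDescent_of_ne_one hw
      have hk' : cs.length (w * cs.simple k) < cs.length w := hk
      have h1 : cs.length (w * cs.simple k) + 1 = cs.length w := by
        rcases cs.length_mul_simple w k with h' | h' <;> omega
      refine ⟨k, h1, ?_⟩
      have h6 := h.ad.mul (w := w * cs.simple k) (i := k) (by rw [cs.simple_mul_simple_cancel_right]; omega)
      rwa [cs.simple_mul_simple_cancel_right] at h6
    have hw1 : w ≠ 1 := by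
      rintro rfl
      rw [h.ad.one] at hnw
      omega
    obtain ⟨k, hk1, hk2⟩ := hdesc w hw1
    have hki : k = i := by
      by_contra hne
      have hkJ : k ∈ J := by
        have : k = 1 - i := by (clear * - hne; (solve | lia | omega))
        rw [this]; exact hj
      have := (isMinR_iff (cs := cs)).1 hw k hkJ
      omega
    subst hki
    have hw2 : w * cs.simple k ≠ 1 := by
      intro h5
      rw [h5, h.ad.one] at hk2
      omega
    obtain ⟨l, hl1, hl2⟩ := hdesc _ hw2
    have hlk : l ≠ k := by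
      rintro rfl
      rw [cs.simple_mul_simple_cancel_right] at hl1
      omega
    by_cases hw3 : w * cs.simple k * cs.simple l = 1
    · rw [hw3, h.ad.one] at hl2
      apply h.not_dvd
      intro j
      have hcase : j = k ∨ j = l := by (clear * - hlk; omega)
      rcases hcase with rfl | rfl
      · rw [hei]; exact ⟨d, by ring⟩
      · exact ⟨d, by rw [show 2 * a * d = 2 * (a * d) by ring]; omega⟩
    · obtain ⟨r, hr1, hr2⟩ := hdesc _ hw3
      have hrl : r ≠ l := by
        rintro rfl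
        rw [cs.simple_mul_simple_cancel_right] at hr1
        omega
      have hrk : r = k := by (clear * - hlk hrl; omega)
      subst hrk
      have := h.e_pos l
      omega
  · -- `J = ∅`
    have hJ0 : J = ∅ := by
      ext j
      constructor
      · intro hjJ
        have hcase : j = i ∨ j = 1 - i := by omega
        rcases hcase with rfl | rfl
        · exact absurd hjJ hi
        · exact absurd hjJ hj
      · intro h; exact absurd h (Set.notMem_empty j)
    have hmin : ∀ w : W, IsMinR cs J w := by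
      intro w
      rw [isMinR_iff]
      intro k hk
      rw [hJ0] at hk
      exact absurd hk (Set.notMem_empty k)
    apply not_comm cs (by omega) (i := i)
    apply h.eq (hmin _) (hmin _)
    have l1 := length_two cs (by omega) i
    have l2 := length_two cs (by omega) (1 - i)
    have e1 : (1 : Fin 2) - (1 - i) = i := by (clear * -; solve | lia | omega)
    rw [e1] at l2
    rw [h.ad.mul l1, h.ad.mul l2, h.ad.simple, h.ad.simple, add_comm]

end LS

end Two

section Cartan

variable {I W : Type*} [Fintype I] [DecidableEq I] [Group W] [Finite W] {M : CoxeterMatrix I}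
  {cs : CoxeterSystem M W} {J : Set I} {n : W → ℕ} {e : I → ℕ} {a m c d : ℕ}

open Cfsg.Agent.ChevalleyStructure.CoxeterGeom Cfsg.Agent.Tits.Roots Cfsg.Agent.H219.HerUniq

/-- two words with the same label -/
theorem LS.dup (h : LS cs J n e a m c d) {A : I → I → ℤ} (hA : IsCartan M A) {i : I} (hi : i ∉ J) (ω ω' : List I)
    (h1 : Legal A (Pi.single i 1) ω) (h2 : Legal A (Pi.single i 1) ω') (hs : (ω.map e).sum = (ω'.map e).sum)
    (hne : cf A i ω ≠ cf A i ω') : False := by
  obtain ⟨h3, h4⟩ := h.ad.lab_legal hA hi h1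
  obtain ⟨h5, h6⟩ := h.ad.lab_legal hA hi h2
  have h7 := h.eq h3 h5 (by rw [h4, h6, hs])
  apply hne
  rw [← co_wordProd cs hA, ← co_wordProd cs hA, inv_injective h7]

theorem LS.f4 {W : Type*} [Group W] [Finite W] {cs : CoxeterSystem CoxeterMatrix.F₄ W} {J : Set (Fin 4)} {n : W → ℕ}
    {e : Fin 4 → ℕ} (h : LS cs J n e a m c d) (hJ : J ≠ Set.univ) : False := by
  obtain ⟨i, hi⟩ : ∃ i, i ∉ J := by
    by_contra hcon
    push Not at hcon
    exact hJ (Set.eq_univ_of_forall hcon)
  have h01 : e 0 = e 1 := h.ad.eq_of_three isCartan_cF4 (by decide +kernel)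
  have h23 : e 2 = e 3 := h.ad.eq_of_three isCartan_cF4 (by decide +kernel)
  fin_cases i
  · exact h.dup isCartan_cF4 hi [0, 1, 2, 1, 0, 3, 2] [0, 1, 2, 1, 3, 2, 1] (by decide +kernel) (by decide +kernel)
      (by simp only [List.map_cons, List.map_nil, List.sum_cons, List.sum_nil]; omega) (by decide +kernel)
  · exact h.dup isCartan_cF4 hi [1, 0, 2] [1, 2, 1] (by decide +kernel) (by decide +kernel)
      (by simp only [List.map_cons, List.map_nil, List.sum_cons, List.sum_nil]; omega) (by decide +kernel)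
  · exact h.dup isCartan_cF4 hi [2, 1, 2] [2, 1, 3] (by decide +kernel) (by decide +kernel)
      (by simp only [List.map_cons, List.map_nil, List.sum_cons, List.sum_nil]; omega) (by decide +kernel)
  · exact h.dup isCartan_cF4 hi [3, 2, 1, 0, 2, 1, 2] [3, 2, 1, 0, 2, 1, 3] (by decide +kernel) (by decide +kernel)
      (by simp only [List.map_cons, List.map_nil, List.sum_cons, List.sum_nil]; omega) (by decide +kernel)

end Cartan

end Cfsg.Agent.H985.UT
end

-- part: H985/UT/ElimB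
section
/-!
# The labels, type `B_l` (helper985, S2196 part B3)

`e = (t₁, …, t₁, t₂)`.
* `LS.b_mid` : the inner nodes are in `J`; `exists_up`, `exists_down` : the words from the node `0`;
* **`LS.b_one_two`** : `(t, …, t, 2 t)` is impossible; **`LS.b_two_one`** : `(2 t, …, 2 t, t)`: `t = a`, `l = m`, `c + 1 = 2 m`;
  **`LS.b_two_three`** : `(2 t, …, 2 t, 3 t)`: `t = a`, `l = m`, `c = 2 m + 1`.
-/

set_option autoImplicit false
set_option linter.unusedSectionVars false
set_option linter.style.haveILetI false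

namespace Cfsg.Agent.H985.UT

open Cfsg.Agent.Tits.Core Cfsg.Agent.Tits.Core.Bldg Cfsg.Agent.Tits.Exchange Cfsg.Agent.Tits
open Cfsg.Agent.FixBN Cfsg.Agent.FixBN.Cox Cfsg.Agent.Omega.CR Cfsg.Agent.Omega.CR.Bl Cfsg.Agent.H905.DC
open Cfsg.Agent.H50.Her
open Cfsg.Agent.ChevalleyStructure.CoxeterGeom Cfsg.Agent.Tits.Roots Cfsg.Agent.H219.HerUniq Cfsg.Agent.H858.HerUniq

variable {l : ℕ} {W : Type*} [Group W] [Finite W] {cs : CoxeterSystem (CoxeterMatrix.B l) W} {J : Set (Fin l)}
  {n : W → ℕ} {e : Fin l → ℕ} {a m c d : ℕ}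

/-- a node with two neighbours of the same parameter -/
theorem LS.b_mid (h : LS cs J n e a m c d) {t : ℕ} (he : ∀ i : Fin l, (i : ℕ) + 1 < l → e i = t) {i : Fin l} (hi : i ∉ J)
    (h1 : 1 ≤ (i : ℕ)) (h2 : (i : ℕ) + 2 ≤ l) : False := by
  have hil := i.2
  have hA := isCartan_AB l
  let x : Fin l := ⟨i - 1, by omega⟩
  let y : Fin l := ⟨i + 1, by omega⟩
  have hxv : (x : ℕ) = i - 1 := rfl
  have hyv : (y : ℕ) = i + 1 := rfl
  have hxi : x ≠ i := fun e => by have := congrArg Fin.val e; omega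
  have hyi : y ≠ i := fun e => by have := congrArg Fin.val e; omega
  have hxy : x ≠ y := fun e => by have := congrArg Fin.val e; omega
  have Aix : AB l i x = -1 := by
    rw [AB_apply, if_neg hxi.symm, if_pos (by omega), if_pos (by omega)]
  have Aiy : AB l i y = -1 := by
    rw [AB_apply, if_neg hyi.symm, if_neg (by omega), if_pos (by omega)]
  have Axx : AB l x x = 2 := hA.diag x
  have Ayy : AB l y y = 2 := hA.diag y
  have Aii : AB l i i = 2 := hA.diag i
  have Axy : AB l x y = 0 := by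
    rw [AB_apply, if_neg hxy, if_neg (by omega), if_neg (by omega)]
  have Ayx : AB l y x = 0 := by
    rw [AB_apply, if_neg hxy.symm, if_neg (by omega), if_neg (by omega)]
  have c0 : ∀ z : Fin l, z ≠ i → fire (AB l) (Pi.single i 1) i z = - AB l i z := by
    intro z hz
    change (Pi.single i 1 : Fin l → ℤ) z - AB l i z * (Pi.single i 1 : Fin l → ℤ) i = _
    rw [Pi.single_eq_same, Pi.single_eq_of_ne hz]; ring
  have c1x : fire (AB l) (Pi.single i 1) i x = 1 := by rw [c0 x hxi, Aix]; norm_num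
  have c1y : fire (AB l) (Pi.single i 1) i y = 1 := by rw [c0 y hyi, Aiy]; norm_num
  have c1i : fire (AB l) (Pi.single i 1) i i = -1 := by
    change (Pi.single i 1 : Fin l → ℤ) i - AB l i i * (Pi.single i 1 : Fin l → ℤ) i = _
    rw [Pi.single_eq_same, Aii]; norm_num
  have hex : e x = t := he x (by omega)
  have hei : e i = t := he i (by omega)
  by_cases h3 : (i : ℕ) + 3 ≤ l
  · have hey : e y = t := he y (by omega)
    refine h.dup hA hi [i, x] [i, y] ⟨by simp, by rw [c1x]; norm_num, trivial⟩ ⟨by simp, by rw [c1y]; norm_num, trivial⟩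
      (by simp only [List.map_cons, List.map_nil, List.sum_cons, List.sum_nil]; omega) ?_
    intro heq
    have h4 := congrFun heq x
    change fire (AB l) (Pi.single i 1) i x - AB l x x * fire (AB l) (Pi.single i 1) i x =
      fire (AB l) (Pi.single i 1) i x - AB l y x * fire (AB l) (Pi.single i 1) i y at h4
    rw [c1x, c1y, Axx, Ayx] at h4
    norm_num at h4
  · have Ayi : AB l y i = -2 := by
      rw [AB_apply, if_neg hyi, if_pos (by omega), if_neg (by omega)]
    have c2i : fire (AB l) (fire (AB l) (Pi.single i 1) i) y i = 1 := by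
      change fire (AB l) (Pi.single i 1) i i - AB l y i * fire (AB l) (Pi.single i 1) i y = _
      rw [c1i, c1y, Ayi]; norm_num
    have c2x : fire (AB l) (fire (AB l) (Pi.single i 1) i) y x = 1 := by
      change fire (AB l) (Pi.single i 1) i x - AB l y x * fire (AB l) (Pi.single i 1) i y = _
      rw [c1x, c1y, Ayx]; norm_num
    refine h.dup hA hi [i, y, x] [i, y, i] ⟨by simp, by rw [c1y]; norm_num, by rw [c2x]; norm_num, trivial⟩
      ⟨by simp, by rw [c1y]; norm_num, by rw [c2i]; norm_num, trivial⟩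
      (by simp only [List.map_cons, List.map_nil, List.sum_cons, List.sum_nil]; omega) ?_
    intro heq
    have h4 := congrFun heq x
    change fire (AB l) (fire (AB l) (Pi.single i 1) i) y x - AB l x x * fire (AB l) (fire (AB l) (Pi.single i 1) i) y x =
      fire (AB l) (fire (AB l) (Pi.single i 1) i) y x - AB l i x * fire (AB l) (fire (AB l) (Pi.single i 1) i) y i at h4
    rw [c2x, c2i, Axx, Aix] at h4
    norm_num at h4

theorem single_eq_pB {i : Fin l} (h0 : (i : ℕ) = 0) : (Pi.single i 1 : Fin l → ℤ) = pB l 0 := by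
  funext m
  rw [Pi.single_apply]
  unfold pB
  simp only [Fin.ext_iff]
  split_ifs <;> first | omega | (exfalso; assumption)

/-- the words from the node `0`, first half -/
theorem exists_up {t : ℕ} (he : ∀ i : Fin l, (i : ℕ) + 1 < l → e i = t) {i : Fin l} (h0 : (i : ℕ) = 0) (k : ℕ) (hk : k < l) :
    ∃ ω : List (Fin l), Legal (AB l) (Pi.single i 1) ω ∧ cf (AB l) i ω = pB l k ∧ (ω.map e).sum = k * t := by
  induction k with
  | zero => exact ⟨[], trivial, single_eq_pB h0, by simp⟩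
  | succ k ih =>
    obtain ⟨ω, h1, h2, h3⟩ := ih (by omega)
    refine ⟨ω ++ [⟨k, by omega⟩], legal_append _ _ _ _ h1 ⟨?_, trivial⟩, ?_, ?_⟩
    · change 0 < cf (AB l) i ω ⟨k, by omega⟩
      rw [h2]
      unfold pB
      simp
    · rw [cf, List.foldl_append]
      change fire (AB l) (cf (AB l) i ω) ⟨k, by omega⟩ = _
      rw [h2, fire_pB_eq ⟨k, by omega⟩ rfl hk]
    · rw [List.map_append, List.sum_append, h3]
      simp only [List.map_cons, List.map_nil, List.sum_cons, List.sum_nil, add_zero]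
      rw [he ⟨k, by omega⟩ (by change k + 1 < l; omega)]
      ring

/-- the words from the node `0`, second half -/
theorem exists_down {t t' : ℕ} (he : ∀ i : Fin l, (i : ℕ) + 1 < l → e i = t) (he' : ∀ i : Fin l, (i : ℕ) + 1 = l → e i = t')
    {i : Fin l} (h0 : (i : ℕ) = 0) (k : ℕ) (hk : k < l) :
    ∃ ω : List (Fin l), Legal (AB l) (Pi.single i 1) ω ∧ cf (AB l) i ω = -pB l (l - 1 - k) ∧
      (ω.map e).sum = (l - 1 + k) * t + t' := by
  induction k with
  | zero =>
    obtain ⟨ω, h1, h2, h3⟩ := exists_up he h0 (l - 1) (by omega)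
    refine ⟨ω ++ [⟨l - 1, by omega⟩], legal_append _ _ _ _ h1 ⟨?_, trivial⟩, ?_, ?_⟩
    · change 0 < cf (AB l) i ω ⟨l - 1, by omega⟩
      rw [h2]
      unfold pB
      simp only [↓ _root_.reduceIte, _root_.Nat.add_eq_left, _root_.one_ne_zero, _root_.sub_zero, _root_.zero_lt_one]
    · rw [cf, List.foldl_append]
      change fire (AB l) (cf (AB l) i ω) ⟨l - 1, by omega⟩ = _
      rw [h2, fire_pB_last (k := l - 1) ⟨l - 1, by omega⟩ rfl (by omega)]
      rfl
    · rw [List.map_append, List.sum_append, h3]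
      simp only [List.map_cons, List.map_nil, List.sum_cons, List.sum_nil, add_zero]
      rw [he' ⟨l - 1, by omega⟩ (by change l - 1 + 1 = l; omega)]
  | succ k ih =>
    obtain ⟨ω, h1, h2, h3⟩ := ih (by omega)
    refine ⟨ω ++ [⟨l - 2 - k, by omega⟩], legal_append _ _ _ _ h1 ⟨?_, trivial⟩, ?_, ?_⟩
    · change 0 < cf (AB l) i ω ⟨l - 2 - k, by omega⟩
      rw [h2]
      change 0 < - pB l (l - 1 - k) ⟨l - 2 - k, by omega⟩
      unfold pB
      simp only
      rw [if_neg (by omega), if_pos (by omega)]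
      norm_num
    · rw [cf, List.foldl_append]
      change fire (AB l) (cf (AB l) i ω) ⟨l - 2 - k, by omega⟩ = _
      rw [h2, fire_neg, fire_pB_pred ⟨l - 2 - k, by omega⟩ (by change l - 2 - k + 1 = l - 1 - k; omega) (by omega)]
      congr 2
    · rw [List.map_append, List.sum_append, h3]
      simp only [List.map_cons, List.map_nil, List.sum_cons, List.sum_nil, add_zero]
      rw [he ⟨l - 2 - k, by omega⟩ (by change l - 2 - k + 1 < l; omega)]
      ring

/-- the label of `s_{l-2} s_{l-1}` -/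
theorem LS.b_last (h : LS cs J n e a m c d) (h2 : 2 * d ≤ m) (hl : 2 ≤ l) {t : ℕ}
    (he : ∀ i : Fin l, (i : ℕ) + 1 < l → e i = t) {i : Fin l} (hi : i ∉ J) (hil : (i : ℕ) + 1 = l)
    (hei : e i = 2 * a * d) : 4 * a * d ≤ 2 * a * d + t ∨ a * c ≤ 2 * a * d + t := by
  have hA := isCartan_AB l
  let x : Fin l := ⟨i - 1, by omega⟩
  have hxv : (x : ℕ) = i - 1 := rfl
  have hxi : x ≠ i := fun e => by have := congrArg Fin.val e; omega
  have Aix : AB l i x = -2 := by
    rw [AB_apply, if_neg hxi.symm, if_pos (by omega), if_neg (by omega)]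
  have c1x : fire (AB l) (Pi.single i 1) i x = 2 := by
    change (Pi.single i 1 : Fin l → ℤ) x - AB l i x * (Pi.single i 1 : Fin l → ℤ) i = _
    rw [Pi.single_eq_same, Pi.single_eq_of_ne hxi, Aix]; norm_num
  have hex : e x = t := he x (by omega)
  obtain ⟨h3, h4⟩ := h.ad.lab_legal hA hi (ω := [i, x]) ⟨by simp, by rw [c1x]; norm_num, trivial⟩
  simp only [List.map_cons, List.map_nil, List.sum_cons, List.sum_nil, add_zero] at h4
  rw [hei, hex] at h4
  have hpos := h.e_pos x
  rw [hex] at hpos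
  rw [← h4]
  have hpos2 : 0 < 2 * a * d := by
    have := h.lab.d_pos
    have := h.a_pos
    positivity
  refine h.far h2 hi hei h3 ?_ ?_
  · intro h5
    rw [h5, h.ad.one] at h4
    omega
  · intro h5
    rw [h5, h.ad.simple, hei] at h4
    omega

/-- a label `3 a d` is impossible -/
theorem LS.no_three (h : LS cs J n e a m c d) (h2 : 2 * d ≤ m) (h3 : 4 * a * d ≤ 3 * a * d ∨ a * c ≤ 3 * a * d) : False := by
  have hd := h.lab.d_pos
  have ha := h.a_pos
  have had : 0 < a * d := Nat.mul_pos ha hd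
  rcases h3 with h3 | h3
  · have e4 : 4 * a * d = 4 * (a * d) := by ring
    have e3 : 3 * a * d = 3 * (a * d) := by ring
    omega
  · have h4 : a * c ≤ a * (3 * d) := by
      calc a * c ≤ 3 * a * d := h3
        _ = a * (3 * d) := by ring
    have h5 := Nat.le_of_mul_le_mul_left h4 ha
    have := h.lo
    have := h.three
    omega

/-- the complement of `J` is `{0}` -/
theorem LS.b_compl (h : LS cs J n e a m c d) (hJ : J ≠ Set.univ) {t : ℕ} (he : ∀ i : Fin l, (i : ℕ) + 1 < l → e i = t)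
    (hlast : ∀ i : Fin l, (i : ℕ) + 1 = l → i ∈ J) :
    ∃ i : Fin l, i ∉ J ∧ (i : ℕ) = 0 ∧ (∀ j, j ≠ i → j ∈ J) ∧ (WJ cs J).index = 2 * l := by
  obtain ⟨i, hi⟩ : ∃ i, i ∉ J := by
    by_contra hcon
    push Not at hcon
    exact hJ (Set.eq_univ_of_forall hcon)
  have key : ∀ j : Fin l, j ∉ J → (j : ℕ) = 0 := by
    intro j hj
    by_contra h0
    have hjl := j.2
    by_cases h1 : (j : ℕ) + 1 = l
    · exact hj (hlast j h1)
    · exact h.b_mid he hj (by omega) (by omega)
  have hi0 := key i hi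
  have hc : ∀ j, j ≠ i → j ∈ J := by
    intro j hj
    by_contra hcon
    exact hj (Fin.ext ((key j hcon).trans hi0.symm))
  exact ⟨i, hi, hi0, hc, index_B_zero cs hi hc hi0⟩

/-- **`(t, …, t, 2 t)`** -/
theorem LS.b_one_two (h : LS cs J n e a m c d) (h2 : 2 * d ≤ m) (hl : 2 ≤ l) {t : ℕ}
    (he : ∀ i : Fin l, (i : ℕ) + 1 < l → e i = t) (he' : ∀ i : Fin l, (i : ℕ) + 1 = l → e i = 2 * t) : False := by
  obtain ⟨i, hi, hei⟩ := h.node h2
  have hil := i.2
  by_cases h1 : (i : ℕ) + 1 = l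
  · have h3 := h.b_last h2 hl he hi h1 hei
    have h4 := he' i h1
    rw [hei] at h4
    have h5 : t = a * d := by
      have : 2 * t = 2 * (a * d) := by rw [← h4]; ring
      omega
    rw [h5] at h3
    have e3 : 2 * a * d + a * d = 3 * a * d := by ring
    rw [e3] at h3
    exact h.no_three h2 h3
  · have h4 := he i (by omega)
    rw [hei] at h4
    apply h.not_dvd
    intro j
    have hj := j.2
    by_cases h5 : (j : ℕ) + 1 = l
    · rw [he' j h5, ← h4]
      exact ⟨2 * d, by ring⟩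
    · rw [he j (by omega), ← h4]
      exact ⟨d, by ring⟩

/-- **`(2 t, …, 2 t, t)`** -/
theorem LS.b_two_one (h : LS cs J n e a m c d) (hJ : J ≠ Set.univ) (h2 : 2 * d ≤ m) (hl : 2 ≤ l) {t : ℕ}
    (he : ∀ i : Fin l, (i : ℕ) + 1 < l → e i = 2 * t) (he' : ∀ i : Fin l, (i : ℕ) + 1 = l → e i = t) :
    t = a ∧ l = m ∧ c + 1 = 2 * m := by
  have hd := h.lab.d_pos
  have ha := h.a_pos
  have had : 0 < a * d := Nat.mul_pos ha hd
  obtain ⟨i, hi, hei⟩ := h.node h2
  have hil := i.2
  have h1 : (i : ℕ) + 1 ≠ l := by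
    intro h1
    have h4 := he' i h1
    rw [hei] at h4
    apply h.not_dvd
    intro j
    have hj := j.2
    by_cases h5 : (j : ℕ) + 1 = l
    · rw [he' j h5, ← h4]
      exact ⟨d, by ring⟩
    · rw [he j (by omega), ← h4]
      exact ⟨2 * d, by ring⟩
  have ht : t = a * d := by
    have h4 := he i (by omega)
    rw [hei] at h4
    have : 2 * t = 2 * (a * d) := by rw [← h4]; ring
    omega
  obtain ⟨i₀, hi₀, hi₀0, hc, hidx⟩ := h.b_compl hJ he (by
    intro j hj
    by_contra hjJ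
    have h5 := h.ge_simple h2 hjJ
    rw [he' j hj, ht] at h5
    have : 2 * a * d = 2 * (a * d) := by ring
    omega)
  obtain ⟨m', hm1, hm2⟩ := h.lab.half
  obtain rfl : l = m' := by omega
  obtain ⟨ω, o1, o2, o3⟩ := exists_up he hi₀0 (l - 1) (by omega)
  obtain ⟨υ, u1, u2, u3⟩ := exists_down he he' hi₀0 0 (by omega)
  obtain ⟨o4, o5⟩ := h.ad.lab_legal (isCartan_AB l) hi₀ o1
  obtain ⟨u4, u5⟩ := h.ad.lab_legal (isCartan_AB l) hi₀ u1
  rw [o3] at o5
  rw [u3] at u5
  obtain ⟨r, rfl⟩ : ∃ r, l = r + 1 := ⟨l - 1, by omega⟩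
  have hr1 : r + 1 - 1 = r := by omega
  rw [hr1] at o5 u5
  have hlt : a * c ≤ n (cs.wordProd υ)⁻¹ := by
    rcases h.mem0 u4 with ⟨x, hx, h6⟩ | h6
    · exfalso
      rw [u5] at h6
      -- `2 x = (2 r + 1) d`
      have h7 : a * (2 * x) = a * ((2 * r + 1) * d) := by
        calc a * (2 * x) = 2 * a * x := by ring
          _ = (r + 0) * (2 * t) + t := h6.symm
          _ = a * ((2 * r + 1) * d) := by rw [ht]; ring
      have h8 := Nat.eq_of_mul_eq_mul_left ha h7
      have h9 : (2 * r + 1) * d = 2 * (r * d) + d := by ring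
      obtain ⟨y, hy⟩ : ∃ y, d = 2 * y := ⟨x - r * d, by omega⟩
      have h10 := h.lab.inj _ _ u4 o4 0 hd y (by (clear * - hd hy; omega)) (by
        rw [u5, o5, ht, hy]; ring)
      have h11 : n (cs.wordProd υ)⁻¹ = n (cs.wordProd ω)⁻¹ := by rw [h10.1]
      rw [u5, o5, add_zero] at h11
      omega
    · exact h6
  rw [u5, ht] at hlt
  have h6 : a * c ≤ a * ((2 * r + 1) * d) := by
    calc a * c ≤ (r + 0) * (2 * (a * d)) + a * d := hlt
      _ = a * ((2 * r + 1) * d) := by ring
  have h7 := Nat.le_of_mul_le_mul_left h6 ha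
  have h8 : (2 * r + 1) * d = 2 * (r * d) + d := by ring
  have h9 : (r + 1) * d = r * d + d := by ring
  have h10 := h.lo
  have hd1 : d = 1 := by omega
  subst hd1
  refine ⟨by rw [ht, mul_one], by omega, by omega⟩

/-- **`(2 t, …, 2 t, 3 t)`** -/
theorem LS.b_two_three (h : LS cs J n e a m c d) (hJ : J ≠ Set.univ) (h2 : 2 * d ≤ m) (hl : 2 ≤ l) {t : ℕ}
    (he : ∀ i : Fin l, (i : ℕ) + 1 < l → e i = 2 * t) (he' : ∀ i : Fin l, (i : ℕ) + 1 = l → e i = 3 * t) :
    t = a ∧ l = m ∧ c = 2 * m + 1 := by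
  have hd := h.lab.d_pos
  have ha := h.a_pos
  have had : 0 < a * d := Nat.mul_pos ha hd
  obtain ⟨i, hi, hei⟩ := h.node h2
  have hil := i.2
  have h1 : (i : ℕ) + 1 ≠ l := by
    intro h1
    have h3 := h.b_last h2 hl he hi h1 hei
    have h4 := he' i h1
    rw [hei] at h4
    have e2 : 2 * a * d = 2 * (a * d) := by ring
    have e4 : 4 * a * d = 4 * (a * d) := by ring
    rw [e2] at h4
    rcases h3 with h3 | h3
    · rw [e2, e4] at h3
      omega
    · -- `3 a c ≤ 10 a d`
      rw [e2] at h3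
      have h5 : a * (3 * c) ≤ a * (10 * d) := by
        have e5 : a * (3 * c) = 3 * (a * c) := by ring
        have e6 : a * (10 * d) = 10 * (a * d) := by ring
        rw [e5, e6]
        omega
      have h6 := Nat.le_of_mul_le_mul_left h5 ha
      have := h.lo
      have := h.three
      omega
  have ht : t = a * d := by
    have h4 := he i (by omega)
    rw [hei] at h4
    have : 2 * t = 2 * (a * d) := by rw [← h4]; ring
    omega
  obtain ⟨i₀, hi₀, hi₀0, hc, hidx⟩ := h.b_compl hJ he (by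
    intro j hj
    by_contra hjJ
    have h5 := h.far h2 hi hei (_root_.Cfsg.Agent.H50.Her.isMinR_simple (cs := cs) hjJ) (Trace.simple_ne_one j) (by
      intro h6
      have h7 : n (cs.simple j) = n (cs.simple i) := by rw [h6]
      rw [h.ad.simple, h.ad.simple, he' j hj, he i (by omega)] at h7
      omega)
    rw [h.ad.simple, he' j hj, ht] at h5
    have e3 : 3 * (a * d) = 3 * a * d := by ring
    rw [e3] at h5
    exact h.no_three h2 h5)
  obtain ⟨m', hm1, hm2⟩ := h.lab.half
  obtain rfl : l = m' := by omega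
  obtain ⟨υ, u1, u2, u3⟩ := exists_down he he' hi₀0 (l - 1) (by omega)
  obtain ⟨u4, u5⟩ := h.ad.lab_legal (isCartan_AB l) hi₀ u1
  rw [u3] at u5
  obtain ⟨r, rfl⟩ : ∃ r, l = r + 1 := ⟨l - 1, by omega⟩
  have hr1 : r + 1 - 1 = r := by omega
  rw [hr1] at u5
  obtain ⟨s, rfl⟩ : ∃ s, d = s + 1 := ⟨d - 1, by omega⟩
  have h5 := h.lab.mem _ u4 s (by omega)
  obtain ⟨x, hx, h6⟩ := mem_LamSet.1 h5
  rw [u5, ht] at h6
  have h7 : a * ((4 * r + 3) * (s + 1) + 2 * s) ≤ a * (c + 2 * x) := by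
    rcases h6 with h6 | h6
    · calc a * ((4 * r + 3) * (s + 1) + 2 * s) = (r + r) * (2 * (a * (s + 1))) + 3 * (a * (s + 1)) + 2 * a * s := by ring
        _ = 2 * a * x := h6
        _ ≤ a * (c + 2 * x) := by rw [mul_add]; linarith only [Nat.zero_le (a * c)]
    · calc a * ((4 * r + 3) * (s + 1) + 2 * s) = (r + r) * (2 * (a * (s + 1))) + 3 * (a * (s + 1)) + 2 * a * s := by ring
        _ = a * c + 2 * a * x := h6
        _ ≤ a * (c + 2 * x) := by rw [mul_add]; linarith only []
  have h8 := Nat.le_of_mul_le_mul_left h7 ha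
  have h9 : (4 * r + 3) * (s + 1) = 4 * (r * s) + 4 * r + 3 * s + 3 := by ring
  have h10 : (r + 1) * (s + 1) = r * s + r + s + 1 := by ring
  have h11 := h.hi
  have hs : s = 0 := by
    rw [h9] at h8
    rw [h10] at hm2
    (clear * - hm2 hx h8 h10 h11; omega)
  subst hs
  have h12 : r * 0 = 0 := mul_zero r
  refine ⟨by rw [ht]; ring, by omega, ?_⟩
  rw [h9] at h8
  (clear * - hx h11 hm2 h8; solve | lia | omega)

end Cfsg.Agent.H985.UT
end

-- part: H985/UT/Core
section
/-!
# Groups transitive on the isotropic points in the defining characteristic: the core (helper985, S2196 part B3)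

* `UC p ρ β a m c` : the setting (`ρ` absolutely simple over `F_{q²}`, `q = p ^ a`, form `β`, the isotropic vectors are fixed by
  Sylow `p`-subgroups, their number is `(q^(2m) - 1) (q^c + 1)`);
* `UC.ls` : the labels; `UC.core`, `UC.corePan` : existence for a group of type `M`;
* `UC.one` : rank one is impossible when two-point stabilisers are commutative.
-/

set_option autoImplicit false
set_option linter.unusedSectionVars false
set_option linter.style.haveILetI false

namespace Cfsg.Agent.H985.UT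

open Cfsg.Agent.Tits.Core Cfsg.Agent.Tits.Core.Bldg Cfsg.Agent.Tits.Exchange Cfsg.Agent.Tits
open Cfsg.Agent.FixBN Cfsg.Agent.FixBN.Cox Cfsg.Agent.Omega.CR Cfsg.Agent.Omega.CR.Bl Cfsg.Agent.H905.DC
open Cfsg.Agent.H50.Her
open Cfsg.Agent.ChevalleyStructure.CoxeterGeom Cfsg.Agent.Tits.Roots

universe u v w x

variable {p : ℕ} {Y : Type u} [Group Y] {k : Type v} {V : Type w} [Field k] [AddCommGroup V] [Module k V]

/-- the setting -/
structure UC (p : ℕ) (ρ : Y →* Module.End k V) (β : V → Module.Dual k V) (a m c : ℕ) : Prop where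
  irr : ∀ L : Submodule k V, Ivt ρ ⊤ L → L = ⊥ ∨ L = ⊤
  abs : ∀ f : Module.End k V, (∀ g v, f (ρ g v) = ρ g (f v)) → ∃ c : k, ∀ v, f v = c • v
  inj : Function.Injective ρ
  frm : Frm ρ β
  cov : ∀ v : V, v ≠ 0 → β v v = 0 → ∃ Q : Subgroup Y, IsPGroup p Q ∧
    (∀ Q' : Subgroup Y, IsPGroup p Q' → Nat.card Q' ≤ Nat.card Q) ∧ ∀ g ∈ Q, ρ g v = v
  a_pos : 0 < a
  card_k : Nat.card k = p ^ (2 * a)
  three : 3 ≤ m
  odd : Odd c
  lo : 2 * m ≤ c + 1
  hi : c ≤ 2 * m + 1
  dim : Module.finrank k V ≤ 2 * m + 1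
  cnt : Nat.card {v : V // v ≠ 0 ∧ β v v = 0} = ((p ^ (2 * a)) ^ m - 1) * (p ^ (a * c) + 1)
  simple : IsSimpleGroup (Y ⧸ Subgroup.center Y)
  cop : (Nat.card (Subgroup.center Y)).Coprime p

section

variable {ρ : Y →* Module.End k V} {β : V → Module.Dual k V} {a m c : ℕ}
variable [hp : Fact p.Prime] [CharP k p] [Finite Y] [Finite k] [Finite V] [Nontrivial V]

section bldg

variable {I : Type*} {M : CoxeterMatrix I} {W : Type*} [Group W] {cs : CoxeterSystem M W} [F : OppRes.Cox cs]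
  {C : Type*} {Δ : Bldg cs C} [MulAction Y C] (S : Sys Δ Y p) [Fintype C]

theorem UC.hcov (h : UC p ρ β a m c) (v : V) (hv : v ≠ 0) (hi : β v v = 0) : ∃ x, v ∈ Vx S ρ x := by
  obtain ⟨Q, hQ, hmax, hfix⟩ := h.cov v hv hi
  obtain ⟨x, hx⟩ := S.exists_fix Q hQ
  refine ⟨x, ?_⟩
  have h1 : Q ≤ S.U x := S.max x Q hQ hx
  have h2 : Q = S.U x := Subgroup.eq_of_le_of_card_ge h1 (hmax _ (S.isP x))
  rw [mem_Vx]
  intro u hu
  rw [← h2] at hu
  exact hfix u hu

theorem UC.J_ne (h : UC p ρ β a m c) [Nonempty I] (hth : Δ.Thick) (x : C) : Jset S ρ ≠ Set.univ := by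
  have hfin : FiniteDimensional k V := Module.Finite.of_finite
  intro hJ
  have hirr := h.irr
  obtain ⟨hN, hs⟩ := exists_stb_Vx (S := S) hth hirr x
  have h1 := hN.iSup_opp hth hs hirr x
  have hall : ∀ z, Vx S ρ z = Vx S ρ x := by
    obtain ⟨c, hc1, hc⟩ := exists_apt (Δ := Δ) x
    intro z
    have hW : Δ.δ x z = Δ.δ (c 1) (c (Δ.δ x z)) := by rw [hc, inv_one, one_mul]
    obtain ⟨g, hg1, hg2⟩ := exists_smul_pair (S := S) hth hW
    have h2 : Vx S ρ (c 1) = Vx S ρ (c (Δ.δ x z)) := by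
      rw [Vx_eq_iff (S := S) hth hirr hc, hJ]
      rw [show WJ cs (Set.univ : Set I) = ⊤ from OppRes.WJ_univ]
      trivial
    rw [← hg1, ← hg2, Vx_smul, Vx_smul] at h2
    have h3 : Function.Injective (Submodule.map (ρ g)) :=
      Submodule.map_injective_of_injective (rhoEquiv ρ g).injective
    exact (h3 h2).symm
  have h2 : Vx S ρ x = ⊤ := by
    rw [eq_top_iff, ← h1]
    exact iSup_le fun z => (hall z).le
  obtain ⟨i⟩ := (inferInstance : Nonempty I)
  obtain ⟨y, z, hne, hy, hz⟩ := hth x i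
  obtain ⟨u, hu, e⟩ := S.exists_move (x := x) (z := y) (z' := z) (hy.trans hz.symm)
  apply hne
  rw [← e]
  have h4 : u = 1 := by
    apply h.inj
    rw [map_one]
    refine LinearMap.ext fun v => ?_
    have h3 : v ∈ Vx S ρ x := by rw [h2]; trivial
    exact h3 u hu
  rw [h4, one_smul]

/-- **the labels** -/
theorem UC.ls (h : UC p ρ β a m c) [Finite W] [Nonempty I] (hth : Δ.Thick) (x : C) :
    ∃ (n : W → ℕ) (e : I → ℕ), Jset S ρ ≠ Set.univ ∧
      LS cs (Jset S ρ) n e a m c (Module.finrank k (Vx S ρ x)) ∧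
      ∀ (x : C) (i : I), Nat.card {z : C // Δ.δ x z = cs.simple i} = p ^ e i := by
  obtain ⟨n, e, h1, h2, h3⟩ := exists_len S hth x
  have hJ := h.J_ne S hth x
  have h4 := labels (S := S) hth h.irr h.frm hJ (h.hcov S) h.a_pos h.card_k h.odd h.dim h.cnt x (fun w => h1 x w)
  exact ⟨n, e, hJ, ⟨h4, h2, h.a_pos, h3, h.three, h.odd, h.lo, h.hi⟩, fun x i => by rw [h1, h2.simple]⟩

end bldg

/-- a group of type `M` -/
theorem UC.core (h : UC p ρ β a m c) {I : Type*} [Finite I] [Nonempty I] {M : CoxeterMatrix I} (hS : HasSysT p M Y) :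
    ∃ (W : Type u) (_ : Group W) (_ : Finite W) (cs : CoxeterSystem M W) (J : Set I) (n : W → ℕ) (e : I → ℕ) (d : ℕ),
      J ≠ Set.univ ∧ LS cs J n e a m c d := by
  obtain ⟨W, C, i1, cs, i2, i3, Δ, i4, hth, ⟨S⟩⟩ := hS
  obtain ⟨Q⟩ : Nonempty (Sylow p Y) := inferInstance
  obtain ⟨x, -⟩ := S.exists_fix Q Q.isPGroup'
  obtain ⟨n, e, h1, h2, -⟩ := h.ls S hth x
  exact ⟨W, i1, i2, cs, _, n, e, _, h1, h2⟩

/-- a group of type `M` with panels -/
theorem UC.corePan (h : UC p ρ β a m c) {I : Type*} [Finite I] [Nonempty I] {M : CoxeterMatrix I} {q : I → ℕ}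
    (hB : HasBld p M q Y) :
    ∃ (W : Type u) (_ : Group W) (_ : Finite W) (cs : CoxeterSystem M W) (J : Set I) (n : W → ℕ) (e : I → ℕ) (d : ℕ),
      J ≠ Set.univ ∧ LS cs J n e a m c d ∧ ∀ i, q i = p ^ e i := by
  obtain ⟨W, C, i1, cs, i2, i3, Δ, i4, hth, ⟨S⟩, hq, -⟩ := hB
  obtain ⟨Q⟩ : Nonempty (Sylow p Y) := inferInstance
  obtain ⟨x, -⟩ := S.exists_fix Q Q.isPGroup'
  obtain ⟨n, e, h1, h2, h3⟩ := h.ls S hth x
  exact ⟨W, i1, i2, cs, _, n, e, _, h1, h2, fun i => by rw [← hq x i, h3]⟩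

/-- a building of rank one with commutative stabilisers of two points -/
def HasOne.{r, s} (p : ℕ) (Y : Type r) [Group Y] : Prop :=
  ∃ (M : CoxeterMatrix (Fin 1)) (W C : Type s) (_ : Group W) (cs : CoxeterSystem M W) (_ : Finite W) (_ : Fintype C)
    (Δ : Bldg cs C) (_ : MulAction Y C), Δ.Thick ∧ Nonempty (Sys Δ Y p) ∧
      ∀ x y : C, Δ.Opp x y → ∀ g h : Y, g • x = x → g • y = y → h • x = x → h • y = y → g * h = h * g

/-- **rank one** -/
theorem UC.one (h : UC p ρ β a m c) (hS : HasOne.{u, x} p Y) : False := by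
  obtain ⟨M, W, C, i1, cs, i2, i3, Δ, i4, hth, ⟨S⟩, hT⟩ := hS
  have hfin : FiniteDimensional k V := Module.Finite.of_finite
  obtain ⟨Q⟩ : Nonempty (Sylow p Y) := inferInstance
  obtain ⟨x, -⟩ := S.exists_fix Q Q.isPGroup'
  obtain ⟨n, e, h1, h2, h3⟩ := h.ls S hth x
  obtain ⟨m', hm1, hm2⟩ := h2.lab.half
  have hidx : (WJ cs (Jset S ρ)).index ≤ 2 := by
    have hle : (WJ cs (Jset S ρ)).index ≤ Nat.card W :=
      Nat.le_of_dvd Nat.card_pos (Subgroup.index_dvd_card _)
    refine hle.trans ?_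
    have h4 : (Set.univ : Set W) ⊆ {1, cs.simple 0} := by
      intro w _
      rcases eq_one_or_simple cs w with rfl | rfl
      · simp
      · simp
    calc Nat.card W = (Set.univ : Set W).ncard := (Set.ncard_univ W).symm
      _ ≤ ({1, cs.simple 0} : Set W).ncard := Set.ncard_le_ncard h4 (Set.toFinite _)
      _ ≤ 2 := Set.ncard_insert_le _ _ |>.trans (by rw [Set.ncard_singleton])
  obtain ⟨y, hy⟩ := Opp.exists_opp Δ x
  obtain ⟨w, hw, hw0, hall⟩ := Cfsg.Agent.H428.CardEnd.line_fin S ρ hth h.irr h.abs (x := x) (y := y)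
    (fun g h hg1 hg2 hh1 hh2 v _ => by
      rw [← rho_mul, ← rho_mul, hT x y hy g h hg1 hg2 hh1 hh2])
  have hd : Module.finrank k (Vx S ρ x) ≤ 1 :=
    finrank_le_one (⟨w, hw⟩ : Vx S ρ x) (fun v => by
      obtain ⟨c, hc⟩ := hall v.1 v.2
      exact ⟨c, Subtype.ext hc.symm⟩)
  have hm3 := h.three
  have : m' ≤ 1 := by omega
  have : m' * Module.finrank k (Vx S ρ x) ≤ 1 * 1 := Nat.mul_le_mul this hd
  omega

end

end Cfsg.Agent.H985.UT
end

-- part: H985/UT/One
section
/-!
# Rank one (helper985, S2196 part B3)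

* `opp_conj` : the stabiliser of two opposite chambers is conjugate into `B ∩ N`;
* `hasOne_of_split` : a central extension of a group with a split (B,N)-pair of rank one, `B ∩ N` cyclic;
* `one_sz`, `one_ree`; `hasOne_of_rgd`.
-/

set_option autoImplicit false
set_option linter.unusedSectionVars false
set_option linter.style.haveILetI false

namespace Cfsg.Agent.H985.UT

open Cfsg Cfsg.Agent.H50.Her Module
open Cfsg.Agent.Tits.Core Cfsg.Agent.Tits.Core.Bldg Cfsg.Agent.Tits.Exchange Cfsg.Agent.Tits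
open Cfsg.Agent.FixBN Cfsg.Agent.FixBN.Cox Cfsg.Agent.Omega.CR Cfsg.Agent.Omega.CR.Bl
open Cfsg.Agent.LieRecognition.BNCox Cfsg.Agent.H905.DC
open Subgroup CoxeterSystem Cfsg.Agent.ChevalleyStructure.CoxeterGeom Cfsg.Agent.Tits.Roots
  Cfsg.Agent.Tits.RootComb Cfsg.Agent.Nodes.Comb Cfsg.Agent.Nodes.Reps Cfsg.Agent.Nodes.BNOf
  Cfsg.Agent.Omega.ML.LieRow Cfsg.Agent.Tits.OfBN Cfsg.Agent.LieExceptional.BNPairCore

universe u v

/-- the stabiliser of two opposite chambers -/
theorem opp_conj {K : Type*} [Group K] [Finite K] {P : Cfsg.BNPair K} {p : ℕ} {U : Subgroup K}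
    [hN : ((P.B ⊓ P.N).subgroupOf P.N).Normal] {I : Type*} {M : CoxeterMatrix I} (e : I ≃ P.S)
    (cs : CoxeterSystem M (WP P))
    (hcs : ∀ i, cs.simple i = QuotientGroup.mk (⟨(e i : K), P.subset (e i).2⟩ : P.N)) (hP : Split P p U)
    {x y : K ⧸ P.B} (hxy : (bldg P e cs hcs).Opp x y) :
    ∃ c : K, ∀ g : K, g • x = x → g • y = y → c⁻¹ * g * c ∈ P.B ⊓ P.N := by
  induction x using QuotientGroup.induction_on with
  | _ a =>
  induction y using QuotientGroup.induction_on with
  | _ b =>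
  obtain ⟨m, hm⟩ := exists_mem_C P (a⁻¹ * b)
  obtain ⟨b₁, hb₁, b₂, hb₂, h2⟩ := mem_C.1 hm
  refine ⟨a * b₁, fun g hgx hgy => ?_⟩
  have hgx' : a⁻¹ * g * a ∈ P.B := OfBN.smul_mk_eq.1 hgx
  have hgy' : b⁻¹ * g * b ∈ P.B := OfBN.smul_mk_eq.1 hgy
  have h3 : (a * b₁)⁻¹ * g * (a * b₁) ∈ P.B := by
    have h4 : (a * b₁)⁻¹ * g * (a * b₁) = b₁⁻¹ * (a⁻¹ * g * a) * b₁ := by group
    rw [h4]
    exact mul_mem (mul_mem (inv_mem hb₁) hgx') hb₁
  obtain ⟨u, hu, t, ht, h4⟩ := hP.cover' h3
  have h5 : b = a * b₁ * (m : K) * b₂ := by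
    have h6 : b = a * (a⁻¹ * b) := by group
    rw [h6, h2]; group
  have h6 : (m : K)⁻¹ * ((a * b₁)⁻¹ * g * (a * b₁)) * m ∈ P.B := by
    have h7 : (m : K)⁻¹ * ((a * b₁)⁻¹ * g * (a * b₁)) * m = b₂ * (b⁻¹ * g * b) * b₂⁻¹ := by
      rw [h5]; group
    rw [h7]
    exact mul_mem (mul_mem hb₂ hgy') (inv_mem hb₂)
  have h7 : (m : K)⁻¹ * t * m ∈ P.B := by
    have h8 := P.conj_mem (m : K)⁻¹ (inv_mem m.2) t ht
    rw [inv_inv] at h8
    exact h8
  have h8 : (m : K)⁻¹ * u * m ∈ P.B := by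
    have h9 : (m : K)⁻¹ * u * m = ((m : K)⁻¹ * ((a * b₁)⁻¹ * g * (a * b₁)) * m) * ((m : K)⁻¹ * t * m)⁻¹ := by
      rw [h4]; group
    rw [h9]
    exact mul_mem h6 (inv_mem h7)
  have h9 : u = 1 := by
    refine OfBN.free e cs hcs hP (x := QuotientGroup.mk 1) (y := QuotientGroup.mk (m : K)) ?_
      ((OfBN.mem_UU hP).2 ?_) (OfBN.smul_mk_eq.2 h8)
    · have h10 : (bldg P e cs hcs).δ (QuotientGroup.mk a) (QuotientGroup.mk b) = w0 cs := hxy
      change (bldg P e cs hcs).δ (QuotientGroup.mk 1) (QuotientGroup.mk (m : K)) = w0 cs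
      rw [← h10, bldg_δ_mk, bldg_δ_mk, wt_of_mem _ hm]
      apply wt_of_mem
      exact mem_C.2 ⟨1, one_mem _, 1, one_mem _, by group⟩
    · have h11 : (1 : K)⁻¹ * u * 1 = u := by group
      rw [h11]
      exact hu
  rw [h4, h9, one_mul]
  exact ht

/-- **rank one groups with a cyclic torus and their central extensions** -/
theorem hasOne_of_split {p : ℕ} [Fact p.Prime] {Y : Type u} {Y' : Type v} [Group Y] [Finite Y] [Group Y']
    (f : Y →* Y') (hf : f.ker = Subgroup.center Y) (hpf : (Nat.card f.ker).Coprime p)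
    (hs : Function.Surjective f) (P : Cfsg.BNPair Y') (U : Subgroup Y') {s : Y'} (hS : P.S = {s})
    (h : Split P p U) {t₀ : Y'} (ht₀ : ∀ t ∈ P.B ⊓ P.N, ∃ n : ℤ, t = t₀ ^ n) : HasOne.{u, v} p Y := by
  have hfin : Finite Y' := Finite.of_surjective f hs
  obtain ⟨M₀, hM₀⟩ := Labels.exists_bnType P
  have hu : Unique P.S := by
    rw [hS]
    infer_instance
  let φ : P.S ≃ Fin 1 := Equiv.ofUnique _ _
  obtain ⟨hN, cs, hcs⟩ := Labels.bnType_reindex hM₀ φ
  set e : Fin 1 ≃ P.S := φ.symm.trans (Equiv.refl P.S) with he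
  have S := OfBN.sys e cs hcs h
  have hth := Cfsg.Agent.Tits.OfBN.thick P e cs hcs
  refine ⟨_, WP P, Y' ⧸ P.B, inferInstance, cs, inferInstance, Fintype.ofFinite _, bldg P e cs hcs,
    MulAction.compHom (Y' ⧸ P.B) f, hth, ⟨sysLift S f hf.le hpf hs⟩, ?_⟩
  intro x y hxy g g' hg hgy hg' hgy'
  obtain ⟨c, hc⟩ := opp_conj e cs hcs h hxy
  obtain ⟨i, hi⟩ := ht₀ _ (hc (f g) hg hgy)
  obtain ⟨j, hj⟩ := ht₀ _ (hc (f g') hg' hgy')
  obtain ⟨z, hz⟩ := hs (c * t₀ * c⁻¹)
  have key : ∀ (g : Y) (i : ℤ), c⁻¹ * f g * c = t₀ ^ i → ∃ w ∈ Subgroup.center Y, g = z ^ i * w := by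
    intro g i hi
    refine ⟨(z ^ i)⁻¹ * g, ?_, by group⟩
    rw [← hf, MonoidHom.mem_ker, map_mul, map_inv, map_zpow, hz, conj_zpow, ← hi]
    group
  obtain ⟨w, hw, rfl⟩ := key g i hi
  obtain ⟨w', hw', rfl⟩ := key g' j hj
  have h1 := Subgroup.mem_center_iff.1 hw
  have h2 := Subgroup.mem_center_iff.1 hw'
  calc z ^ i * w * (z ^ j * w') = z ^ i * (w * z ^ j) * w' := by group
    _ = z ^ i * z ^ j * (w * w') := by rw [← h1]; group
    _ = z ^ j * z ^ i * (w' * w) := by rw [h2, ← zpow_add, ← zpow_add, add_comm]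
    _ = z ^ j * (z ^ i * w') * w := by group
    _ = z ^ j * w' * (z ^ i * w) := by rw [h2]; group

/-- the image of the multiplicative group is cyclic -/
theorem exists_gen' {F G : Type*} [Field F] [Finite F] [Group G] {d : Fˣ → G} (hmul : ∀ a b, d a * d b = d (a * b)) :
    ∃ t₀ : G, ∀ a : Fˣ, ∃ n : ℤ, d a = t₀ ^ n := by
  let D : Fˣ →* G := MonoidHom.mk' d (fun a b => (hmul a b).symm)
  obtain ⟨g, hg⟩ := IsCyclic.exists_generator (α := Fˣ)
  refine ⟨D g, fun a => ?_⟩
  obtain ⟨n, rfl⟩ := Subgroup.mem_zpowers_iff.1 (hg a)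
  exact ⟨n, map_zpow D g n⟩

theorem one_sz {Y : Type u} {Y' : Type v} [Group Y] [Finite Y] [Group Y'] (h : Lie.IsoSuzuki Y')
    (f : Y →* Y') (hf : f.ker = Subgroup.center Y) (hpf : (Nat.card f.ker).Coprime 2)
    (hs : Function.Surjective f) : HasOne.{u, 0} 2 Y := by
  have : Fact (Nat.Prime 2) := ⟨Nat.prime_two⟩
  obtain ⟨K, i1, i2, m, hm, hK, ⟨e⟩⟩ := h
  have H := Cfsg.Agent.LieRecognition.SzMatrix.good hK
  have hsimple : IsSimpleGroup ↥(Cfsg.Lie.Sz K (2 ^ (m + 1))) := Cfsg.Agent.S1162.result hm hK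
  let g : Y →* ↥(Cfsg.Lie.Sz K (2 ^ (m + 1))) := e.toMonoidHom.comp f
  have hg : g.ker = f.ker := by
    ext x
    rw [MonoidHom.mem_ker, MonoidHom.mem_ker]
    exact map_eq_one_iff e e.injective
  obtain ⟨t₀, ht₀⟩ := exists_gen' (d := fun a => H.d a) (fun a b => H.d_mul a b)
  refine hasOne_of_split g (by rw [hg, hf]) (by rw [hg]; exact hpf) (e.surjective.comp hs)
    (Cfsg.Agent.Omega.ML.LieRow.SzSplit.bnPair H) H.unip (s := H.w) rfl
    (Cfsg.Agent.Omega.ML.LieRow.SzSplit.split hm hK H hsimple) (t₀ := t₀) ?_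
  intro t ht
  obtain ⟨a, rfl⟩ := Cfsg.Agent.Omega.ML.LieRow.SzSplit.mem_inf H ht.1 ht.2
  exact ht₀ a

theorem one_ree {Y : Type u} {Y' : Type v} [Group Y] [Finite Y] [Group Y'] (h : Lie.IsoRee Y')
    (f : Y →* Y') (hf : f.ker = Subgroup.center Y) (hpf : (Nat.card f.ker).Coprime 3)
    (hs : Function.Surjective f) : HasOne.{u, 0} 3 Y := by
  have : Fact (Nat.Prime 3) := ⟨Nat.prime_three⟩
  obtain ⟨K, i1, i2, m, hm, hK, ⟨e⟩⟩ := h
  obtain ⟨U, h, n, D⟩ := Cfsg.Agent.ChevalleyStructure.Ree.Data.exists_data hK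
  let g : Y →* ↥(Cfsg.Lie.twistedG2 K (3 ^ m)) := e.toMonoidHom.comp f
  have hg : g.ker = f.ker := by
    ext x
    rw [MonoidHom.mem_ker, MonoidHom.mem_ker]
    exact map_eq_one_iff e e.injective
  obtain ⟨t₀, ht₀⟩ := exists_gen' (d := h) (fun a b => (D.h_mul a b).symm)
  refine hasOne_of_split g (by rw [hg, hf]) (by rw [hg]; exact hpf) (e.surjective.comp hs)
    (ReeSplit.bnPair D) (Cfsg.Agent.LieRecognition.ReeSylowThree.uSub D) (s := n) rfl
    (ReeSplit.split hK D) (t₀ := t₀) ?_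
  intro t ht
  obtain ⟨a, rfl⟩ := ReeSplit.mem_inf D ht.1 ht.2
  exact ht₀ a

end Cfsg.Agent.H985.UT
end

-- part: H985/UT/OneRGD
section
/-!
# Rank one: `PSL₂`, `PSU₃` (helper985, S2196 part B3)

* `hasOne_of_rgd` : a root group datum of rank one with cyclic torus;
* `one_psl`, `one_psu`.
-/

set_option autoImplicit false
set_option linter.unusedSectionVars false
set_option linter.style.haveILetI false

namespace Cfsg.Agent.H985.UT

open Cfsg Cfsg.Agent.H50.Her Module
open Cfsg.Agent.Tits.Core Cfsg.Agent.Tits.Core.Bldg Cfsg.Agent.Tits.Exchange Cfsg.Agent.Tits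
open Cfsg.Agent.FixBN Cfsg.Agent.FixBN.Cox Cfsg.Agent.Omega.CR Cfsg.Agent.Omega.CR.Bl
open Cfsg.Agent.LieRecognition.BNCox Cfsg.Agent.H905.DC
open CoxeterSystem Cfsg.Agent.ChevalleyStructure.CoxeterGeom Cfsg.Agent.Tits.Roots
  Cfsg.Agent.Tits.RootComb Cfsg.Agent.Nodes.Comb Cfsg.Agent.Nodes.Reps Cfsg.Agent.Nodes.BNOf
  Cfsg.Agent.Omega.ML.LieRow Cfsg.Agent.Tits.OfBN Cfsg.Agent.LieExceptional.BNPairCore

universe u v

/-- **a root group datum of rank one with cyclic torus** -/
theorem hasOne_of_rgd {p : ℕ} [Fact p.Prime] {Y : Type u} {Y' : Type v} [Group Y] [Finite Y] [Group Y']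
    [IsSimpleGroup Y'] (f : Y →* Y') (hf : f.ker = Subgroup.center Y) (hpf : (Nat.card f.ker).Coprime p)
    (hs : Function.Surjective f) {W : Type*} [Group W] [Finite W] {M : CoxeterMatrix (Fin 1)}
    {cs : CoxeterSystem M W} {A : Fin 1 → Fin 1 → ℤ} {h : IsCartan M A}
    {Tor : Subgroup Y'} {n : Fin 1 → Y'} {X : (Fin 1 → ℤ) → Subgroup Y'} (R : RGD cs h p Tor n X)
    (hG1 : Nodes.RGDLib.G1 cs h X = ⊤) {t₀ : Y'} (ht₀ : ∀ t ∈ Tor, ∃ n : ℤ, t = t₀ ^ n) : HasOne.{u, v} p Y := by
  have hgen : RGD.B cs h Tor X ⊔ NN cs R.nsys = ⊤ := by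
    rw [eq_top_iff, ← hG1]
    exact Nodes.RGDLib.rgd_G1_le R
  have hfin : Finite Y' := Finite.of_surjective f hs
  have hne : (R.bnPair hgen).S.Nonempty := ⟨n 0, 0, rfl⟩
  have hP := SplitRGD.split_of_rgd (Fact.out) R hgen
    (Cfsg.Agent.Tits.OfBN.normalCore_eq_bot (R.bnPair hgen) hne)
  refine hasOne_of_split f hf hpf hs (R.bnPair hgen) _ (s := n 0) ?_ hP (t₀ := t₀) ?_
  · change Set.range n = {n 0}
    ext y
    constructor
    · rintro ⟨i, rfl⟩
      rw [Subsingleton.elim i 0]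
      rfl
    · rintro rfl
      exact ⟨0, rfl⟩
  · intro t ht
    apply ht₀
    rw [← R.B_inf_NN]
    exact ht

/-- a group with a homomorphism to a cyclic group -/
theorem gen_of_hom {T A K : Type*} [Group T] [Group A] [IsCyclic A] [Group K] (χ : T →* A) (φ : T →* K)
    (hφ : ∀ t, χ t = 1 → φ t = 1) : ∃ t₀ : K, ∀ t, ∃ n : ℤ, φ t = t₀ ^ n := by
  obtain ⟨⟨g, s, hs⟩, hg⟩ := IsCyclic.exists_generator (α := χ.range)
  refine ⟨φ s, fun t => ?_⟩
  obtain ⟨n, hn⟩ := Subgroup.mem_zpowers_iff.1 (hg ⟨χ t, t, rfl⟩)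
  have h1 : χ s ^ n = χ t := by rw [hs]; exact congrArg Subtype.val hn
  refine ⟨n, ?_⟩
  have h2 := hφ (t * (s ^ n)⁻¹) (by rw [map_mul, map_inv, map_zpow, h1, mul_inv_cancel])
  rw [map_mul, map_inv, map_zpow, mul_inv_eq_one] at h2
  exact h2

/-! ### `PSL₂` -/

section PSL

open Cfsg.Agent.Nodes Cfsg.Agent.Nodes.RGDTypeA Matrix

theorem t_apply {F : Type*} [Field F] (g : T (Fin 2) F) : g.1.1 0 1 = 0 ∧ g.1.1 1 0 = 0 ∧
    g.1.1 0 0 * g.1.1 1 1 = 1 := by
  have h : Mono 1 g.1 := g.2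
  have h01 : g.1.1 0 1 = 0 := by
    by_contra hne
    exact absurd (h 0 1 hne) (by decide)
  have h10 : g.1.1 1 0 = 0 := by
    by_contra hne
    exact absurd (h 1 0 hne) (by decide)
  refine ⟨h01, h10, ?_⟩
  have h1 := g.1.2
  rw [Matrix.det_fin_two, h01, zero_mul, sub_zero] at h1
  exact h1

/-- the first diagonal entry -/
def chiT (F : Type*) [Field F] : T (Fin 2) F →* F where
  toFun g := g.1.1 0 0
  map_one' := rfl
  map_mul' g h := by
    change (g.1.1 * h.1.1) 0 0 = _
    rw [Matrix.mul_apply, Fin.sum_univ_two, (t_apply g).1, zero_mul, add_zero]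

theorem one_psl {p : ℕ} [Fact p.Prime] {F : Type v} [Field F] [Finite F] [CharP F p] {Y : Type u} [Group Y] [Finite Y]
    [IsSimpleGroup (Matrix.ProjectiveSpecialLinearGroup (Fin 2) F)]
    (f : Y →* Matrix.ProjectiveSpecialLinearGroup (Fin 2) F) (hf : f.ker = Subgroup.center Y)
    (hpf : (Nat.card f.ker).Coprime p) (hs : Function.Surjective f) : HasOne.{u, v} p Y := by
  have : Finite (cA 1).Group := RootsA.finite_W (cA 1).toCoxeterSystem (RootsA.isCartan 1)
  obtain ⟨t₀, ht₀⟩ := gen_of_hom (MonoidHom.toHomUnits (chiT F)) ((_root_.Cfsg.Agent.Nodes.RGDTypeA.pr 1 F).comp (T (Fin 2) F).subtype) (by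
    intro t ht
    have h1 : t.1.1 0 0 = 1 := congrArg Units.val ht
    obtain ⟨h01, h10, h2⟩ := t_apply t
    have h3 : t.1 = 1 := by
      apply Subtype.ext
      ext i j
      fin_cases i <;> fin_cases j
      · exact h1
      · exact h01
      · exact h10
      · change t.1.1 1 1 = 1
        rw [h1, one_mul] at h2
        exact h2
    rw [MonoidHom.comp_apply, Subgroup.coe_subtype, h3, map_one])
  refine hasOne_of_rgd f hf hpf hs (rgd_psl (F := F) (n := 1) (p := p) (cA 1).toCoxeterSystem (RootsA.isCartan 1))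
    (G1_psl_eq_top _ _) (t₀ := t₀) ?_
  rintro _ ⟨t, ht, rfl⟩
  exact ht₀ ⟨t, ht⟩

end PSL

/-! ### `PSU₃` -/

section PSU

open Cfsg.Agent.Nodes Cfsg.Agent.Nodes.WittAll Cfsg.Agent.Nodes.WittU Cfsg.Agent.Nodes.WittInst
  Cfsg.Agent.Nodes.WittRoot Cfsg.Agent.Nodes.TypeC
  Cfsg.Agent.TitsThree Cfsg.Agent.TitsThree.Siegel Cfsg.Agent.TitsThree.SiegelGen
  Cfsg.Agent.TitsThree.WittFrame Cfsg.Agent.TitsThree.WBridge Cfsg.Agent.TitsThree.WittWeyl
  Cfsg.Agent.TitsThree.FrameCN Cfsg.Agent.TitsThree.LineBorel Cfsg.Agent.H742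
open Cfsg.Agent.Nodes.WittRGD (Tor mem_Tor nn nn_mem_sup rg_sr rg_neg_sr)
open Cfsg.Agent.LieClassical.HermBasic Cfsg.Agent.TitsThree.KSideU

variable {F : Type*} [Field F] {V : Type*} [AddCommGroup V] [Module F V] {H : HForm F V}
  {Fr : Frame H (Fin 1)} {K : Type*} [Group K] (M : Model Fr K)

/-- the torus of a frame of rank one with a one-dimensional anisotropic part -/
theorem torus_gen [Finite F] {p : ℕ} (hA : AmbT Fr p M.I) (hZ : Subgroup.center K = ⊥) (hsurj : Function.Surjective M.φ)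
    {d : V} (hd : d ∈ Fr.V0) (hdd : H.h d d ≠ 0) (hV0 : ∀ w ∈ Fr.V0, ∃ c : F, w = c • d) :
    ∃ t₀ : K, ∀ t ∈ WittModel.T M, ∃ n : ℤ, t = t₀ ^ n := by
  classical
  have hd0 : d ≠ 0 := by
    rintro rfl
    apply hdd
    rw [H.zero_left]
  set! b₁ := Fr.b (0, true) with hb₁
  set! b₂ := Fr.b (0, false) with hb₂
  have hb12 : H.h b₁ b₂ ≠ 0 := by
    rw [hb₁, hb₂, Fr.hb, if_pos ⟨rfl, by decide⟩, if_pos rfl]
    exact one_ne_zero
  have heig : ∀ g : Tor Fr M.I, (∃ l : F, g.1 b₁ = l • b₁) ∧ (∃ l : F, g.1 b₂ = l • b₂) ∧ ∃ l : F, g.1 d = l • d := by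
    rintro ⟨g, hg⟩
    obtain ⟨l, -, h1⟩ := hg.2 (0, true)
    obtain ⟨l', -, h2⟩ := hg.2 (0, false)
    exact ⟨⟨l, h1⟩, ⟨l', h2⟩, hV0 _ (hA.map_V0 hg.1 hg.2 (ρ := id) (fun _ => rfl) hd)⟩
  let χ₁ : Tor Fr M.I →* F :=
    { toFun := fun g => H.h (g.1 b₁) b₂ * (H.h b₁ b₂)⁻¹
      map_one' := by
        change H.h b₁ b₂ * (H.h b₁ b₂)⁻¹ = 1
        exact mul_inv_cancel₀ hb12
      map_mul' := fun g k => by
        obtain ⟨l, hl⟩ := (heig g).1
        obtain ⟨l', hl'⟩ := (heig k).1
        have h1 : (g * k).1 b₁ = (l' * l) • b₁ := by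
          change g.1 (k.1 b₁) = _
          rw [hl', map_smul, hl, smul_smul]
        rw [h1, hl, hl', H.smul_left, H.smul_left, H.smul_left]
        field_simp }
  let χ₂ : Tor Fr M.I →* F :=
    { toFun := fun g => H.h (g.1 d) d * (H.h d d)⁻¹
      map_one' := by
        change H.h d d * (H.h d d)⁻¹ = 1
        exact mul_inv_cancel₀ hdd
      map_mul' := fun g k => by
        obtain ⟨l, hl⟩ := (heig g).2.2
        obtain ⟨l', hl'⟩ := (heig k).2.2
        have h1 : (g * k).1 d = (l' * l) • d := by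
          change g.1 (k.1 d) = _
          rw [hl', map_smul, hl, smul_smul]
        rw [h1, hl, hl', H.smul_left, H.smul_left, H.smul_left]
        field_simp }
  have hχ₁ : ∀ g l, g.1 b₁ = l • b₁ → χ₁ g = l := by
    intro g l h
    change H.h (g.1 b₁) b₂ * (H.h b₁ b₂)⁻¹ = l
    rw [h, H.smul_left, mul_inv_cancel_right₀ hb12]
  have hχ₂ : ∀ g l, g.1 d = l • d → χ₂ g = l := by
    intro g l h
    change H.h (g.1 d) d * (H.h d d)⁻¹ = l
    rw [h, H.smul_left, mul_inv_cancel_right₀ hdd]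
  let χ : Tor Fr M.I →* Fˣ := (MonoidHom.toHomUnits χ₁) * (MonoidHom.toHomUnits χ₂)⁻¹
  have hχ : ∀ g, χ g = 1 → χ₁ g = χ₂ g := by
    intro g hg
    have h1 : MonoidHom.toHomUnits χ₁ g * (MonoidHom.toHomUnits χ₂ g)⁻¹ = 1 := hg
    rw [mul_inv_eq_one] at h1
    exact congrArg Units.val h1
  let φ : Tor Fr M.I →* K := M.φ.comp (Subgroup.inclusion (fun g hg => hg.1 : Tor Fr M.I ≤ M.I))
  obtain ⟨t₀, ht₀⟩ := gen_of_hom χ φ (by
    intro g hg
    obtain ⟨⟨l₁, e₁⟩, ⟨l₂, e₂⟩, ⟨c, e₃⟩⟩ := heig g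
    have h1 := hχ g hg
    rw [hχ₁ g l₁ e₁, hχ₂ g c e₃] at h1
    subst h1
    have hiso := hA.iso g.1 g.2.1
    have h2 := hiso b₁ b₂
    rw [e₁, e₂, H.smul_left, H.smul_right] at h2
    have h3 := hiso d d
    rw [e₃, H.smul_left, H.smul_right] at h3
    have h4 : l₁ * H.σ l₂ = 1 := by
      apply mul_right_cancel₀ hb12
      rw [one_mul, mul_assoc, h2]
    have h5 : l₁ * H.σ l₁ = 1 := by
      apply mul_right_cancel₀ hdd
      rw [one_mul, mul_assoc, h3]
    have hl1 : l₁ ≠ 0 := by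
      rintro rfl
      rw [zero_mul] at h4
      exact zero_ne_one h4
    have h6 : l₂ = l₁ := by
      apply H.σ.injective
      exact mul_left_cancel₀ hl1 (h4.trans h5.symm)
    rw [h6] at e₂
    -- `g` is a scalar
    let z : V ≃ₗ[F] V := LinearEquiv.smulOfUnit (Units.mk0 l₁ hl1)
    have hz : ∀ v, z v = l₁ • v := fun v => rfl
    have hgz : z⁻¹ * g.1 = 1 := by
      refine H716.RGDAb.eq_one_of_fix hA.V0 (fun x => ?_) fun w hw => ?_
      · change z.symm (g.1 (Fr.b x)) = Fr.b x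
        rw [LinearEquiv.symm_apply_eq, hz]
        obtain ⟨i, s⟩ := x
        obtain rfl : i = 0 := Subsingleton.elim _ _
        cases s
        · exact e₂
        · exact e₁
      · change z.symm (g.1 w) = w
        rw [LinearEquiv.symm_apply_eq, hz]
        obtain ⟨r, rfl⟩ := hV0 w hw
        rw [map_smul, e₃, smul_comm]
    have hgz' : g.1 = z := (inv_mul_eq_one.1 hgz).symm
    have hc : φ g ∈ Subgroup.center K := by
      rw [Subgroup.mem_center_iff]
      intro k
      obtain ⟨k, rfl⟩ := hsurj k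
      change M.φ k * M.φ _ = M.φ _ * M.φ k
      rw [← map_mul, ← map_mul]
      congr 1
      apply Subtype.ext
      change k.1 * g.1 = g.1 * k.1
      rw [hgz']
      ext v
      change k.1 (z v) = z (k.1 v)
      rw [hz, hz, map_smul]
    rw [hZ] at hc
    exact Subgroup.mem_bot.1 hc)
  refine ⟨t₀, ?_⟩
  rintro _ ⟨g, hg, rfl⟩
  exact ht₀ ⟨g.1, Subgroup.mem_subgroupOf.1 hg⟩

theorem one_psu {p : ℕ} [Fact p.Prime] {F : Type v} [Field F] [Fintype F] [CharP F p] {q : ℕ}
    (hF : Fintype.card F = q ^ 2) {Y : Type u} [Group Y] [Finite Y] [IsSimpleGroup (PSU 3 F q)]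
    (hZ : Subgroup.center (PSU 3 F q) = ⊥)
    (f : Y →* PSU 3 F q) (hf : f.ker = Subgroup.center Y)
    (hpf : (Nat.card f.ker).Coprime p) (hs : Function.Surjective f) : HasOne.{u, v} p Y := by
  obtain ⟨W, d, hd, hW⟩ := exists_wframe_odd hF (m := 1) (rfl : 2 * 1 + 1 = 2 * 1 + 1)
  obtain ⟨p0, hp0, -⟩ := exists_adm hF W
  have hA := AmbT.of_amb (amb_U hF W) p
  have hdV : d ∈ (toFrame W).V0 := by
    change d ∈ W.V0
    rw [hW]
    exact Submodule.mem_span_singleton_self d
  have hsp : ∀ w ∈ (toFrame W).V0, ∃ c : F, w = c • d := by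
    intro w hw
    change w ∈ W.V0 at hw
    rw [hW] at hw
    obtain ⟨c, hc⟩ := Submodule.mem_span_singleton.1 hw
    exact ⟨c, hc.symm⟩
  have hsurj : Function.Surjective (KInstU.model hF le_rfl W).φ := by
    rw [← MonoidHom.range_eq_top]
    exact (KInstU.model hF le_rfl W).gen 0 _ (fun i j hij => by omega) (fun p => ⟨⟨_, rfl⟩, ⟨_, rfl⟩⟩)
  obtain ⟨t₀, ht₀⟩ := torus_gen (KInstU.model hF le_rfl W) hA hZ hsurj hdV (by
    change hermForm (2 * 1 + 1) F q d d ≠ 0
    rw [hd]
    exact one_ne_zero) hsp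
  have : Finite (CoxeterMatrix.B 1).Group := TypeC.finite_W (CoxeterMatrix.B 1).toCoxeterSystem
  exact hasOne_of_rgd f hf hpf hs (rgdC_model (KInstU.model hF le_rfl W) hA hp0 (CoxeterMatrix.B 1).toCoxeterSystem)
    (WittModel.G1_eq_top _ (by norm_num) _) ht₀

end PSU

end Cfsg.Agent.H985.UT
end

-- part: H985/UT/Fam
section
/-!
# Groups transitive on the isotropic points in the defining characteristic: the families (helper985, S2196 part B3)

**`UC.main`** : if `Y / Z(Y)` is of Lie type in characteristic `p`, then `Y / Z(Y) ≃ PSU_n(q)`, `n = 2 m` or `2 m + 1`.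
-/

set_option autoImplicit false
set_option linter.unusedSectionVars false
set_option linter.style.haveILetI false

namespace Cfsg.Agent.H985.UT

open Cfsg Module Cfsg.Agent.H50.Her
open Cfsg.Agent.ChevalleyStructure.CoxeterGeom Cfsg.Agent.Nodes.Reps
open Cfsg.Agent.Tits.Core Cfsg.Agent.Tits.Core.Bldg Cfsg.Agent.Tits.Exchange Cfsg.Agent.Tits
open Cfsg.Agent.FixBN Cfsg.Agent.FixBN.Cox Cfsg.Agent.LieRecognition.BNCox Cfsg.Agent.Nodes.RGDChev
open Cfsg.Agent.H905.DC

universe u v w x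

variable {p : ℕ} {Y : Type u} [Group Y] {k : Type v} {V : Type w} [Field k] [AddCommGroup V] [Module k V]
variable {ρ : Y →* Module.End k V} {β : V → Module.Dual k V} {a m c : ℕ}
variable [hp : Fact p.Prime] [CharP k p] [Finite Y] [Finite k] [Finite V] [Nontrivial V]

theorem UC.bld (h : UC p ρ β a m c) {l : ℕ} (hl : 0 < l) {M : CoxeterMatrix (Fin l)} {q : Fin l → ℕ} {S' : Type x}
    [Group S'] (hP : HasPan p M q S') (e : Y ⧸ Subgroup.center Y ≃* S') : HasBld p M q Y := by
  have := h.simple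
  exact Cfsg.Agent.H797.HerSys.hasBld_of_pan hp.out hl (hP.of_equiv e.symm) (QuotientGroup.mk' (Subgroup.center Y))
    (QuotientGroup.ker_mk' _) (by rw [QuotientGroup.ker_mk']; exact h.cop) (QuotientGroup.mk'_surjective _)

theorem UC.sysT (h : UC p ρ β a m c) {l : ℕ} (hl : 0 < l) {M : CoxeterMatrix (Fin l)} {S' : Type x} [Group S']
    (hP : Cfsg.Agent.Omega.ML.Ex.Typ.HasRGDT p M S') (e : Y ⧸ Subgroup.center Y ≃* S') : HasSysT p M Y := by
  have := h.simple
  exact Cfsg.Agent.H797.HerSys.hasSysT_of_rgdT hp.out hl (hP.of_equiv e.symm) (QuotientGroup.mk' (Subgroup.center Y))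
    (QuotientGroup.ker_mk' _) (by rw [QuotientGroup.ker_mk']; exact h.cop) (QuotientGroup.mk'_surjective _)

/-- simply laced types -/
theorem UC.laced (h : UC p ρ β a m c) {l : ℕ} (hl : 2 ≤ l) {M : CoxeterMatrix (Fin l)}
    (hM : ∀ i j, i ≠ j → M i j = 2 ∨ M i j = 3) (hc : KFacts.RgdCharP.Conn M) {S' : Type x} [Group S']
    (hP : Cfsg.Agent.Omega.ML.Ex.Typ.HasRGDT p M S') (e : Y ⧸ Subgroup.center Y ≃* S') : False := by
  have : Nonempty (Fin l) := ⟨⟨0, by omega⟩⟩
  have hB := h.sysT (by omega) hP e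
  obtain ⟨A, hA, -⟩ := hP
  obtain ⟨W, iW, iWf, cs, J, n, e, d, hJ, hL⟩ := h.core hB
  have hidx := rank_lt_index cs hA hc hJ
  rw [Fintype.card_fin] at hidx
  refine hL.all_eq (hL.le_of_index (by omega)) ?_
  have key : ∀ i j, e i = e j := by
    intro i j
    by_contra hne
    obtain ⟨x, hx, y, hy, hxy⟩ := hc {z | e z = e i} ⟨i, rfl⟩ (by
      intro hu
      apply hne
      have : j ∈ {z | e z = e i} := by rw [hu]; trivial
      exact this.symm)
    have hx' : e x = e i := hx
    apply hy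
    change e y = e i
    have hne' : x ≠ y := by
      rintro rfl
      exact hy hx
    have h3 := (hM x y hne').resolve_left hxy
    rw [← hL.ad.eq_of_three hA h3, hx']
  exact key

/-- equal panels -/
theorem UC.equal (h : UC p ρ β a m c) {l : ℕ} (hl : 2 ≤ l) {M : CoxeterMatrix (Fin l)}
    (hc : KFacts.RgdCharP.Conn M) {S' : Type x} [Group S'] {r : ℕ}
    (hP : HasPan p M (fun _ => r) S') (e : Y ⧸ Subgroup.center Y ≃* S') : False := by
  have : Nonempty (Fin l) := ⟨⟨0, by omega⟩⟩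
  have hB := h.bld (by omega) hP e
  obtain ⟨A, hA, -⟩ := hP
  obtain ⟨W, iW, iWf, cs, J, n, e, d, hJ, hL, hq⟩ := h.corePan hB
  have hidx := rank_lt_index cs hA hc hJ
  rw [Fintype.card_fin] at hidx
  exact hL.all_eq (hL.le_of_index (by omega)) fun i j =>
    Nat.pow_right_injective hp.out.two_le ((hq i).symm.trans (hq j))

/-- rank two, `M 0 1 ≥ 6` -/
theorem UC.two (h : UC p ρ β a m c) {M : CoxeterMatrix (Fin 2)} (hM : 6 ≤ M 0 1) (hB : HasSysT p M Y) : False := by
  obtain ⟨W, iW, iWf, cs, J, n, e, d, hJ, hL⟩ := h.core hB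
  exact hL.two hJ hM

/-- type `F₄` -/
theorem UC.f4 (h : UC p ρ β a m c) (hB : HasSysT p CoxeterMatrix.F₄ Y) : False := by
  obtain ⟨W, iW, iWf, cs, J, n, e, d, hJ, hL⟩ := h.core hB
  exact hL.f4 hJ

/-- the data of type `B_l` -/
theorem UC.typeB (h : UC p ρ β a m c) {l : ℕ} (hl : 2 ≤ l) {r r' : ℕ} {S' : Type x} [Group S']
    (hP : HasPan p (CoxeterMatrix.B l) (fun i => if (i : ℕ) + 1 < l then r else r') S')
    (e : Y ⧸ Subgroup.center Y ≃* S') :
    ∃ (W : Type u) (_ : Group W) (_ : Finite W) (cs : CoxeterSystem (CoxeterMatrix.B l) W) (J : Set (Fin l))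
      (n : W → ℕ) (e : Fin l → ℕ) (d : ℕ), J ≠ Set.univ ∧ LS cs J n e a m c d ∧ 2 * d ≤ m ∧
        (∀ i : Fin l, (i : ℕ) + 1 < l → r = p ^ e i) ∧ ∀ i : Fin l, (i : ℕ) + 1 = l → r' = p ^ e i := by
  have : Nonempty (Fin l) := ⟨⟨0, by omega⟩⟩
  have hB := h.bld (by omega) hP e
  obtain ⟨A, hA, -⟩ := hP
  obtain ⟨W, iW, iWf, cs, J, n, e, d, hJ, hL, hq⟩ := h.corePan hB
  have hidx := rank_lt_index cs hA (Cfsg.Agent.H538.MFacts.irr_B l) hJ
  rw [Fintype.card_fin] at hidx
  refine ⟨W, iW, iWf, cs, J, n, e, d, hJ, hL, hL.le_of_index (by omega), fun i hi => ?_, fun i hi => ?_⟩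
  · rw [← hq i, if_pos hi]
  · rw [← hq i, if_neg (by omega)]

/-- **`PSL_n(K)`** -/
theorem UC.psl (h : UC p ρ β a m c) {K : Type} [Field K] [Fintype K] [CharP K p] {n : ℕ} (hn : 2 ≤ n)
    (e : Y ⧸ Subgroup.center Y ≃* Matrix.ProjectiveSpecialLinearGroup (Fin n) K) : False := by
  obtain ⟨n, rfl⟩ : ∃ r, n = r + 1 := ⟨n - 1, by omega⟩
  rcases Nat.lt_or_ge n 2 with h2 | h2
  · obtain rfl : n = 1 := by omega
    have := h.simple
    have : IsSimpleGroup (Matrix.ProjectiveSpecialLinearGroup (Fin (1 + 1)) K) := e.symm.isSimpleGroup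
    have hk : (e.toMonoidHom.comp (QuotientGroup.mk' (Subgroup.center Y))).ker = Subgroup.center Y := by
      rw [← MonoidHom.comap_ker]
      rw [(MonoidHom.ker_eq_bot_iff _).2 e.injective]
      exact QuotientGroup.ker_mk' _
    refine h.one (one_psl (p := p) (F := K) (e.toMonoidHom.comp (QuotientGroup.mk' (Subgroup.center Y))) hk ?_
      (e.surjective.comp (QuotientGroup.mk'_surjective _)))
    rw [hk]
    exact h.cop
  · exact h.equal h2 (Cfsg.Agent.H538.MFacts.irr_A n) (Cfsg.Agent.H804.PanPSL.pan_psl (F := K) n (p := p)) e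

/-- **`PΩ⁻_{2m}(K)`** -/
theorem UC.po_minus (h : UC p ρ β a m c) {K : Type} [Field K] [Fintype K] [CharP K p] {r : ℕ} (hm : 4 ≤ r) {x y : K}
    (hab : ∀ z₁ z₂ : K, z₁ ^ 2 + x * z₁ * z₂ + y * z₂ ^ 2 = 0 → z₁ = 0 ∧ z₂ = 0)
    (e : Y ⧸ Subgroup.center Y ≃* POmega K (quadFormMinus (r - 1) K x y)) : False := by
  obtain ⟨W, iW, iWf, cs, J, n, e, d, hJ, hL, h2, h3, h4⟩ :=
    h.typeB (by omega) (Cfsg.Agent.H353.PanO.pan_po_minus hab (by omega)) e
  have hq0 := h3 ⟨0, by omega⟩ (by change 0 + 1 < r - 1; omega)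
  refine hL.b_one_two h2 (by omega) (t := e ⟨0, by omega⟩) (fun i hi => ?_) (fun i hi => ?_)
  · exact Nat.pow_right_injective hp.out.two_le ((h3 i hi).symm.trans hq0)
  · apply Nat.pow_right_injective hp.out.two_le
    change p ^ e i = p ^ (2 * e ⟨0, by omega⟩)
    rw [← h4 i hi, hq0, ← pow_mul, mul_comm]

/-- the outcome -/
def Out (p a m c : ℕ) (X : Type*) [Group X] : Prop :=
  ∃ (K : Type) (_ : Field K) (_ : Fintype K), Fintype.card K = (p ^ a) ^ 2 ∧
    ((c + 1 = 2 * m ∧ Nonempty (X ≃* PSU (2 * m) K (p ^ a))) ∨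
      (c = 2 * m + 1 ∧ Nonempty (X ≃* PSU (2 * m + 1) K (p ^ a))))

/-- **`PSU_n(q)`** -/
theorem UC.psu (h : UC p ρ β a m c) {K : Type} [Field K] [Fintype K] [CharP K p] {n q : ℕ} (hK : Fintype.card K = q ^ 2)
    (hn : 3 ≤ n) (e : Y ⧸ Subgroup.center Y ≃* PSU n K q) : Out p a m c (Y ⧸ Subgroup.center Y) := by
  obtain ⟨l, hm⟩ : ∃ l, n = 2 * l ∨ n = 2 * l + 1 := ⟨n / 2, by omega⟩
  have hq : ∃ t, q = p ^ t := by
    obtain ⟨s, hs, hc⟩ := FiniteField.card K p
    have h1 : q ∣ p ^ (s : ℕ) := by rw [← hc, hK]; exact Dvd.intro _ (pow_two q).symm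
    obtain ⟨t, -, ht⟩ := (Nat.dvd_prime_pow hp.out).1 h1
    exact ⟨t, ht⟩
  obtain ⟨t, rfl⟩ := hq
  have hinj := Nat.pow_right_injective hp.out.two_le
  rcases hm with rfl | rfl
  · obtain ⟨W, iW, iWf, cs, J, n, e', d, hJ, hL, h2, h3, h4⟩ :=
      h.typeB (by omega) (Cfsg.Agent.H742.pan_psu_even hK (p := p) (by omega)) e
    obtain ⟨h5, h6, h7⟩ := hL.b_two_one hJ h2 (by omega) (t := t)
      (fun i hi => hinj (by change p ^ e' i = p ^ (2 * t); rw [← h3 i hi, ← pow_mul, mul_comm]))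
      (fun i hi => hinj (h4 i hi).symm)
    subst h5 h6
    exact ⟨K, inferInstance, inferInstance, hK, Or.inl ⟨h7, ⟨e⟩⟩⟩
  · rcases Nat.lt_or_ge l 2 with h2 | h2
    · obtain rfl : l = 1 := by omega
      exfalso
      have := h.simple
      have : IsSimpleGroup (PSU (2 * 1 + 1) K (p ^ t)) := e.symm.isSimpleGroup
      have hk : (e.toMonoidHom.comp (QuotientGroup.mk' (Subgroup.center Y))).ker = Subgroup.center Y := by
        rw [← MonoidHom.comap_ker]
        rw [(MonoidHom.ker_eq_bot_iff _).2 e.injective]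
        exact QuotientGroup.ker_mk' _
      refine h.one (one_psu (p := p) (F := K) hK ?_ (e.toMonoidHom.comp (QuotientGroup.mk' (Subgroup.center Y))) hk ?_
        (e.surjective.comp (QuotientGroup.mk'_surjective _)))
      · obtain ⟨Q, hQ, x, hx, y, hy, hne⟩ := Cfsg.Agent.H892.HerSz.psu3_noncomm hK (p := p)
        rcases (inferInstance : IsSimpleGroup (PSU 3 K (p ^ t))).eq_bot_or_eq_top_of_normal (Subgroup.center _)
          inferInstance with h3 | h3
        · exact h3
        · exfalso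
          apply hne
          have h4 : x ∈ Subgroup.center (PSU 3 K (p ^ t)) := by rw [h3]; trivial
          exact (Subgroup.mem_center_iff.1 h4 y).symm
      · rw [hk]
        exact h.cop
    · obtain ⟨W, iW, iWf, cs, J, n, e', d, hJ, hL, h2, h3, h4⟩ :=
        h.typeB (by omega) (Cfsg.Agent.H742.pan_psu_odd hK (p := p) (by omega)) e
      obtain ⟨h5, h6, h7⟩ := hL.b_two_three hJ h2 (by omega) (t := t)
        (fun i hi => hinj (by change p ^ e' i = p ^ (2 * t); rw [← h3 i hi, ← pow_mul, mul_comm]))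
        (fun i hi => hinj (by change p ^ e' i = p ^ (3 * t); rw [← h4 i hi, ← pow_mul, mul_comm]))
      subst h5 h6
      exact ⟨K, inferInstance, inferInstance, hK, Or.inr ⟨h7, ⟨e⟩⟩⟩

set_option backward.isDefEq.respectTransparency false in
theorem laced_E6 : ∀ i j : Fin 6, i ≠ j → CoxeterMatrix.E₆ i j = 2 ∨ CoxeterMatrix.E₆ i j = 3 := by decide +kernel

set_option backward.isDefEq.respectTransparency false in
theorem laced_E7 : ∀ i j : Fin 7, i ≠ j → CoxeterMatrix.E₇ i j = 2 ∨ CoxeterMatrix.E₇ i j = 3 := by decide +kernel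

set_option backward.isDefEq.respectTransparency false in
theorem laced_E8 : ∀ i j : Fin 8, i ≠ j → CoxeterMatrix.E₈ i j = 2 ∨ CoxeterMatrix.E₈ i j = 3 := by decide +kernel

theorem laced_D (n : ℕ) (i j : Fin (n + 2)) (hij : i ≠ j) :
    Cfsg.Agent.Nodes.TypeD.M n i j = 2 ∨ Cfsg.Agent.Nodes.TypeD.M n i j = 3 := by
  change (if i = j then 1 else if Cfsg.Agent.Nodes.TypeD.Adj i j ∨ Cfsg.Agent.Nodes.TypeD.Adj j i then 3 else 2) = 2 ∨
    (if i = j then 1 else if Cfsg.Agent.Nodes.TypeD.Adj i j ∨ Cfsg.Agent.Nodes.TypeD.Adj j i then 3 else 2) = 3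
  rw [if_neg hij]
  split_ifs
  · exact Or.inr rfl
  · exact Or.inl rfl

/-- **The defining characteristic.** -/
theorem UC.main (h : UC p ρ β a m c) (hS : IsLieTypeChar p (Y ⧸ Subgroup.center Y)) :
    Out p a m c (Y ⧸ Subgroup.center Y) := by
  rcases hS with hS | hS | hS | hS | hS | hS | hS | hS | hS | hS | hS
  · obtain ⟨K, _, _, _, n, hn, hn2, ⟨e⟩⟩ := hS
    exact (h.psl hn e).elim
  · obtain ⟨K, _, _, _, r, hm, hm2, ⟨e⟩⟩ := hS
    exact (h.equal hm (Cfsg.Agent.H538.MFacts.irr_B r) (Cfsg.Agent.H742.pan_psp (F := K) (p := p) (by omega)) e).elim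
  · obtain ⟨K, _, _, _, n, q, hK, hn, -, ⟨e⟩⟩ := hS
    exact h.psu hK hn e
  · obtain ⟨K, _, _, _, r, hm, ho, ⟨e⟩⟩ := hS
    have hp2 : p ≠ 2 := by
      rintro rfl
      obtain ⟨k, hk, hc⟩ := FiniteField.card K 2
      rw [hc] at ho
      exact (Nat.not_even_iff_odd.2 ho) ((Nat.even_pow.2 ⟨even_two, k.2.ne'⟩))
    exact (h.equal (by omega) (Cfsg.Agent.H538.MFacts.irr_B r) (Cfsg.Agent.H353.PanO.pan_po_odd hm hp2) e).elim
  · obtain ⟨K, _, _, _, r, hm, ⟨e⟩⟩ := hS
    obtain ⟨n, rfl⟩ : ∃ n, r = n + 3 := ⟨r - 3, by omega⟩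
    exact (h.laced (by omega) (laced_D (n + 1)) (Cfsg.Agent.H538.MFacts.irr_D (n + 1) (by omega))
      (Cfsg.Agent.Omega.ML.Ex.Typ.typ_PO_plus n) e).elim
  · obtain ⟨K, _, _, _, r, x, y, hm, hab, ⟨e⟩⟩ := hS
    exact (h.po_minus hm hab e).elim
  · obtain ⟨K, _, _, _, hS⟩ := hS
    exfalso
    rcases hS with ⟨hK, ⟨e⟩⟩ | ⟨⟨e⟩⟩ | ⟨⟨e⟩⟩ | ⟨⟨e⟩⟩ | ⟨⟨e⟩⟩
    · exact h.two (by decide +kernel) (h.sysT (by omega)
        (Cfsg.Agent.Omega.ML.Ex.Typ.typ_group (by simp [IsType, typeList]) K p :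
          Cfsg.Agent.Omega.ML.Ex.Typ.HasRGDT p CoxeterMatrix.G₂ _) e)
    · exact h.f4 (h.sysT (by omega) (Cfsg.Agent.Omega.ML.Ex.Typ.typ_group (by simp [IsType, typeList]) K p) e)
    · exact h.laced (by omega) laced_E6 Cfsg.Agent.H538.MFacts.irr_E6
        (Cfsg.Agent.Omega.ML.Ex.Typ.typ_group (by simp [IsType, typeList]) K p) e
    · exact h.laced (by omega) laced_E7 Cfsg.Agent.H538.MFacts.irr_E7
        (Cfsg.Agent.Omega.ML.Ex.Typ.typ_group (by simp [IsType, typeList]) K p) e
    · exact h.laced (by omega) laced_E8 Cfsg.Agent.H538.MFacts.irr_E8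
        (Cfsg.Agent.Omega.ML.Ex.Typ.typ_group (by simp [IsType, typeList]) K p) e
  · obtain ⟨K, _, _, _, q, hq, ⟨hK, ⟨e⟩⟩ | ⟨hK, ⟨e⟩⟩⟩ := hS
    · exact (h.f4 (h.sysT (by omega) (Cfsg.Agent.Omega.ML.Ex.Typ.typ_twE6 hq hK p) e)).elim
    · exact (h.two (by decide +kernel) (h.sysT (by omega) (Cfsg.Agent.Omega.ML.Ex.Typ.typ_twD4 hq hK p) e)).elim
  · obtain ⟨rfl, hS⟩ := hS
    exact (h.one (one_sz hS (QuotientGroup.mk' (Subgroup.center Y)) (QuotientGroup.ker_mk' _)
      (by rw [QuotientGroup.ker_mk']; exact h.cop) (QuotientGroup.mk'_surjective _))).elim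
  · obtain ⟨rfl, hS⟩ := hS
    obtain ⟨M, hM, h1, -⟩ := Cfsg.Agent.H60.HerTwF4.sys_twF4 hS (QuotientGroup.mk' (Subgroup.center Y))
      (QuotientGroup.ker_mk' _) (by rw [QuotientGroup.ker_mk']; exact h.cop) (QuotientGroup.mk'_surjective _)
    exact (h.two (by omega) h1).elim
  · obtain ⟨rfl, hS⟩ := hS
    exact (h.one (one_ree hS (QuotientGroup.mk' (Subgroup.center Y)) (QuotientGroup.ker_mk' _)
      (by rw [QuotientGroup.ker_mk']; exact h.cop) (QuotientGroup.mk'_surjective _))).elim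

end Cfsg.Agent.H985.UT
end

-- part: H985/UT/Asm
section
/-!
# Subgroups of `SU_n(q)` transitive on the isotropic points: the defining characteristic (helper985, S2196 part B3)

`IsoTrans K` : `K` is transitive on the isotropic points. **`trans_defchar`** : a proper subgroup `K` of `SU_n(q)`, `n ≥ 6`, with a
residual core of Lie type in the characteristic of the field is not transitive on the isotropic points.
-/

set_option autoImplicit false
set_option linter.unusedSectionVars false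
set_option linter.style.haveILetI false

namespace Cfsg.Agent.H985.UT

open Cfsg Cfsg.Geo Matrix Cfsg.Agent.H918 Cfsg.Agent.LieClassical.HermBasic Cfsg.Agent.H905.DC
open Cfsg.Agent.Omega.CR

/-- `K` is transitive on the isotropic points. -/
def IsoTrans {F : Type*} [Field F] {n q : ℕ} (K : Subgroup (GL (Fin n) F)) : Prop :=
  ∀ v w : Fin n → F, v ≠ 0 → hermForm n F q v v = 0 → w ≠ 0 → hermForm n F q w w = 0 →
    ∃ g ∈ K, ∃ c : F, (g : Matrix (Fin n) (Fin n) F) *ᵥ v = c • w

section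

variable {F : Type*} [Field F] [Fintype F] {n q : ℕ} (hF : Fintype.card F = q ^ 2)

/-- the form as a map to the dual -/
def bet (n : ℕ) (F : Type*) [Field F] (q : ℕ) (w : Fin n → F) : Module.Dual F (Fin n → F) where
  toFun v := hermForm n F q v w
  map_add' v v' := herm_add_left v v' w
  map_smul' c v := herm_smul_left c v w

include hF

theorem frm_natRep {P : Subgroup (GL (Fin n) F)} (hP : P ≤ SUg n F q) : Frm (natRep P) (bet n F q) where
  add w w' := by
    refine LinearMap.ext fun v => ?_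
    exact herm_add_right hF v w w'
  inv g w v := by
    change hermForm n F q _ _ = hermForm n F q _ _
    rw [natRep_apply, natRep_apply]
    exact (mem_SUg.1 (hP g.2)).1 v w
  symm v w h := herm_eq_zero_swap hF h
  nondeg w h := by
    by_contra hw
    obtain ⟨v, hv⟩ := exists_herm_ne_zero hF hw
    apply hv
    apply herm_eq_zero_swap hF
    have h1 : bet n F q w v = 0 := by rw [h]; rfl
    exact h1

omit hF in
theorem mulVec_ne_zero {g : GL (Fin n) F} {v : Fin n → F} (hv : v ≠ 0) : (g : Matrix (Fin n) (Fin n) F) *ᵥ v ≠ 0 := by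
  intro h
  apply hv
  have h1 : (g⁻¹ : GL (Fin n) F).1 *ᵥ (g.1 *ᵥ v) = v := by
    rw [Matrix.mulVec_mulVec, Units.inv_mul, Matrix.one_mulVec]
  rw [← h1]
  change (g⁻¹ : GL (Fin n) F).1 *ᵥ ((g : Matrix (Fin n) (Fin n) F) *ᵥ v) = 0
  rw [h, Matrix.mulVec_zero]

/-- the isotropic vectors are fixed by Sylow subgroups -/
theorem exists_syl {P K : Subgroup (GL (Fin n) F)} (hP : P ≤ SUg n F q) (hK : ∀ h ∈ K, ∀ x ∈ P, h * x * h⁻¹ ∈ P)
    (htr : IsoTrans (q := q) K) {p : ℕ} [Fact p.Prime] (hn : ¬ p ∣ H950.isoNum q n) (v : Fin n → F) (hv : v ≠ 0)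
    (hvi : hermForm n F q v v = 0) : ∃ Q : Subgroup P, IsPGroup p Q ∧
      (∀ Q' : Subgroup P, IsPGroup p Q' → Nat.card Q' ≤ Nat.card Q) ∧ ∀ g ∈ Q, natRep P g v = v := by
  classical
  obtain ⟨Q⟩ : Nonempty (Sylow p P) := inferInstance
  -- a fixed vector of `Q`
  let X := {β : Fin n → F // hermForm n F q β β = 0 ∧ β ≠ 0}
  letI : MulAction Q X :=
    { smul := fun g x => ⟨((g : P) : GL (Fin n) F).1 *ᵥ x.1, by
        rw [(mem_SUg.1 (hP (g : P).2)).1]; exact x.2.1, mulVec_ne_zero x.2.2⟩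
      one_smul := fun x => Subtype.ext (Matrix.one_mulVec _)
      mul_smul := fun g h x => Subtype.ext (by
        change (((g * h : Q) : P) : GL (Fin n) F).1 *ᵥ x.1 = ((g : P) : GL (Fin n) F).1 *ᵥ (((h : P) : GL (Fin n) F).1 *ᵥ x.1)
        rw [Matrix.mulVec_mulVec]
        rfl) }
  have hX : Nat.card X = H950.isoNum q n := H950.card_iso_ne_zero hF n
  obtain ⟨⟨v₀, h01, h02⟩, hfix⟩ := Q.isPGroup'.nonempty_fixed_point_of_prime_not_dvd_card X (by rwa [hX])
  obtain ⟨h, hh, c, hc⟩ := htr v₀ v h02 h01 hv hvi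
  have hc0 : c ≠ 0 := by
    rintro rfl
    rw [zero_smul] at hc
    exact mulVec_ne_zero h02 hc
  -- conjugation by `h`
  let f : P →* P :=
    { toFun := fun x => ⟨h * x * h⁻¹, hK h hh x x.2⟩
      map_one' := Subtype.ext (by simp)
      map_mul' := fun x y => Subtype.ext (by simp only [mul_assoc, _root_.Subgroup.coe_mul, _root_.MulMemClass.mk_mul_mk, _root_.inv_mul_cancel_left]) }
  have hfinj : Function.Injective f := by
    intro x y hxy
    have h1 : h * (x : GL (Fin n) F) * h⁻¹ = h * y * h⁻¹ := congrArg Subtype.val hxy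
    exact Subtype.ext (mul_left_cancel (mul_right_cancel h1))
  refine ⟨((Q : Subgroup P).map f :), Q.isPGroup'.map f, fun Q' hQ' => ?_, ?_⟩
  · rw [Subgroup.card_map_of_injective hfinj]
    obtain ⟨Q'', hQ''⟩ := hQ'.exists_le_sylow
    rw [Nat.card_congr (Sylow.equiv Q Q'').toEquiv]
    exact Subgroup.card_le_of_le hQ''
  · rintro _ ⟨x, hx, rfl⟩
    rw [natRep_apply]
    change (h * (x : GL (Fin n) F) * h⁻¹).1 *ᵥ v = v
    have h1 : (x : GL (Fin n) F).1 *ᵥ v₀ = v₀ := congrArg Subtype.val (hfix ⟨x, hx⟩)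
    have h2 : v = c⁻¹ • (h.1 *ᵥ v₀) := by
      rw [hc, smul_smul, inv_mul_cancel₀ hc0, one_smul]
    have h3 : (h * (x : GL (Fin n) F) * h⁻¹).1 *ᵥ (h.1 *ᵥ v₀) = h.1 *ᵥ v₀ := by
      rw [Matrix.mulVec_mulVec]
      change ((h * (x : GL (Fin n) F) * h⁻¹) * h).1 *ᵥ v₀ = _
      rw [inv_mul_cancel_right]
      change (h.1 * (x : GL (Fin n) F).1) *ᵥ v₀ = _
      rw [← Matrix.mulVec_mulVec, h1]
    rw [h2, Matrix.mulVec_smul, h3]

/-- the centre of an absolutely irreducible group is a `p'`-group -/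
theorem coprime_center {P : Subgroup (GL (Fin n) F)} (habs : ActsAbsolutelyIrreducibly (matrixSet P)) {p : ℕ}
    [hp : Fact p.Prime] [CharP F p] (hn : 0 < n) : (Nat.card (Subgroup.center P)).Coprime p := by
  rw [Nat.coprime_comm, Nat.Prime.coprime_iff_not_dvd hp.out]
  intro hd
  obtain ⟨z, hz⟩ := exists_prime_orderOf_dvd_card' p hd
  have h1 : z.1 ^ p = 1 := by
    have := pow_orderOf_eq_one z
    rw [hz] at this
    exact congrArg Subtype.val this
  obtain ⟨c, hc⟩ := (mem_scalars_iff _).1 (H920.mem_scalars_of_mem_center habs z.2)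
  have h2 : ((z.1 : GL (Fin n) F) ^ p) = 1 := congrArg Subtype.val h1
  have h3 : ((c : F) • (1 : Matrix (Fin n) (Fin n) F)) ^ p = 1 := by
    rw [← hc, ← Units.val_pow_eq_pow_val, h2]
    rfl
  rw [smul_pow, one_pow] at h3
  have h4 : (c : F) ^ p = 1 := by
    have h5 := congrFun (congrFun h3 ⟨0, hn⟩) ⟨0, hn⟩
    rw [Matrix.smul_apply, Matrix.one_apply_eq, smul_eq_mul, mul_one] at h5
    exact h5
  have h6 : (c : F) = 1 := by
    have h7 : ((c : F) - 1) ^ p = 0 := by
      rw [sub_pow_char, h4, one_pow, sub_self]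
    exact sub_eq_zero.1 (pow_eq_zero_iff hp.out.ne_zero |>.1 h7)
  have h8 : z = 1 := by
    apply Subtype.ext
    apply Subtype.ext
    apply Units.ext
    rw [hc, h6, one_smul]
    rfl
  rw [h8, orderOf_one] at hz
  exact hp.out.one_lt.ne hz

theorem uc_of_core {P K : Subgroup (GL (Fin n) F)} (hn : 6 ≤ n) (hP : P ≤ SUg n F q)
    (hc : IsResidualCore K P) (htr : IsoTrans (q := q) K) {p a : ℕ} [hp : Fact p.Prime] [CharP F p] (ha : q = p ^ a) :
    ∃ m c, UC p (natRep P) (bet n F q) a m c ∧ ((n = 2 * m ∧ c + 1 = 2 * m) ∨ (n = 2 * m + 1 ∧ c = 2 * m + 1)) := by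
  have hq := two_le hF
  have ha0 : 0 < a := by
    rw [Nat.pos_iff_ne_zero]
    rintro rfl
    rw [pow_zero] at ha
    omega
  obtain ⟨m, hm⟩ : ∃ m, n = 2 * m ∨ n = 2 * m + 1 := ⟨n / 2, by omega⟩
  have hpq : p ∣ q := by rw [ha]; exact dvd_pow_self p ha0.ne'
  have hq2 : q ^ 2 = p ^ (2 * a) := by rw [ha, ← pow_mul, mul_comm]
  have hnotdvd : ∀ j, j ≠ 0 → ¬ p ∣ q ^ j - 1 := by
    intro j hj h
    have h1 : p ∣ q ^ j := hpq.trans (dvd_pow_self q hj)
    have h2 : 1 ≤ q ^ j := Nat.one_le_pow _ _ (by omega)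
    have h3 := Nat.dvd_sub h1 h
    rw [Nat.sub_sub_self h2] at h3
    exact hp.out.one_lt.ne' (Nat.dvd_one.1 h3)
  have hnotdvd' : ∀ j, j ≠ 0 → ¬ p ∣ q ^ j + 1 := by
    intro j hj h
    have h1 : p ∣ q ^ j := hpq.trans (dvd_pow_self q hj)
    exact hp.out.one_lt.ne' (Nat.dvd_one.1 ((Nat.dvd_add_right h1).1 h))
  have hiso : ¬ p ∣ H950.isoNum q n := by
    unfold H950.isoNum
    split_ifs
    · intro h
      rcases hp.out.dvd_mul.1 h with h | h
      · exact hnotdvd n (by omega) h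
      · exact hnotdvd' (n - 1) (by omega) h
    · intro h
      rcases hp.out.dvd_mul.1 h with h | h
      · exact hnotdvd' n (by omega) h
      · exact hnotdvd (n - 1) (by omega) h
  have hcnt : ∀ c, ((n = 2 * m ∧ c + 1 = 2 * m) ∨ (n = 2 * m + 1 ∧ c = 2 * m + 1)) →
      H950.isoNum q n = ((p ^ (2 * a)) ^ m - 1) * (p ^ (a * c) + 1) := by
    intro c hcc
    have e1 : (p ^ (2 * a)) ^ m = q ^ (2 * m) := by rw [← hq2, ← pow_mul]
    have e2 : p ^ (a * c) = q ^ c := by rw [pow_mul, ← ha]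
    rw [e1, e2]
    unfold H950.isoNum
    rcases hcc with ⟨rfl, h2⟩ | ⟨rfl, rfl⟩
    · rw [if_pos ⟨m, by ring⟩, show 2 * m - 1 = c by omega]
    · rw [if_neg (by rw [Nat.not_even_iff_odd]; exact ⟨m, rfl⟩), Nat.add_sub_cancel]
      ring
  have hirr : ∀ L : Submodule F (Fin n → F), Ivt (natRep P) ⊤ L → L = ⊥ ∨ L = ⊤ := by
    intro L hL
    apply hc.absIrred.1
    rintro _ ⟨g, hg, rfl⟩
    rintro _ ⟨v, hv, rfl⟩
    exact hL ⟨g, hg⟩ trivial v hv
  have habs : ∀ f : Module.End F (Fin n → F), (∀ g v, f (natRep P g v) = natRep P g (f v)) → ∃ c : F, ∀ v, f v = c • v := by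
    intro f hf
    obtain ⟨c, hcc⟩ := hc.absIrred.2 (LinearMap.toMatrix' f) (by
      rintro _ ⟨g, hg, rfl⟩
      apply Matrix.toLin'.injective
      rw [Matrix.toLin'_mul, Matrix.toLin'_mul, Matrix.toLin'_toMatrix']
      refine LinearMap.ext fun v => ?_
      exact hf ⟨g, hg⟩ v)
    refine ⟨c, fun v => ?_⟩
    have h1 : Matrix.toLin' (LinearMap.toMatrix' f) v = c • v := by
      rw [hcc, Matrix.toLin'_apply, Matrix.smul_mulVec, Matrix.one_mulVec]
    rwa [Matrix.toLin'_toMatrix'] at h1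
  have hinj : Function.Injective (natRep P) := by
    intro g h e
    apply Subtype.ext
    apply Units.ext
    apply Matrix.toLin'.injective
    exact e
  have hcen : (scalars (Fin n) F).subgroupOf P = Subgroup.center P := by
    apply le_antisymm
    · intro x hx
      exact H920.mem_center_of_mem_scalars hc.absIrred hx
    · intro x hx
      exact H920.mem_scalars_of_mem_center hc.absIrred hx
  have hsimple : IsSimpleGroup (P ⧸ Subgroup.center P) := by
    have := hc.simple
    exact (QuotientGroup.quotientMulEquivOfEq hcen).symm.isSimpleGroup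
  have hfin : Module.finrank F (Fin n → F) = n := by rw [Module.finrank_fintype_fun_eq_card, Fintype.card_fin]
  have hcard : Nat.card {v : Fin n → F // v ≠ 0 ∧ bet n F q v v = 0} = H950.isoNum q n := by
    rw [← H950.card_iso_ne_zero hF n]
    exact Nat.card_congr (Equiv.subtypeEquivRight fun v => and_comm)
  have key : ∀ c, ((n = 2 * m ∧ c + 1 = 2 * m) ∨ (n = 2 * m + 1 ∧ c = 2 * m + 1)) →
      UC p (natRep P) (bet n F q) a m c := by
    intro c hcc
    refine ⟨hirr, habs, hinj, frm_natRep hF hP, fun v hv hvi => exists_syl hF hP hc.normal htr hiso v hv hvi, ha0,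
      ?_, by omega, ?_, by omega, by omega, ?_, ?_, hsimple, coprime_center hF hc.absIrred (by omega)⟩
    · rw [Nat.card_eq_fintype_card, hF, hq2]
    · rcases hcc with ⟨-, h⟩ | ⟨-, h⟩
      · exact ⟨m - 1, by omega⟩
      · exact ⟨m, h⟩
    · rw [hfin]; omega
    · rw [hcard]
      exact hcnt c hcc
  rcases hm with h1 | h1
  · exact ⟨m, 2 * m - 1, key _ (Or.inl ⟨h1, by omega⟩), Or.inl ⟨h1, by omega⟩⟩
  · exact ⟨m, 2 * m + 1, key _ (Or.inr ⟨h1, rfl⟩), Or.inr ⟨h1, rfl⟩⟩

/-- **The defining characteristic.** -/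
theorem trans_defchar {P K : Subgroup (GL (Fin n) F)} (hn : 6 ≤ n) (hK : K < SUg n F q)
    (hc : IsResidualCore K P) (htr : IsoTrans (q := q) K) {p : ℕ} [hp : Fact p.Prime] [CharP F p]
    (hlie : IsLieTypeChar p (P ⧸ (scalars (Fin n) F).subgroupOf P)) : False := by
  have hP : P ≤ SUg n F q := hc.le.trans hK.le
  obtain ⟨a, ha⟩ : ∃ a, q = p ^ a := by
    obtain ⟨s, hs, hcs⟩ := FiniteField.card F p
    have h1 : q ∣ p ^ (s : ℕ) := by rw [← hcs, hF]; exact Dvd.intro _ (pow_two q).symm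
    obtain ⟨t, -, ht⟩ := (Nat.dvd_prime_pow hp.out).1 h1
    exact ⟨t, ht⟩
  have hcen : (scalars (Fin n) F).subgroupOf P = Subgroup.center P := by
    apply le_antisymm
    · intro x hx
      exact H920.mem_center_of_mem_scalars hc.absIrred hx
    · intro x hx
      exact H920.mem_scalars_of_mem_center hc.absIrred hx
  obtain ⟨m, c, hUC, hnc⟩ := uc_of_core hF hn hP hc htr ha
  have hne : Nontrivial (Fin n → F) := by
    have : Nonempty (Fin n) := ⟨⟨0, by omega⟩⟩
    infer_instance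
  obtain ⟨L, iL, iLf, hL, hout⟩ := hUC.main
    (Cfsg.Agent.OddHalf.Known.isLieTypeChar_congr (QuotientGroup.quotientMulEquivOfEq hcen) hlie)
  have hLF : Fintype.card F = Fintype.card L := by rw [hF, hL, ha]
  have hcard : Nat.card (P ⧸ Subgroup.center P) = Nat.card (PSU n F q) := by
    rw [Nat.card_congr (LieClassical.FieldTransfer.psuCongr n q (FiniteField.ringEquivOfCardEq hLF)).toEquiv, ha]
    rcases hout with ⟨h1, ⟨e⟩⟩ | ⟨h1, ⟨e⟩⟩
    · have h2 : n = 2 * m := by omega
      exact (Nat.card_congr e.toEquiv).trans (congrArg (fun k => Nat.card (PSU k L (p ^ a))) h2.symm)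
    · have h2 : n = 2 * m + 1 := by omega
      exact (Nat.card_congr e.toEquiv).trans (congrArg (fun k => Nat.card (PSU k L (p ^ a))) h2.symm)
  have hP' : P ≤ (suHom n F q).range := by rwa [range_suHom]
  let e := MonoidHom.ofInjective (suHom_injective (F := F) (n := n) (q := q))
  let g : P →* Cfsg.SU n F q := e.symm.toMonoidHom.comp (Subgroup.inclusion hP')
  have hg : ∀ x : P, suHom n F q (g x) = x := by
    intro x
    have h1 : e (g x) = Subgroup.inclusion hP' x := e.apply_symm_apply _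
    exact congrArg Subtype.val h1
  let f : P →* Cfsg.PSU n F q := (QuotientGroup.mk' (Subgroup.center (Cfsg.SU n F q))).comp g
  have hker : f.ker ≤ Subgroup.center P := by
    intro x hx
    have h1 : g x ∈ Subgroup.center (Cfsg.SU n F q) := (QuotientGroup.eq_one_iff _).1 hx
    rw [Subgroup.mem_center_iff] at h1 ⊢
    intro y
    apply Subtype.ext
    have h2 := congrArg (suHom n F q) (h1 (g y))
    rw [map_mul, map_mul, hg, hg] at h2
    exact h2
  have hle : Nat.card (PSU n F q) ≤ Nat.card f.range := by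
    rw [← hcard, ← Subgroup.index_ker]
    exact Subgroup.index_antitone hker
  have hr : f.range = ⊤ := Subgroup.eq_top_of_le_card _ hle
  have hsup : g.range ⊔ Subgroup.center (Cfsg.SU n F q) = ⊤ := by
    rw [eq_top_iff]
    intro s _
    obtain ⟨x, hx⟩ : ((s : Cfsg.SU n F q) : Cfsg.PSU n F q) ∈ f.range := by rw [hr]; trivial
    have h1 : (g x)⁻¹ * s ∈ Subgroup.center (Cfsg.SU n F q) := QuotientGroup.eq.1 hx
    have h2 : s = g x * ((g x)⁻¹ * s) := by group
    rw [h2]
    exact Subgroup.mul_mem_sup ⟨x, rfl⟩ h1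
  have hperf : commutator (Cfsg.SU n F q) = ⊤ := by
    have h1 := SUg_perfect hF (show 3 ≤ n by omega) (by omega)
    rw [← map_suHom_top, ← Subgroup.map_commutator] at h1
    exact Subgroup.map_injective suHom_injective h1
  have htop := eq_top_of_sup_center hperf le_rfl hsup
  have hPe : SUg n F q ≤ P := by
    intro y hy
    obtain ⟨A, rfl⟩ := exists_suHom hy
    obtain ⟨x, rfl⟩ : A ∈ g.range := by rw [htop]; trivial
    rw [hg]
    exact x.2
  exact hK.not_ge (hPe.trans hc.le)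

end

end Cfsg.Agent.H985.UT
end

-- part: H985/UT/RPart
section
/-!
# The `r`-part of `|SU_n(q)|`, `r` prime to `q` (helper985)

`rpart_le` : `r ^ v_r(∏_{i=2}^n (q^i - (-1)^i)) ≤ q ^ (2 (n - 1))`, `q ≥ 3`, `n ≥ 3`, `r ∤ q`.
-/

set_option autoImplicit false

namespace Cfsg.Agent.H985.UT.RPart

open Cfsg.Agent.H948.UProd (ph)

variable {r q : ℕ}

theorem pow_val_le (hr : r.Prime) {m : ℕ} (hm : 0 < m) : r ^ padicValNat r m ≤ m := by
  have := Fact.mk hr
  exact Nat.le_of_dvd hm (pow_padicValNat_dvd)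

theorem pow_val_factorial (hr : r.Prime) (m : ℕ) : r ^ padicValNat r (m.factorial) ≤ 2 ^ (m - 1) := by
  have := Fact.mk hr
  have h1 := sub_one_mul_padicValNat_factorial (p := r) m
  have h2 : r ≤ 2 ^ (r - 1) := by
    have h3 := Nat.lt_two_pow_self (n := r - 1)
    have := hr.two_le
    omega
  calc r ^ padicValNat r (m.factorial) ≤ (2 ^ (r - 1)) ^ padicValNat r (m.factorial) := Nat.pow_le_pow_left h2 _
    _ = 2 ^ ((r - 1) * padicValNat r (m.factorial)) := by rw [← pow_mul]
    _ ≤ 2 ^ (m - 1) := by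
        refine Nat.pow_le_pow_right (by norm_num) ?_
        rw [h1]
        rcases Nat.eq_zero_or_pos m with rfl | hm
        · simp
        · have h4 : 0 < (Nat.digits r m).sum := by
            rw [Nat.pos_iff_ne_zero]
            intro h0
            have h5 : m ≠ 0 := by omega
            have h6 := Nat.getLast_digit_ne_zero r h5
            have h7 : (Nat.digits r m).getLast (Nat.digits_ne_nil_iff_ne_zero.2 h5) ∈ Nat.digits r m := List.getLast_mem _
            have h8 := List.le_sum_of_mem h7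
            omega
          omega

/-- the local data: `v_r(q^i - (-1)^i) ≤ w + v_r(i / c)` if `c ∣ i`, and `0` otherwise -/
structure Loc (r q c w : ℕ) : Prop where
  cpos : 0 < c
  le : r ^ w ≤ q ^ c + 1
  dv : ∀ i, 0 < i → c ∣ i → padicValNat r (ph q (i - 1)) ≤ w + padicValNat r (i / c)
  nd : ∀ i, 0 < i → ¬ c ∣ i → padicValNat r (ph q (i - 1)) = 0

theorem ph_ne_zero (hq : 3 ≤ q) (i : ℕ) : ph q i ≠ 0 := by
  unfold ph
  have h1 : 3 ^ 1 ≤ q ^ (i + 1) := (Nat.pow_le_pow_left hq 1).trans (Nat.pow_le_pow_right (by omega) (by omega))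
  split_ifs <;> omega

theorem ph_dvd (i : ℕ) : ph q i ∣ (q ^ 2) ^ (i + 1) - 1 := by
  have h : (q ^ 2) ^ (i + 1) - 1 = (q ^ (i + 1) + 1) * (q ^ (i + 1) - 1) := by
    have := Nat.sq_sub_sq (q ^ (i + 1)) 1
    rw [one_pow] at this
    rw [← this, ← pow_mul, ← pow_mul, mul_comm]
  rw [h]
  unfold ph
  split_ifs
  · exact dvd_mul_right _ _
  · exact dvd_mul_left _ _

/-- `r` odd -/
theorem loc_odd (hr : r.Prime) (h2 : r ≠ 2) (hq : 3 ≤ q) (hrq : ¬ r ∣ q) : ∃ c w, Loc r q c w := by
  have := Fact.mk hr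
  have hrodd : Odd r := hr.odd_of_ne_two h2
  have hq0 : (q : ZMod r) ≠ 0 := by
    rwa [Ne, ZMod.natCast_eq_zero_iff]
  set a : ZMod r := (q : ZMod r) ^ 2 with ha
  have hfin : IsOfFinOrder a := by
    rw [isOfFinOrder_iff_pow_eq_one]
    refine ⟨r - 1, by have := hr.two_le; omega, ZMod.pow_card_sub_one_eq_one (pow_ne_zero 2 hq0)⟩
  have hpos : 0 < orderOf a := hfin.orderOf_pos
  have hiff : ∀ i, r ∣ (q ^ 2) ^ i - 1 ↔ orderOf a ∣ i := by
    intro i
    have h1 : 1 ≤ (q ^ 2) ^ i := Nat.one_le_pow _ _ (by positivity)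
    rw [← ZMod.natCast_eq_zero_iff, Nat.cast_sub h1, Nat.cast_pow, Nat.cast_pow, Nat.cast_one, sub_eq_zero, ← ha,
      orderOf_dvd_iff_pow_eq_one]
  set c := orderOf a with hc
  have hne : ∀ i, 0 < i → (q ^ 2) ^ i - 1 ≠ 0 := by
    intro i hi
    have h1 : 9 ^ 1 ≤ (q ^ 2) ^ i := by
      refine (Nat.pow_le_pow_left ?_ 1).trans (Nat.pow_le_pow_right (by positivity) hi)
      nlinarith only [hq]
    omega
  refine ⟨c, padicValNat r ((q ^ 2) ^ c - 1), hpos, ?_, ?_, ?_⟩
  · have h : (q ^ 2) ^ c - 1 = (q ^ c + 1) * (q ^ c - 1) := by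
      have := Nat.sq_sub_sq (q ^ c) 1
      rw [one_pow] at this
      rw [← this, ← pow_mul, ← pow_mul, mul_comm]
    have h3 : 3 ^ 1 ≤ q ^ c := (Nat.pow_le_pow_left hq 1).trans (Nat.pow_le_pow_right (by omega) hpos)
    rw [h, padicValNat.mul (by omega) (by omega)]
    by_cases hd : r ∣ q ^ c + 1
    · have hnd : ¬ r ∣ q ^ c - 1 := by
        intro h4
        have h5 := Nat.dvd_sub hd h4
        have h6 : q ^ c + 1 - (q ^ c - 1) = 2 := by omega
        rw [h6] at h5
        exact h2 ((Nat.prime_dvd_prime_iff_eq hr Nat.prime_two).1 h5)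
      rw [padicValNat.eq_zero_of_not_dvd hnd, add_zero]
      exact pow_val_le hr (by omega)
    · rw [padicValNat.eq_zero_of_not_dvd hd, zero_add]
      exact (pow_val_le hr (by omega)).trans (by omega)
  · intro i hi hci
    obtain ⟨j, rfl⟩ := hci
    have hj : j ≠ 0 := by rintro rfl; simp at hi
    have h1 : padicValNat r (ph q (c * j - 1)) ≤ padicValNat r ((q ^ 2) ^ (c * j) - 1) := by
      have h3 := ph_dvd (q := q) (c * j - 1)
      rw [Nat.sub_add_cancel hi] at h3
      exact (padicValNat_dvd_iff_le (hne _ hi)).1 ((pow_padicValNat_dvd).trans h3)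
    refine h1.trans ?_
    rw [Nat.mul_div_cancel_left _ hpos, pow_mul]
    have h4 := padicValNat.pow_sub_pow (p := r) (x := (q ^ 2) ^ c) (y := 1) (n := j) hrodd
      (by have := hne c hpos; omega) ((hiff c).2 dvd_rfl)
      (fun h5 => hrq (hr.dvd_of_dvd_pow (hr.dvd_of_dvd_pow h5))) hj
    rw [one_pow] at h4
    rw [h4]
  · intro i hi hci
    apply padicValNat.eq_zero_of_not_dvd
    intro h3
    apply hci
    rw [← hiff]
    have h4 := ph_dvd (q := q) (i - 1)
    rw [Nat.sub_add_cancel hi] at h4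
    exact h3.trans h4

theorem odd_geom {q : ℕ} (hq : Odd q) (k : ℕ) : ∃ s, Odd s ∧ q ^ (2 * k + 1) + 1 = (q + 1) * s := by
  induction k with
  | zero => exact ⟨1, odd_one, by ring⟩
  | succ k ih =>
    obtain ⟨s, hs, h⟩ := ih
    obtain ⟨t, rfl⟩ : ∃ t, q = t + 1 := ⟨q - 1, by obtain ⟨u, rfl⟩ := hq; omega⟩
    have ht : Even t := by rwa [Nat.odd_add_one, Nat.not_odd_iff_even] at hq
    refine ⟨(t + 1) ^ 2 * s - t, ?_, ?_⟩
    · have h1 : Odd ((t + 1) ^ 2 * s) := (hq.pow).mul hs
      have h2 : t ≤ (t + 1) ^ 2 * s := by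
        have h3 : 1 ≤ s := hs.pos
        nlinarith only [h3]
      exact Nat.Odd.sub_even h2 h1 ht
    · have h2 : t ≤ (t + 1) ^ 2 * s := by
        have h3 : 1 ≤ s := hs.pos
        nlinarith only [h3]
      rw [Nat.mul_sub]
      have h3 : (t + 1 + 1) * ((t + 1) ^ 2 * s) = (t + 1) ^ 2 * ((t + 1) ^ (2 * k + 1) + 1) := by rw [h]; ring
      rw [h3]
      have h4 : (t + 1) ^ 2 * ((t + 1) ^ (2 * k + 1) + 1) = (t + 1) ^ (2 * (k + 1) + 1) + (t + 1) ^ 2 := by ring
      rw [h4]
      have h5 : (t + 1) ^ 2 = (t + 1 + 1) * t + 1 := by ring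
      omega

theorem two_loc (hq : 3 ≤ q) (hrq : ¬ 2 ∣ q) : ∃ c w, Loc 2 q c w := by
  have hodd : Odd q := by rwa [← Nat.not_even_iff_odd, even_iff_two_dvd]
  have hmin : padicValNat 2 (q + 1) = 1 ∨ padicValNat 2 (q - 1) = 1 := by
    obtain ⟨t, ht⟩ := hodd
    rcases Nat.even_or_odd t with h | h
    · left
      obtain ⟨u, rfl⟩ := h
      have h1 : q + 1 = 2 * (2 * u + 1) := by omega
      rw [h1, padicValNat.mul (by norm_num) (by omega), padicValNat.self (by norm_num),
        padicValNat.eq_zero_of_not_dvd (by omega)]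
    · right
      obtain ⟨u, rfl⟩ := h
      have h1 : q - 1 = 2 * (2 * u + 1) := by (clear * - ht; omega)
      rw [h1, padicValNat.mul (by norm_num) (by omega), padicValNat.self (by norm_num),
        padicValNat.eq_zero_of_not_dvd (by omega)]
  have h1' : 1 ≤ padicValNat 2 (q + 1) := by
    obtain ⟨t, ht⟩ := hodd
    exact one_le_padicValNat_of_dvd (by omega) ⟨t + 1, by omega⟩
  have h1'' : 1 ≤ padicValNat 2 (q - 1) := by
    obtain ⟨t, ht⟩ := hodd
    exact one_le_padicValNat_of_dvd (by omega) ⟨t, by (clear * - ht; omega)⟩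
  refine ⟨1, max (padicValNat 2 (q + 1)) (padicValNat 2 (q - 1)), one_pos, ?_, ?_, ?_⟩
  · rw [pow_one]
    rcases le_total (padicValNat 2 (q + 1)) (padicValNat 2 (q - 1)) with h | h
    · rw [max_eq_right h]
      exact (pow_val_le Nat.prime_two (by omega)).trans (by omega)
    · rw [max_eq_left h]
      exact pow_val_le Nat.prime_two (by omega)
  · intro i hi _
    rw [Nat.div_one]
    unfold ph
    rw [Nat.sub_add_cancel hi]
    split_ifs with he
    · have ho : Odd i := by
        obtain ⟨j, rfl⟩ : ∃ j, i = j + 1 := ⟨i - 1, by omega⟩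
        rw [Nat.add_sub_cancel] at he
        exact he.add_one
      obtain ⟨k, rfl⟩ := ho
      obtain ⟨s, hs, h⟩ := odd_geom hodd k
      rw [h, padicValNat.mul (by omega) hs.pos.ne', padicValNat.eq_zero_of_not_dvd (n := s)
        (by rw [← even_iff_two_dvd, Nat.not_even_iff_odd]; exact hs)]
      have := le_max_left (padicValNat 2 (q + 1)) (padicValNat 2 (q - 1))
      omega
    · have he' : Even i := by
        obtain ⟨j, rfl⟩ : ∃ j, i = j + 1 := ⟨i - 1, by omega⟩
        rw [Nat.add_sub_cancel, Nat.not_even_iff_odd] at he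
        exact he.add_one
      have h2 := padicValNat.pow_two_sub_one (x := q) (n := i) (by omega) hrq (by omega) he'
      have := le_max_left (padicValNat 2 (q + 1)) (padicValNat 2 (q - 1))
      have := le_max_right (padicValNat 2 (q + 1)) (padicValNat 2 (q - 1))
      omega
  · intro i _ h
    exact absurd (one_dvd i) h

theorem exists_loc (hr : r.Prime) (hq : 3 ≤ q) (hrq : ¬ r ∣ q) : ∃ c w, Loc r q c w := by
  by_cases h2 : r = 2
  · subst h2; exact two_loc hq hrq
  · exact loc_odd hr h2 hq hrq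

theorem prod_ne_zero (hq : 3 ≤ q) (m : ℕ) : ∏ i ∈ Finset.range m, ph q (i + 1) ≠ 0 :=
  Finset.prod_ne_zero_iff.2 fun i _ => ph_ne_zero hq (i + 1)

theorem Loc.one (hr : r.Prime) (hq : 3 ≤ q) {w : ℕ} (h : Loc r q 1 w) (m : ℕ) :
    padicValNat r (∏ i ∈ Finset.range m, ph q (i + 1)) ≤ w * m + padicValNat r ((m + 1).factorial) := by
  have := Fact.mk hr
  induction m with
  | zero => simp
  | succ m ih =>
    rw [Finset.prod_range_succ, padicValNat.mul (prod_ne_zero hq m) (ph_ne_zero hq _), Nat.factorial_succ (m + 1),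
      padicValNat.mul (by omega) (Nat.factorial_ne_zero _)]
    have h1 := h.dv (m + 2) (by omega) (one_dvd _)
    rw [Nat.div_one] at h1
    have h2 : m + 2 - 1 = m + 1 := by omega
    rw [h2] at h1
    have h3 : w * (m + 1) = w * m + w := by ring
    have h4 : m + 1 + 1 = m + 2 := rfl
    rw [h4]
    omega

theorem Loc.big (hr : r.Prime) (hq : 3 ≤ q) {c w : ℕ} (h : Loc r q c w) (hc : 2 ≤ c) (m : ℕ) :
    padicValNat r (∏ i ∈ Finset.range m, ph q (i + 1)) ≤
      w * ((m + 1) / c) + padicValNat r (((m + 1) / c).factorial) := by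
  have := Fact.mk hr
  induction m with
  | zero =>
    rw [Finset.prod_range_zero, padicValNat_one_right]
    exact Nat.zero_le _
  | succ m ih =>
    rw [Finset.prod_range_succ, padicValNat.mul (prod_ne_zero hq m) (ph_ne_zero hq _)]
    have h2 : m + 2 - 1 = m + 1 := by omega
    by_cases hd : c ∣ m + 1 + 1
    · rw [Nat.succ_div_of_dvd hd, Nat.factorial_succ, padicValNat.mul (a := (m + 1) / c + 1) (Nat.succ_ne_zero _) (Nat.factorial_ne_zero _)]
      have h1 := h.dv (m + 2) (by omega) hd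
      rw [h2] at h1
      have h5 : (m + 2) / c = (m + 1) / c + 1 := Nat.succ_div_of_dvd hd
      rw [h5] at h1
      have h3 : w * ((m + 1) / c + 1) = w * ((m + 1) / c) + w := by ring
      rw [h3]
      generalize padicValNat r ((m + 1) / c + 1) = y at *
      generalize w * ((m + 1) / c) = z at *
      omega
    · rw [Nat.succ_div_of_not_dvd hd]
      have h1 := h.nd (m + 2) (by omega) hd
      rw [h2] at h1
      omega

/-- **The `r`-part of `|SU_n(q)|`.** -/
theorem rpart_le (hr : r.Prime) (hq : 3 ≤ q) (hrq : ¬ r ∣ q) {m : ℕ} (hm : 2 ≤ m) :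
    r ^ padicValNat r (∏ i ∈ Finset.range m, ph q (i + 1)) ≤ q ^ (2 * m) := by
  obtain ⟨c, w, h⟩ := exists_loc hr hq hrq
  have hq2 : 2 * (q + 1) ≤ q ^ 2 := by nlinarith
  by_cases hc : c = 1
  · subst hc
    calc r ^ padicValNat r (∏ i ∈ Finset.range m, ph q (i + 1))
        ≤ r ^ (w * m + padicValNat r ((m + 1).factorial)) := Nat.pow_le_pow_right hr.pos (h.one hr hq m)
      _ = (r ^ w) ^ m * r ^ padicValNat r ((m + 1).factorial) := by rw [pow_add, pow_mul]
      _ ≤ (q + 1) ^ m * 2 ^ m := by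
          refine Nat.mul_le_mul (Nat.pow_le_pow_left ?_ m) ?_
          · have := h.le
            rwa [pow_one] at this
          · have := pow_val_factorial hr (m + 1)
            rwa [Nat.add_sub_cancel] at this
      _ = (2 * (q + 1)) ^ m := by rw [← mul_pow, mul_comm]
      _ ≤ (q ^ 2) ^ m := Nat.pow_le_pow_left hq2 m
      _ = q ^ (2 * m) := by rw [← pow_mul]
  · have hc2 : 2 ≤ c := by have := h.cpos; omega
    set! k := (m + 1) / c with hk
    have hkc : c * k ≤ m + 1 := Nat.mul_div_le _ _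
    have hk2 : 2 * k ≤ m + 1 := le_trans (Nat.mul_le_mul_right k hc2) hkc
    have hqc : 2 * (q ^ c + 1) ≤ q ^ (c + 1) := by
      have h1 : 3 ^ 1 ≤ q ^ c := (Nat.pow_le_pow_left hq 1).trans (Nat.pow_le_pow_right (by omega) (by omega))
      rw [pow_succ]
      nlinarith only [hq, h1]
    calc r ^ padicValNat r (∏ i ∈ Finset.range m, ph q (i + 1))
        ≤ r ^ (w * k + padicValNat r (k.factorial)) := Nat.pow_le_pow_right hr.pos (h.big hr hq hc2 m)
      _ = (r ^ w) ^ k * r ^ padicValNat r (k.factorial) := by rw [pow_add, pow_mul]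
      _ ≤ (q ^ c + 1) ^ k * 2 ^ k := by
          refine Nat.mul_le_mul (Nat.pow_le_pow_left h.le k) ?_
          exact (pow_val_factorial hr k).trans (Nat.pow_le_pow_right (by norm_num) (by omega))
      _ = (2 * (q ^ c + 1)) ^ k := by rw [← mul_pow, mul_comm]
      _ ≤ (q ^ (c + 1)) ^ k := Nat.pow_le_pow_left hqc k
      _ = q ^ (c * k + k) := by rw [← pow_mul]; ring_nf
      _ ≤ q ^ (2 * m) := Nat.pow_le_pow_right (by omega) (by omega)

end Cfsg.Agent.H985.UT.RPart
end

-- part: H985/UT/Ord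
section
/-!
# S2196, part (B2): the order bound (helper985)

`HB.of_residual` : `K < SU_n(q)` with residual core `P`, `|SU_n(q)| ≤ 3 |K|²`, `K` transitive on the isotropic points
⟹ `HB q n P`.
-/

set_option autoImplicit false
set_option linter.unusedSectionVars false
set_option linter.style.haveILetI false

universe u v

namespace Cfsg.Agent.H985.UT

open Cfsg Cfsg.Geo Matrix Cfsg.Agent.H918 Cfsg.Agent.LieClassical.HermBasic Cfsg.Agent.H915.LD
open Cfsg.Agent.H948.UProd (ph)

/-! ### The order of `SU_n(q)` from below -/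

theorem prod_ge {q : ℕ} (hq : 3 ≤ q) (j : ℕ) :
    (q ^ 2 - 1) * q ^ ((j + 1) * (2 * j + 3) - 3) ≤ ∏ i ∈ Finset.range (2 * j + 1), ph q (i + 1) := by
  induction j with
  | zero =>
    rw [Finset.prod_range_succ, Finset.prod_range_zero]
    simp only [ph, _root_.zero_add, _root_.MulZeroClass.mul_zero, _root_.one_mul, _root_.tsub_self, _root_.pow_zero, _root_.mul_one, _root_.Nat.not_even_one, ↓ _root_.reduceIte, _root_.Nat.reduceAdd, _root_.Std.le_refl]
  | succ j ih =>
    have h1 : 2 * (j + 1) + 1 = 2 * j + 1 + 1 + 1 := by ring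
    rw [h1, Finset.prod_range_succ, Finset.prod_range_succ]
    have e1 : ph q (2 * j + 1 + 1) = q ^ (2 * j + 3) + 1 := by
      unfold ph
      rw [if_pos ⟨j + 1, by ring⟩]
    have e2 : ph q (2 * j + 1 + 1 + 1) = q ^ (2 * j + 4) - 1 := by
      unfold ph
      rw [if_neg (by rw [Nat.not_even_iff_odd]; exact ⟨j + 1, by ring⟩)]
    rw [e1, e2]
    have h2 : q ^ (2 * j + 3) * q ^ (2 * j + 4) ≤ (q ^ (2 * j + 3) + 1) * (q ^ (2 * j + 4) - 1) := by
      have h3 : q ^ (2 * j + 4) = q ^ (2 * j + 3) * q := pow_succ _ _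
      have h4 : 1 ≤ q ^ (2 * j + 3) := Nat.one_le_pow _ _ (by omega)
      obtain ⟨y, hy⟩ : ∃ y, q ^ (2 * j + 4) = y + 1 := ⟨q ^ (2 * j + 4) - 1, by
        have : 1 ≤ q ^ (2 * j + 4) := Nat.one_le_pow _ _ (by omega)
        omega⟩
      have h5 : q ^ (2 * j + 3) ≤ y := by nlinarith only [hq, h3, hy]
      rw [hy, Nat.add_sub_cancel]
      linarith only [h5]
    have h6 : (j + 1 + 1) * (2 * (j + 1) + 3) - 3 = ((j + 1) * (2 * j + 3) - 3) + ((2 * j + 3) + (2 * j + 4)) := by
      have h7 : 3 ≤ (j + 1) * (2 * j + 3) := by nlinarith only []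
      have h8 : (j + 1 + 1) * (2 * (j + 1) + 3) = (j + 1) * (2 * j + 3) + ((2 * j + 3) + (2 * j + 4)) := by ring
      (clear * - h7 h8; omega)
    rw [h6, pow_add, pow_add, ← mul_assoc, mul_assoc (∏ i ∈ Finset.range (2 * j + 1), ph q (i + 1))]
    exact Nat.mul_le_mul ih h2

theorem card_SU_ge {F : Type*} [Field F] [Fintype F] {q : ℕ} (hF : Fintype.card F = q ^ 2) (hq : 3 ≤ q) {n : ℕ}
    (hn : 2 ≤ n) : (q ^ 2 - 1) * q ^ (n ^ 2 - 3) ≤ Nat.card (SU n F q) := by
  rw [Cfsg.Agent.H948.UProd.card_SU hF (by omega)]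
  obtain ⟨j, hj⟩ : ∃ j, n = 2 * j + 2 ∨ n = 2 * j + 3 := ⟨(n - 2) / 2, by omega⟩
  rcases hj with rfl | rfl
  · have h1 := prod_ge hq j
    have e1 : 2 * j + 2 - 1 = 2 * j + 1 := by omega
    rw [e1]
    have e2 : (2 * j + 2) * (2 * j + 1) / 2 = (j + 1) * (2 * j + 1) := by
      rw [show (2 * j + 2) * (2 * j + 1) = (j + 1) * (2 * j + 1) * 2 by ring, Nat.mul_div_cancel _ (by norm_num)]
    rw [e2]
    have e3 : (2 * j + 2) ^ 2 - 3 = (j + 1) * (2 * j + 1) + ((j + 1) * (2 * j + 3) - 3) := by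
      have h7 : 3 ≤ (j + 1) * (2 * j + 3) := by nlinarith only []
      have h8 : (2 * j + 2) ^ 2 = (j + 1) * (2 * j + 1) + (j + 1) * (2 * j + 3) := by ring
      omega
    rw [e3, pow_add, mul_left_comm]
    exact Nat.mul_le_mul_left _ h1
  · have h1 := prod_ge hq j
    have e1 : 2 * j + 3 - 1 = 2 * j + 1 + 1 := by omega
    rw [e1, Finset.prod_range_succ]
    have e4 : ph q (2 * j + 1 + 1) = q ^ (2 * j + 3) + 1 := by
      unfold ph
      rw [if_pos ⟨j + 1, by ring⟩]
    rw [e4]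
    have e2 : (2 * j + 3) * (2 * j + 1 + 1) / 2 = (j + 1) * (2 * j + 3) := by
      rw [show (2 * j + 3) * (2 * j + 1 + 1) = (j + 1) * (2 * j + 3) * 2 by ring, Nat.mul_div_cancel _ (by norm_num)]
    rw [e2]
    have e3 : (2 * j + 3) ^ 2 - 3 = (j + 1) * (2 * j + 3) + (((j + 1) * (2 * j + 3) - 3) + (2 * j + 3)) := by
      have h7 : 3 ≤ (j + 1) * (2 * j + 3) := by nlinarith only []
      have h8 : (2 * j + 3) ^ 2 = (j + 1) * (2 * j + 3) + ((j + 1) * (2 * j + 3) + (2 * j + 3)) := by ring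
      (clear * - h7 h8; omega)
    rw [e3, pow_add, pow_add, mul_left_comm]
    refine Nat.mul_le_mul_left _ ?_
    rw [← mul_assoc]
    exact Nat.mul_le_mul h1 (by omega)

section

variable {F : Type u} [Field F] [Fintype F] {n q : ℕ} (hF : Fintype.card F = q ^ 2)

theorem card_SUg_eq : Nat.card (SUg n F q) = Nat.card (SU n F q) := by
  rw [← range_suHom]
  exact (Nat.card_congr (MonoidHom.ofInjective (suHom_injective (F := F) (n := n) (q := q))).toEquiv).symm

include hF

/-- the scalars of `SU_n(q)` -/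
theorem pow_eq_one_of_scalar {g : GL (Fin n) F} (hn : 0 < n) (hg : g ∈ SUg n F q) {c : Fˣ}
    (hc : (g : Matrix (Fin n) (Fin n) F) = (c : F) • 1) : c ^ (q + 1) = 1 := by
  obtain ⟨v, hv⟩ : ∃ v : Fin n → F, v ≠ 0 := ⟨fun _ => 1, fun h => by
    have := congrFun h ⟨0, hn⟩
    simp at this⟩
  obtain ⟨w, hw⟩ := exists_herm_ne_zero hF hv
  have h1 := (mem_SUg.1 hg).1 v w
  rw [hc, Matrix.smul_mulVec, Matrix.smul_mulVec, Matrix.one_mulVec, Matrix.one_mulVec, herm_smul_left,
    herm_smul_right, ← mul_assoc] at h1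
  have h2 := mul_right_cancel₀ hw (h1.trans (one_mul _).symm)
  apply Units.ext
  rw [Units.val_pow_eq_pow_val, pow_succ', Units.val_one]
  exact h2

/-- the action of `K` on `Soc P` -/
theorem card_le_aut {P K : Subgroup (GL (Fin n) F)} (hn : 0 < n) (hK : K ≤ SUg n F q) (hc : IsResidualCore K P) :
    ∃ a b, a ≤ q + 1 ∧ 0 < a ∧ b ∣ Nat.card (MulAut (Soc P)) ∧ Nat.card K = a * b := by
  have hC := core_of_residual hc
  have hN : K ≤ Subgroup.normalizer (P : Set (GL (Fin n) F)) := fun g hg => H100.Ppd.mem_normalizer (hc.normal g hg)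
  let f : K →* MulAut (Soc P) := (H100.Ppd.conjSoc hC.absIrred).comp (Subgroup.inclusion hN)
  have hfin : Finite (MulAut (Soc P)) := inferInstance
  refine ⟨Nat.card f.ker, Nat.card f.range, ?_, Nat.card_pos, Subgroup.card_subgroup_dvd_card _, ?_⟩
  · have hex : ∀ x : f.ker, ∃ c : Fˣ, ((x : K) : GL (Fin n) F).1 = (c : F) • (1 : Matrix (Fin n) (Fin n) F) := by
      intro x
      have h1 : (((x : K) : GL (Fin n) F)) ∈ scalars (Fin n) F := H100.Ppd.scalar_of_conjSoc hC (g := Subgroup.inclusion hN x) x.2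
      obtain ⟨c, hcc⟩ := (mem_scalars_iff _).1 h1
      exact ⟨c, hcc⟩
    choose c hcc using hex
    have : NeZero (q + 1) := ⟨by omega⟩
    have hroot : ∀ x : f.ker, c x ∈ rootsOfUnity (q + 1) F := by
      intro x
      rw [mem_rootsOfUnity]
      exact pow_eq_one_of_scalar hF hn (hK (x : K).2) (hcc x)
    have hinj : Function.Injective (fun x : f.ker => (⟨c x, hroot x⟩ : rootsOfUnity (q + 1) F)) := by
      intro x y hxy
      have h1 : c x = c y := congrArg Subtype.val hxy
      apply Subtype.ext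
      apply Subtype.ext
      apply Units.ext
      rw [hcc, hcc, h1]
    have h1 := Nat.card_le_card_of_injective _ hinj
    exact h1.trans (card_rootsOfUnity F (q + 1))
  · rw [← Subgroup.index_ker, mul_comm]
    exact (Subgroup.index_mul_card _).symm

theorem isoNum_dvd {K : Subgroup (GL (Fin n) F)} (hn : 2 ≤ n) (hK : K ≤ SUg n F q) (htr : IsoTrans (q := q) K) :
    H950.isoNum q n ∣ Nat.card K * (q ^ 2 - 1) := by
  classical
  have hq2 := two_le hF
  let X := {β : Fin n → F // hermForm n F q β β = 0 ∧ β ≠ 0}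
  letI : MulAction (K × Fˣ) X :=
    { smul := fun g x => ⟨(g.2 : F) • ((g.1 : GL (Fin n) F).1 *ᵥ x.1), by
        rw [herm_smul_left, herm_smul_right, (mem_SUg.1 (hK g.1.2)).1, x.2.1, mul_zero, mul_zero], by
        rw [smul_ne_zero_iff]
        exact ⟨g.2.ne_zero, mulVec_ne_zero x.2.2⟩⟩
      one_smul := fun x => Subtype.ext (by
        change ((1 : Fˣ) : F) • ((1 : Matrix (Fin n) (Fin n) F) *ᵥ x.1) = x.1
        rw [Matrix.one_mulVec, Units.val_one, one_smul])
      mul_smul := fun g h x => Subtype.ext (by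
        change ((g.2 * h.2 : Fˣ) : F) • (((g.1 : GL (Fin n) F).1 * (h.1 : GL (Fin n) F).1) *ᵥ x.1) =
          (g.2 : F) • ((g.1 : GL (Fin n) F).1 *ᵥ ((h.2 : F) • ((h.1 : GL (Fin n) F).1 *ᵥ x.1)))
        rw [Matrix.mulVec_smul, Matrix.mulVec_mulVec, smul_smul, Units.val_mul]) }
  have hX : Nat.card X = H950.isoNum q n := H950.card_iso_ne_zero hF n
  have hpos : 0 < Nat.card X := by
    rw [hX]
    unfold H950.isoNum
    have h1 : 1 < q ^ n := Nat.one_lt_pow (by omega) hq2
    have h2 : 1 < q ^ (n - 1) := Nat.one_lt_pow (by omega) hq2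
    split_ifs <;> exact Nat.mul_pos (by omega) (by omega)
  obtain ⟨x⟩ : Nonempty X := (Nat.card_pos_iff.1 hpos).1
  have htrans : MulAction.orbit (K × Fˣ) x = Set.univ := by
    rw [Set.eq_univ_iff_forall]
    intro y
    obtain ⟨g, hg, c, hc⟩ := htr x.1 y.1 x.2.2 x.2.1 y.2.2 y.2.1
    have hc0 : c ≠ 0 := by
      rintro rfl
      rw [zero_smul] at hc
      exact mulVec_ne_zero x.2.2 hc
    refine ⟨(⟨g, hg⟩, (Units.mk0 c hc0)⁻¹), Subtype.ext ?_⟩
    change (((Units.mk0 c hc0)⁻¹ : Fˣ) : F) • ((g : GL (Fin n) F).1 *ᵥ x.1) = y.1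
    rw [hc, smul_smul, Units.val_inv_eq_inv_val, Units.val_mk0, inv_mul_cancel₀ hc0, one_smul]
  have h1 := MulAction.index_stabilizer (K × Fˣ) x
  rw [htrans, Set.ncard_univ, hX] at h1
  rw [← h1]
  refine (Subgroup.index_dvd_card _).trans ?_
  rw [Nat.card_prod, Nat.card_units, Nat.card_eq_fintype_card (α := F), hF]

/-- **The data of part (B2).** -/
theorem HB.of_residual {P K : Subgroup (GL (Fin n) F)} (hn : 6 ≤ n) (hq : 3 ≤ q) (hK : K ≤ SUg n F q)
    (hc : IsResidualCore K P) (hord : Nat.card (SUg n F q) ≤ 3 * Nat.card K ^ 2) (htr : IsoTrans (q := q) K) :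
    HB q n P := by
  have hC := core_of_residual hc
  have hfin : Finite (MulAut (Soc P)) := inferInstance
  have hN0 : 0 < Nat.card (MulAut (Soc P)) := Nat.card_pos
  obtain ⟨a, b, ha, ha0, hb, hab⟩ := card_le_aut hF (by omega) hK hc
  refine ⟨hC, hn, hq, by rw [Nat.card_eq_fintype_card, hF], ?_, ?_⟩
  · have h1 := card_SU_ge hF hq (n := n) (by omega)
    rw [card_SUg_eq, hab] at hord
    have hb' : b ≤ Nat.card (MulAut (Soc P)) := Nat.le_of_dvd hN0 hb
    set N := Nat.card (MulAut (Soc P))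
    set Y := q ^ (n ^ 2 - 3)
    have h2 : (q ^ 2 - 1) * Y ≤ 3 * ((q + 1) * N) ^ 2 :=
      (h1.trans hord).trans (Nat.mul_le_mul_left 3 (Nat.pow_le_pow_left (Nat.mul_le_mul ha hb') 2))
    obtain ⟨t, rfl⟩ : ∃ t, q = t + 1 := ⟨q - 1, by omega⟩
    have h3 : (t + 1) ^ 2 - 1 = t * (t + 2) := by
      have : (t + 1) ^ 2 = t * (t + 2) + 1 := by ring
      omega
    rw [h3] at h2
    have h4 : (t + 2) * (t * Y) ≤ (t + 2) * (3 * (t + 2) * N ^ 2) := by
      calc (t + 2) * (t * Y) = t * (t + 2) * Y := by ring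
        _ ≤ 3 * ((t + 1 + 1) * N) ^ 2 := h2
        _ = (t + 2) * (3 * (t + 2) * N ^ 2) := by ring
    have h5 : t * Y ≤ 3 * (t + 2) * N ^ 2 := Nat.le_of_mul_le_mul_left h4 (by omega)
    have h6 : t * Y ≤ t * (6 * N ^ 2) := by
      refine h5.trans ?_
      have h7 : 3 * (t + 2) ≤ t * 6 := by omega
      calc 3 * (t + 2) * N ^ 2 ≤ t * 6 * N ^ 2 := Nat.mul_le_mul_right _ h7
        _ = t * (6 * N ^ 2) := by ring
    exact Nat.le_of_mul_le_mul_left h6 (by omega)
  · rintro rfl rfl
    have h1 := isoNum_dvd hF (by norm_num) hK htr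
    have h2 : 61 ∣ H950.isoNum 3 6 := by decide
    have h3 := h2.trans h1
    have h61 : Nat.Prime 61 := by norm_num
    rcases h61.dvd_mul.1 h3 with h4 | h4
    · rw [hab] at h4
      rcases h61.dvd_mul.1 h4 with h5 | h5
      · have := Nat.le_of_dvd ha0 h5
        omega
      · exact h5.trans hb
    · norm_num at h4

end

end Cfsg.Agent.H985.UT
end

private theorem dce_fb2af84b8600 : _root_.True := by
  try have : _root_.True := by simp only [_root_.Cfsg.Agent.H948.UProd.ph.eq_1]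
  exact _root_.True.intro
end

-- part: H985/UT/Alt_mg
section
prune_inst 0x502043204da0000000000000000000007800000000000000200000020808000080020000000000020000000000000000000004000000000000000400002406090080100400400008000006000000000000000000000000000000000000000000200400000
set_option linter.all false
open scoped Cfsg.Agent.FastGrp

-- part: H985/UT/Lie
section
/-!
# S2196, part (B2): groups of Lie type in another characteristic, `n ≥ 13` (helper985)

`|S| < r^(3k)`, `r^k` the `r`-part of `|S|`, and `r^k ≤ q^(2(n-1))`.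
-/

set_option autoImplicit false
set_option linter.unusedSectionVars false

universe u v

namespace Cfsg.Agent.H985.UT

open Cfsg Cfsg.Geo Matrix Cfsg.Agent.H918 Cfsg.Agent.LieClassical.HermBasic Cfsg.Agent.H915.LD
open Cfsg.Agent.H948.UProd (ph)

theorem sq_le_three_pow (m : ℕ) : m ^ 2 ≤ 3 ^ m := by
  induction m with
  | zero => norm_num
  | succ m ih =>
    have h1 : m + 1 ≤ 3 ^ m := Nat.lt_pow_self (by norm_num)
    rw [pow_succ 3 m]
    linarith only [ih, h1]

/-- the numbers -/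
theorem num_kill {n q S O : ℕ} (hn : 13 ≤ n) (hq : 3 ≤ q) (hS : S < q ^ (6 * (n - 1))) (hO : 2 ^ O ≤ S ^ 3)
    (h : q ^ (n ^ 2 - 3) ≤ 6 * (O * S) ^ 2) : False := by
  obtain ⟨m, rfl⟩ : ∃ m, n = m + 1 := ⟨n - 1, by omega⟩
  rw [Nat.add_sub_cancel] at hS
  have hS0 : 0 < S := by
    rw [Nat.pos_iff_ne_zero]
    rintro rfl
    have : 0 < 2 ^ O := by positivity
    simp at hO
  have h1 : O < q * (18 * m) := by
    have h2 : 2 ^ O < 2 ^ (q * (18 * m)) := by
      calc 2 ^ O ≤ S ^ 3 := hO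
        _ ≤ (q ^ (6 * m)) ^ 3 := Nat.pow_le_pow_left hS.le 3
        _ = q ^ (18 * m) := by rw [← pow_mul]; ring_nf
        _ < (2 ^ q) ^ (18 * m) := Nat.pow_lt_pow_left Nat.lt_two_pow_self (by omega)
        _ = 2 ^ (q * (18 * m)) := by rw [← pow_mul]
    exact (Nat.pow_lt_pow_iff_right (by norm_num)).1 h2
  have h3 : 6 * (O * S) ^ 2 ≤ (1944 * m ^ 2) * (q ^ 2 * q ^ (12 * m)) := by
    calc 6 * (O * S) ^ 2 ≤ 6 * ((q * (18 * m)) * q ^ (6 * m)) ^ 2 :=
          Nat.mul_le_mul_left 6 (Nat.pow_le_pow_left (Nat.mul_le_mul h1.le hS.le) 2)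
      _ = (1944 * m ^ 2) * (q ^ 2 * (q ^ (6 * m)) ^ 2) := by ring
      _ = (1944 * m ^ 2) * (q ^ 2 * q ^ (12 * m)) := by rw [← pow_mul]; ring_nf
  have h4 : 1944 * m ^ 2 < q ^ (m + 7) := by
    calc 1944 * m ^ 2 ≤ 1944 * 3 ^ m := Nat.mul_le_mul_left _ (sq_le_three_pow m)
      _ < 3 ^ 7 * 3 ^ m := Nat.mul_lt_mul_of_pos_right (by norm_num) (by positivity)
      _ = 3 ^ (m + 7) := by ring
      _ ≤ q ^ (m + 7) := Nat.pow_le_pow_left hq _
  have h5 : (m + 7) + (2 + 12 * m) ≤ (m + 1) ^ 2 - 3 := by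
    have h6 : (m + 7) + (2 + 12 * m) + 3 ≤ (m + 1) ^ 2 := by nlinarith only [hn]
    omega
  have h7 : q ^ ((m + 7) + (2 + 12 * m)) ≤ q ^ ((m + 1) ^ 2 - 3) := Nat.pow_le_pow_right (by omega) h5
  have h8 : (1944 * m ^ 2) * (q ^ 2 * q ^ (12 * m)) < q ^ ((m + 7) + (2 + 12 * m)) := by
    rw [pow_add q (m + 7), pow_add q 2]
    exact Nat.mul_lt_mul_of_pos_right h4 (by positivity)
  omega

section

variable {F : Type u} [Field F] [Fintype F] {n q : ℕ}

theorem out_le {T : Type v} [Group T] [Finite T] [IsSimpleGroup T] (hT : ¬ IsMulCommutative T) :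
    2 ^ Nat.card (Cfsg.Out T) ≤ Nat.card T ^ 3 := by
  have hne : (⊥ : Subgroup T) ≠ ⊤ := by
    intro h
    apply hT
    refine ⟨⟨fun a b => ?_⟩⟩
    have ha : a ∈ (⊥ : Subgroup T) := by rw [h]; trivial
    rw [Subgroup.mem_bot.1 ha, one_mul, mul_one]
  have h := Cfsg.Agent.H934.OutAll.bd hT (Cfsg.Agent.S0000.result (G := T)) ⊥ hne
  rwa [Subgroup.index_bot] at h

/-- **`n ≥ 13`, Lie type in another characteristic.** -/
theorem HB.lie_big (hF : Fintype.card F = q ^ 2) {P : Subgroup (GL (Fin n) F)} (h : HB q n P) (hn : 13 ≤ n)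
    (hP : P ≤ SUg n F q) {r : ℕ} (hr : r.Prime) (hrq : ¬ r ∣ q) (hL : IsLieTypeChar r (Soc P)) : False := by
  have := Fact.mk hr
  have hs : IsSimpleGroup (Soc P) := h.core.simple
  have hq := h.three
  have h1 := (Cfsg.Agent.S2363.result r hr hL).1
  set k := (Nat.card (Soc P)).factorization r with hk
  have hdvd : r ^ k ∣ Nat.card (SU n F q) := by
    rw [← card_SUg_eq]
    refine (Nat.ordProj_dvd _ _).trans ?_
    refine (Subgroup.card_quotient_dvd_card _).trans ?_
    exact Subgroup.card_dvd_of_le hP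
  rw [Cfsg.Agent.H948.UProd.card_SU hF (by omega)] at hdvd
  have hcop : Nat.Coprime (r ^ k) (q ^ (n * (n - 1) / 2)) :=
    Nat.Coprime.pow _ _ ((Nat.Prime.coprime_iff_not_dvd hr).2 hrq)
  have h2 := hcop.dvd_of_dvd_mul_left hdvd
  have h3 : k ≤ padicValNat r (∏ i ∈ Finset.range (n - 1), ph q (i + 1)) :=
    (padicValNat_dvd_iff_le (RPart.prod_ne_zero hq (n - 1))).1 h2
  have h4 : r ^ k ≤ q ^ (2 * (n - 1)) :=
    (Nat.pow_le_pow_right hr.pos h3).trans (RPart.rpart_le hr hq hrq (by omega))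
  have h5 : Nat.card (Soc P) < q ^ (6 * (n - 1)) := by
    calc Nat.card (Soc P) < r ^ (3 * k) := h1
      _ = (r ^ k) ^ 3 := by rw [← pow_mul, mul_comm]
      _ ≤ (q ^ (2 * (n - 1))) ^ 3 := Nat.pow_le_pow_left h4 3
      _ = q ^ (6 * (n - 1)) := by rw [← pow_mul]; ring_nf
  refine num_kill hn hq h5 (out_le h.core.nonabelian) ?_
  have h6 := h.bd
  rwa [← Cfsg.Agent.H934.OutB.card_out_mul (Soc P) h.core.nonabelian] at h6

end

end Cfsg.Agent.H985.UT
end

-- part: H985/UT/Alt
section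
/-!
# S2196, part (B2): alternating groups, the Tits group (helper985)
-/

set_option autoImplicit false
set_option linter.unusedSectionVars false

universe u v

namespace Cfsg.Agent.H985.UT

open Cfsg Cfsg.Geo Matrix Cfsg.Agent.H915.LD

variable {F : Type u} [Field F] [Fintype F] {n q : ℕ}

theorem HB.card_aut {P : Subgroup (GL (Fin n) F)} (h : HB q n P) :
    Nat.card (Cfsg.Out (Soc P)) * Nat.card (Soc P) = Nat.card (MulAut (Soc P)) := by
  have hs : IsSimpleGroup (Soc P) := h.core.simple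
  exact Cfsg.Agent.H934.OutB.card_out_mul (Soc P) h.core.nonabelian

theorem HB.out_le {P : Subgroup (GL (Fin n) F)} (h : HB q n P) :
    2 ^ Nat.card (Cfsg.Out (Soc P)) ≤ Nat.card (Soc P) ^ 3 := by
  have hs : IsSimpleGroup (Soc P) := h.core.simple
  exact UT.out_le h.core.nonabelian

/-- the criterion with the crude bound for `Out` -/
theorem HB.kill_crude {P : Subgroup (GL (Fin n) F)} (h : HB q n P) {m Q N O : ℕ} (hm : m ≤ n) (hQ : Q ≤ q)
    (hQ0 : 0 < Q) (hN : Nat.card (Soc P) ≤ N) (hO : N ^ 3 < 2 ^ (O + 1)) (hlt : 6 * (O * N) ^ 2 < Q ^ (m ^ 2 - 3)) :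
    False := by
  have h1 : Nat.card (Cfsg.Out (Soc P)) ≤ O := by
    have h2 := (h.out_le.trans (Nat.pow_le_pow_left hN 3)).trans_lt hO
    have h3 := (Nat.pow_lt_pow_iff_right (by norm_num)).1 h2
    omega
  refine h.kill hm hQ hQ0 (N := O * N) ?_ hlt
  rw [← h.card_aut]
  exact Nat.mul_le_mul h1 hN

theorem fact_lt (n : ℕ) (hn : 7 ≤ n) : 6 * ((n + 2).factorial) ^ 2 < 3 ^ (n ^ 2 - 3) := by
  induction n, hn using Nat.le_induction with
  | base => decide +kernel
  | succ n hn ih =>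
    have h1 : (n + 1) ^ 2 - 3 = (n ^ 2 - 3) + (2 * n + 1) := by
      have h2 : 3 ≤ n ^ 2 := by nlinarith only [hn]
      have h3 : (n + 1) ^ 2 = n ^ 2 + (2 * n + 1) := by ring
      omega
    rw [h1, pow_add, show n + 1 + 2 = (n + 2) + 1 by ring, Nat.factorial_succ]
    have h4 : (n + 2 + 1) ^ 2 ≤ 3 ^ (2 * n + 1) := by
      refine (sq_le_three_pow (n + 2 + 1)).trans ?_
      exact Nat.pow_le_pow_right (by norm_num) (by omega)
    calc 6 * ((n + 2 + 1) * (n + 2).factorial) ^ 2 = 6 * ((n + 2).factorial) ^ 2 * (n + 2 + 1) ^ 2 := by ring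
      _ < 3 ^ (n ^ 2 - 3) * (n + 2 + 1) ^ 2 := Nat.mul_lt_mul_of_pos_right ih (by positivity)
      _ ≤ 3 ^ (n ^ 2 - 3) * 3 ^ (2 * n + 1) := Nat.mul_le_mul_left _ h4

theorem card_alt_le {m N : ℕ} (hm : 2 ≤ m) (hN : m.factorial ≤ 2 * N) : Nat.card (alternatingGroup (Fin m)) ≤ N := by
  have : Nontrivial (Fin m) := Fin.nontrivial_iff_two_le.2 hm
  have h1 := two_mul_card_alternatingGroup (α := Fin m)
  rw [Fintype.card_perm, Fintype.card_fin] at h1
  rw [Nat.card_eq_fintype_card]
  omega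

/-- **Alternating groups.** -/
theorem HB.not_alternating {P : Subgroup (GL (Fin n) F)} (h : HB q n P) : ¬ IsAlternating (Soc P) := by
  rintro ⟨m, hm, ⟨e⟩⟩
  by_cases h8 : m ≤ 8
  · have h1 : Nat.card (Soc P) ≤ 20160 := by
      rw [Nat.card_congr e.toEquiv]
      refine card_alt_le (by omega) ?_
      have h2 : m.factorial ≤ (8).factorial := Nat.factorial_le h8
      have h3 : (8).factorial = 40320 := by decide
      omega
    exact h.kill_crude h.six h.three (by norm_num) h1 (O := 42) (by norm_num) (by norm_num)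
  · obtain ⟨p, hp⟩ := CharP.exists F
    have hpp : Fact p.Prime := ⟨CharP.char_is_prime F p⟩
    have h2 := Cfsg.Agent.S2653.result p n m P ((scalars (Fin n) F).subgroupOf P) ⟨e⟩ (by omega)
    have h3 : m ≤ n + 2 := by
      split_ifs at h2 <;> omega
    have h4 : Nat.card (MulAut (Soc P)) = m.factorial := by
      rw [Nat.card_congr (MulAut.congr e).toEquiv,
        ← Nat.card_congr (Equiv.ofBijective _ (Cfsg.Agent.S2119.result m (by omega) (by omega))),
        Nat.card_eq_fintype_card, Fintype.card_perm, Fintype.card_fin]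
    exact h.kill le_rfl h.three (by norm_num) (h4.le.trans (Nat.factorial_le h3)) (fact_lt n (by omega))

/-- **The Tits group**, `n ≥ 7`. -/
theorem HB.not_tits {P : Subgroup (GL (Fin n) F)} (h : HB q n P) (hn : 7 ≤ n) : ¬ Lie.IsoTits (Soc P) := by
  rintro ⟨e⟩
  have hcard : Nat.card (Soc P) = 17971200 := by
    rw [Nat.card_congr e.toEquiv, Cfsg.Agent.S1074.result.2.2.2]
    norm_num
  exact h.kill_crude hn h.three (by norm_num) hcard.le (O := 72) (by norm_num) (by norm_num)

end Cfsg.Agent.H985.UT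
end

-- part: H449/U/GeoHyp
section
/-!
# Geometric hyperplanes of Hermitian polar spaces (helper449, for S2196)

`H` is a set of isotropic vectors closed under scalars and sums of orthogonal vectors and meeting every totally
isotropic line (`GH B H`), `n ≥ 6`. If `H` does not contain all isotropic vectors, then `H` is the set of the isotropic
vectors of `u^⊥` for some `u ≠ 0` (`GH.exists_perp`).
-/

set_option autoImplicit false
set_option linter.unusedSectionVars false

namespace Cfsg.Agent.H449.U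

open Module Cfsg.Agent.H91.U
open Cfsg.Agent.H450.UF (self_fix exists_dual exists_iso exists_trace)

variable {F V : Type*} [Field F] [Fintype F] [AddCommGroup V] [Module F V] [FiniteDimensional F V]
  {σ : F →+* F} {B : V →ₛₗ[σ] V →ₗ[F] F}

/-- geometric hyperplanes -/
structure GH (B : V →ₛₗ[σ] V →ₗ[F] F) (H : Set V) : Prop where
  iso : ∀ v ∈ H, B v v = 0
  zero : (0 : V) ∈ H
  smul : ∀ (c : F), ∀ v ∈ H, c • v ∈ H
  add : ∀ x ∈ H, ∀ y ∈ H, B x y = 0 → x + y ∈ H
  meet : ∀ x y, LinearIndependent F ![x, y] → B x x = 0 → B y y = 0 → B x y = 0 →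
    ∃ a b : F, (a ≠ 0 ∨ b ≠ 0) ∧ a • x + b • y ∈ H

variable {H : Set V}

theorem GH.smul_mem (G : GH B H) {c : F} (hc : c ≠ 0) {v : V} (h : c • v ∈ H) : v ∈ H := by
  have := G.smul c⁻¹ _ h
  rwa [smul_smul, inv_mul_cancel₀ hc, one_smul] at this

/-! ### finding hyperbolic pairs -/

/-- the first step -/
theorem GH.pair_aux (G : GH B H) (hB : HForm B) {e g a b : V} (he : e ∈ H) (hg : B g g = 0) (ha : B a a = 0)
    (hb : B b b = 0) (heg : B e g ≠ 0) (hea : B e a = 0) (heb : B e b = 0) (hga : B g a = 0) (hgb : B g b = 0)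
    (hab : B a b ≠ 0) (U : Submodule F V) (he' : e ∈ U) (hg' : g ∈ U) (ha' : a ∈ U) (hb' : b ∈ U) :
    ∃ x ∈ H, ∃ y ∈ H, x ∈ U ∧ y ∈ U ∧ B x y ≠ 0 := by
  have hg0 : g ≠ 0 := by rintro rfl; exact heg (map_zero _)
  have hli : ∀ c : V, B e c = 0 → c ≠ 0 → LinearIndependent F ![g, c] := by
    intro c hc hc0
    rw [LinearIndependent.pair_iff' hg0]
    rintro t rfl
    rw [smul_right'] at hc
    rcases mul_eq_zero.1 hc with h | h
    · exact hc0 (by rw [h, zero_smul])
    · exact heg h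
  have ha0 : a ≠ 0 := by rintro rfl; exact hab (by rw [map_zero, LinearMap.zero_apply])
  have hb0 : b ≠ 0 := by rintro rfl; exact hab (map_zero _)
  obtain ⟨s, t, hst, h1⟩ := G.meet g a (hli a hea ha0) hg ha hga
  by_cases hs : s = 0
  · have ht : t ≠ 0 := hst.resolve_left (not_not.2 hs)
    rw [hs, zero_smul, zero_add] at h1
    have haH := G.smul_mem ht h1
    obtain ⟨s', t', hst', h2⟩ := G.meet g b (hli b heb hb0) hg hb hgb
    by_cases hs' : s' = 0
    · have ht' : t' ≠ 0 := hst'.resolve_left (not_not.2 hs')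
      rw [hs', zero_smul, zero_add] at h2
      exact ⟨a, haH, b, G.smul_mem ht' h2, ha', hb', hab⟩
    · refine ⟨e, he, _, h2, he', U.add_mem (U.smul_mem _ hg') (U.smul_mem _ hb'), ?_⟩
      rw [map_add, smul_right', smul_right', heb, mul_zero, add_zero]
      exact mul_ne_zero hs' heg
  · refine ⟨e, he, _, h1, he', U.add_mem (U.smul_mem _ hg') (U.smul_mem _ ha'), ?_⟩
    rw [map_add, smul_right', smul_right', hea, mul_zero, add_zero]
    exact mul_ne_zero hs heg

/-- hyperbolic quadruples -/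
structure Quad (B : V →ₛₗ[σ] V →ₗ[F] F) (a₁ a₂ b₁ b₂ : V) : Prop where
  a11 : B a₁ a₁ = 0
  a22 : B a₂ a₂ = 0
  a12 : B a₁ a₂ = 0
  b11 : B b₁ b₁ = 0
  b22 : B b₂ b₂ = 0
  b12 : B b₁ b₂ = 0
  c11 : B a₁ b₁ = 1
  c22 : B a₂ b₂ = 1
  c12 : B a₁ b₂ = 0
  c21 : B a₂ b₁ = 0

theorem Quad.swap (hB : HForm B) {a₁ a₂ b₁ b₂ : V} (Q : Quad B a₁ a₂ b₁ b₂) : Quad B a₂ a₁ b₂ b₁ :=
  ⟨Q.a22, Q.a11, hB.swap_zero Q.a12, Q.b22, Q.b11, hB.swap_zero Q.b12, Q.c22, Q.c11, Q.c21, Q.c12⟩

theorem Quad.ba11 (hB : HForm B) {a₁ a₂ b₁ b₂ : V} (Q : Quad B a₁ a₂ b₁ b₂) : B b₁ a₁ = 1 := by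
  rw [hB.swap, Q.c11, map_one]

theorem Quad.ba22 (hB : HForm B) {a₁ a₂ b₁ b₂ : V} (Q : Quad B a₁ a₂ b₁ b₂) : B b₂ a₂ = 1 := by
  rw [hB.swap, Q.c22, map_one]

theorem GH.pair_aux2 (G : GH B H) (hB : HForm B) {a₁ a₂ b₁ b₂ : V} (Q : Quad B a₁ a₂ b₁ b₂) {α β : F} (hα : α ≠ 0)
    (h : α • a₁ + β • a₂ ∈ H) (U : Submodule F V) (h1 : a₁ ∈ U) (h2 : a₂ ∈ U) (h3 : b₁ ∈ U) (h4 : b₂ ∈ U) :
    ∃ x ∈ H, ∃ y ∈ H, x ∈ U ∧ y ∈ U ∧ B x y ≠ 0 := by
  have hσ : σ α ≠ 0 := (map_ne_zero σ).2 hα
  have hBe : ∀ w, B (α • a₁ + β • a₂) w = σ α * B a₁ w + σ β * B a₂ w := by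
    intro w
    rw [map_add, LinearMap.add_apply, smul_left', smul_left']
  refine G.pair_aux hB (e := α • a₁ + β • a₂) (g := b₁) (a := a₂) (b := b₂ + (-(σ β / σ α)) • b₁) h Q.b11 Q.a22 ?_ ?_ ?_
    ?_ (hB.swap_zero Q.c21) ?_ ?_ U (U.add_mem (U.smul_mem _ h1) (U.smul_mem _ h2)) h3 h2
    (U.add_mem h4 (U.smul_mem _ h3))
  · simp only [map_add, LinearMap.add_apply, smul_left', smul_right', Q.b11, Q.b22, Q.b12, hB.swap_zero Q.b12]
    ring
  · rw [hBe, Q.c11, Q.c21, mul_one, mul_zero, add_zero]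
    exact hσ
  · rw [hBe, Q.a12, Q.a22, mul_zero, mul_zero, add_zero]
  · rw [hBe]
    simp only [map_add, smul_right', Q.c12, Q.c11, Q.c22, Q.c21]
    field_simp
    ring
  · rw [map_add, smul_right', Q.b12, Q.b11, mul_zero, add_zero]
  · rw [map_add, smul_right', Q.c22, Q.c21, mul_zero, add_zero]
    exact one_ne_zero

theorem li_of_quad (hB : HForm B) {a₁ a₂ b₁ b₂ : V} (Q : Quad B a₁ a₂ b₁ b₂) : LinearIndependent F ![a₁, a₂] := by
  rw [LinearIndependent.pair_iff]
  intro s t hst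
  have h1 := congrArg (B b₁) hst
  have h2 := congrArg (B b₂) hst
  rw [map_add, smul_right', smul_right', Q.ba11 hB, hB.swap_zero Q.c21, map_zero, mul_one, mul_zero, add_zero] at h1
  rw [map_add, smul_right', smul_right', Q.ba22 hB, hB.swap_zero Q.c12, map_zero, mul_one, mul_zero, zero_add] at h2
  exact ⟨h1, h2⟩

/-- **hyperbolic pairs of `H` inside a hyperbolic four-space** -/
theorem GH.exists_pair (G : GH B H) (hB : HForm B) {a₁ a₂ b₁ b₂ : V} (Q : Quad B a₁ a₂ b₁ b₂) (U : Submodule F V)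
    (h1 : a₁ ∈ U) (h2 : a₂ ∈ U) (h3 : b₁ ∈ U) (h4 : b₂ ∈ U) :
    ∃ x ∈ H, ∃ y ∈ H, x ∈ U ∧ y ∈ U ∧ B x y = 1 := by
  have key : ∃ x ∈ H, ∃ y ∈ H, x ∈ U ∧ y ∈ U ∧ B x y ≠ 0 := by
    obtain ⟨α, β, hαβ, h⟩ := G.meet a₁ a₂ (li_of_quad hB Q) Q.a11 Q.a22 Q.a12
    by_cases hα : α = 0
    · have hβ : β ≠ 0 := hαβ.resolve_left (not_not.2 hα)
      rw [add_comm] at h
      exact G.pair_aux2 hB (Q.swap hB) hβ h U h2 h1 h4 h3
    · exact G.pair_aux2 hB Q hα h U h1 h2 h3 h4
  obtain ⟨x, hx, y, hy, hxU, hyU, hxy⟩ := key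
  exact ⟨x, hx, (B x y)⁻¹ • y, G.smul _ _ hy, hxU, U.smul_mem _ hyU, by rw [smul_right', inv_mul_cancel₀ hxy]⟩

/-- hyperbolic frames with given first pair -/
theorem exists_hyp_through {q : ℕ} (hF : Fintype.card F = q ^ 2) (hB : HForm B) (hn : 6 ≤ finrank F V) {x y : V}
    (hx : B x x = 0) (hy : B y y = 0) (hxy : B x y = 1) : ∃ e f : Fin 3 → V, Hyp B e f ∧ e 0 = x ∧ f 0 = y := by
  obtain ⟨M, -, hTI, hM⟩ := Cfsg.Agent.H450.UF.exists_ti_le hB Cfsg.Agent.H450.UF.ti_bot (k := 3) (by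
    rw [finrank_bot]; omega) (by omega)
  obtain ⟨u, hu, -⟩ := Cfsg.Agent.H450.UF.exists_frame_of_ti hTI hM
  obtain ⟨f, h1, h2⟩ := Cfsg.Agent.H450.UF.exists_dual_frame hF hB hu
  have h : Hyp B u f := ⟨hu.ti, h2, h1⟩
  have hli : ∀ x y : V, B x x = 0 → B y y = 0 → B x y = 1 → LinearIndependent F ![x, y] := by
    intro x y hx hy hxy
    have hx0 : x ≠ 0 := by rintro rfl; rw [map_zero, LinearMap.zero_apply] at hxy; exact zero_ne_one hxy
    rw [LinearIndependent.pair_iff' hx0]
    rintro t rfl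
    rw [smul_right', hx, mul_zero] at hxy
    exact zero_ne_one hxy
  have h00 : B (u 0) (f 0) = 1 := by rw [h.ef, if_pos rfl]
  obtain ⟨g, hg, hgw⟩ := witt_family hB (hli (u 0) (f 0) (h.ee 0 0) (h.ff 0 0) h00) (hli x y hx hy hxy) (by
    intro i j
    have e1 : B (u 0) (f 0) = B x y := h00.trans hxy.symm
    fin_cases i <;> fin_cases j
    · exact (h.ee 0 0).trans hx.symm
    · exact e1
    · change B (f 0) (u 0) = B y x
      rw [hB.swap, e1, ← hB.swap]
    · exact (h.ff 0 0).trans hy.symm)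
  refine ⟨fun i => g (u i), fun i => g (f i), ⟨fun i j => ?_, fun i j => ?_, fun i j => ?_⟩, hgw 0, hgw 1⟩
  · rw [hg, h.ee]
  · rw [hg, h.ff]
  · rw [hg, h.ef]

theorem Hyp.quad (hB : HForm B) {e f : Fin 3 → V} (h : Hyp B e f) : Quad B (e 1) (e 2) (f 1) (f 2) := by
  refine ⟨h.ee _ _, h.ee _ _, h.ee _ _, h.ff _ _, h.ff _ _, h.ff _ _, ?_, ?_, ?_, ?_⟩ <;> rw [h.ef]
  · rw [if_pos rfl]
  · rw [if_pos rfl]
  · rw [if_neg (by decide)]
  · rw [if_neg (by decide)]

/-- an element of norm one -/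
theorem exists_norm_one (hB : HForm B) : ∃ t : F, t * σ t = 1 ∧ t ≠ 1 := by
  obtain ⟨a, ha⟩ := exists_moved hB.ne_id
  have ha0 : a ≠ 0 := by rintro rfl; exact ha (map_zero σ)
  have hσ : σ a ≠ 0 := (map_ne_zero σ).2 ha0
  refine ⟨a / σ a, ?_, fun h => ha ?_⟩
  · rw [map_div₀, hB.invol]
    field_simp
  · rw [div_eq_one_iff_eq hσ] at h
    exact h.symm

/-- **`H` is closed under isotropic sums.** -/
theorem GH.addI (G : GH B H) {q : ℕ} (hF : Fintype.card F = q ^ 2) (hB : HForm B) (hn : 6 ≤ finrank F V) {x y : V}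
    (hx : x ∈ H) (hy : y ∈ H) (hxy : B (x + y) (x + y) = 0) : x + y ∈ H := by
  by_cases h0 : B x y = 0
  · exact G.add x hx y hy h0
  have hxx := G.iso x hx
  have hyy := G.iso y hy
  set κ := B x y with hκ
  have hyx : B y x = σ κ := hB.swap y x
  have htr : κ + σ κ = 0 := by
    rw [map_add, map_add, LinearMap.add_apply, LinearMap.add_apply, hxx, hyy, hyx, zero_add, add_zero, ← hκ] at hxy
    rw [add_comm]; exact hxy
  obtain ⟨e, f, h, he0, hf0⟩ := exists_hyp_through hF hB hn (x := x) (y := κ⁻¹ • y) hxx (by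
    rw [smul_left', smul_right', hyy, mul_zero, mul_zero]) (by rw [smul_right', inv_mul_cancel₀ h0])
  -- the subspace orthogonal to `x` and `y`
  let U : Submodule F V := LinearMap.ker (B x) ⊓ LinearMap.ker (B y)
  have hU : ∀ v, B (e 0) v = 0 → B (f 0) v = 0 → v ∈ U := by
    intro v h1 h2
    rw [he0] at h1
    rw [hf0, smul_left'] at h2
    exact ⟨h1, (mul_eq_zero.1 h2).resolve_left ((map_ne_zero σ).2 (inv_ne_zero h0))⟩
  obtain ⟨a, ha, b, hb, haU, hbU, hab⟩ := G.exists_pair hB (h.quad hB) U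
    (hU _ (h.ee _ _) (by rw [h.fe hB, if_neg (by decide)])) (hU _ (h.ee _ _) (by rw [h.fe hB, if_neg (by decide)]))
    (hU _ (by rw [h.ef, if_neg (by decide)]) (h.ff _ _)) (hU _ (by rw [h.ef, if_neg (by decide)]) (h.ff _ _))
  have hxa : B x a = 0 := haU.1
  have hya : B y a = 0 := haU.2
  have hxb : B x b = 0 := hbU.1
  have hyb : B y b = 0 := hbU.2
  have hax := hB.swap_zero hxa
  have hay := hB.swap_zero hya
  have hbx := hB.swap_zero hxb
  have hby := hB.swap_zero hyb
  have haa := G.iso a ha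
  have hbb := G.iso b hb
  have hba : B b a = 1 := by rw [hB.swap, hab, map_one]
  obtain ⟨t, ht, ht1⟩ := exists_norm_one hB
  have ht0 : t ≠ 0 := by rintro rfl; rw [zero_mul] at ht; exact zero_ne_one ht
  -- the vectors `u t`
  have hu : ∀ s : F, s * σ s = 1 → x + y + s • a + (-(κ * s)) • b ∈ H := by
    intro s hs
    have h1 : x + s • a ∈ H := G.add x hx _ (G.smul s a ha) (by rw [smul_right', hxa, mul_zero])
    have h2 : y + (-(κ * s)) • b ∈ H := G.add y hy _ (G.smul _ b hb) (by rw [smul_right', hyb, mul_zero])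
    have h3 := G.add _ h1 _ h2 (by
      simp only [map_add, LinearMap.add_apply, smul_left', smul_right', hxb, hay, hab, ← hκ]
      linear_combination -κ * hs)
    have h4 : x + y + s • a + (-(κ * s)) • b = x + s • a + (y + (-(κ * s)) • b) := by abel
    rw [h4]; exact h3
  have h1 := hu 1 (by rw [map_one, mul_one])
  have h2 := hu t ht
  set c : F := (1 - t)⁻¹ with hc
  have ht2 : 1 - t ≠ 0 := sub_ne_zero.2 (Ne.symm ht1)
  have h3 := G.add _ (G.smul c _ h2) _ (G.smul (1 - c) _ h1) (by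
    rw [smul_left', smul_right']
    have : B (x + y + t • a + (-(κ * t)) • b) (x + y + (1 : F) • a + (-(κ * 1)) • b) = 0 := by
      simp only [map_add, LinearMap.add_apply, smul_left', smul_right', hxx, hyy, hyx, hxa, hxb, hya, hyb, hax, hay,
        hbx, hby, haa, hbb, hab, hba, ← hκ, map_neg, map_mul]
      linear_combination (1 - σ t) * htr
    rw [this, mul_zero, mul_zero])
  have h4 : x + y = c • (x + y + t • a + (-(κ * t)) • b) + (1 - c) • (x + y + (1 : F) • a + (-(κ * 1)) • b) := by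
    have h5 : c * t + (1 - c) = 0 := by
      rw [hc]
      field_simp
      ring
    have h6 : c • (x + y + t • a + (-(κ * t)) • b) + (1 - c) • (x + y + (1 : F) • a + (-(κ * 1)) • b) =
        (x + y) + (c * t + (1 - c)) • a + (-κ * (c * t + (1 - c))) • b := by module
    rw [h6, h5, mul_zero, zero_smul, zero_smul, add_zero, add_zero]
  rw [h4]
  exact h3

end Cfsg.Agent.H449.U
end

-- part: H450/UF/Aniso
section
/-!
# Stabilisers of anisotropic points have rank at least four (helper450, for helper449, S2196)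

`four_le_aniso` : `q ≥ 3`, `K` the stabiliser of `x₀ ∈ X` in `SIso B`, `u` anisotropic and `K` leaves `⟨u⟩` invariant: then
`K` has at least four orbits on `X`.
-/

set_option autoImplicit false
set_option linter.unusedSectionVars false

namespace Cfsg.Agent.H450.UF

open Module Cfsg.Agent.H91.U
open Cfsg.Agent.ClassicalGeometry.HermWitt (norm_surj exists_unit_perp)

variable {F V : Type*} [Field F] [AddCommGroup V] [Module F V] {σ : F →+* F} {B : V →ₛₗ[σ] V →ₗ[F] F}

/-- an element of norm different from `0` and `1` -/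
theorem exists_norm_ne [Fintype F] {q : ℕ} (hF : Fintype.card F = q ^ 2) (hq : 3 ≤ q) (hs : ∀ x, σ x = x ^ q) :
    ∃ α : F, α ≠ 0 ∧ α * σ α ≠ 1 := by
  by_contra hcon
  push Not at hcon
  have h1 : ∀ x : Fˣ, x ^ (q + 1) = 1 := by
    intro x
    apply Units.ext
    rw [Units.val_pow_eq_pow_val, Units.val_one, pow_succ', ← hs]
    exact hcon x x.ne_zero
  have h2 := (FiniteField.forall_pow_eq_one_iff (K := F) (q + 1)).1 h1
  rw [hF] at h2
  have h3 := Nat.le_of_dvd (by omega) h2
  have h4 : q ^ 2 = q * q := sq q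
  have h5 : 3 * q ≤ q * q := Nat.mul_le_mul_right q hq
  omega

/-- vectors of given norm orthogonal to an anisotropic vector -/
theorem exists_norm_perp [Finite F] [FiniteDimensional F V] (hB : HForm B) (hn : 2 ≤ finrank F V) {u : V}
    (hu : B u u ≠ 0) {b : F} (hb : σ b = b) (hb0 : b ≠ 0) : ∃ w, B w u = 0 ∧ B w w = b := by
  have hX : ∀ x ∈ Submodule.span F {u}, (∀ y ∈ Submodule.span F {u}, B x y = 0) → x = 0 := by
    intro x hx h
    obtain ⟨c, rfl⟩ := Submodule.mem_span_singleton.1 hx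
    have h1 := h u (Submodule.mem_span_singleton_self u)
    rw [smul_left, mul_eq_zero, map_eq_zero] at h1
    rw [h1.resolve_right hu, zero_smul]
  have hne : Submodule.span F {u} ≠ ⊤ := by
    intro e
    have h1 : finrank F (Submodule.span F {u}) ≤ 1 := by
      refine (finrank_span_le_card (R := F) ({u} : Set V)).trans ?_
      simp
    rw [e, finrank_top] at h1
    omega
  obtain ⟨v, -, hv, hvv⟩ := exists_unit_perp σ B hB.ne_id hB.invol hB.symm hB.nd.1 _ hX hne
  obtain ⟨c, -, hc⟩ := norm_surj σ hB.ne_id hB.invol b hb hb0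
  refine ⟨c • v, ?_, ?_⟩
  · rw [smul_left, hv u (Submodule.mem_span_singleton_self u), mul_zero]
  · rw [smul_left, smul_right, hvv, mul_one, mul_comm, hc]

/-- **stabilisers of anisotropic points have rank at least four** -/
theorem four_le_aniso [Fintype F] [FiniteDimensional F V] {q : ℕ} (hF : Fintype.card F = q ^ 2) (hB : HForm B)
    (hn : 6 ≤ finrank F V) (hq : 3 ≤ q) {X : Type*} [Finite X] [MulAction (SIso B) X] (x₀ : X) {u : V} (hu : B u u ≠ 0)
    (h : ∀ g ∈ MulAction.stabilizer (SIso B) x₀, ∃ c : F, g • u = c • u) :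
    4 ≤ Nat.card (MulAction.orbitRel.Quotient (MulAction.stabilizer (SIso B) x₀) X) := by
  classical
  have hs : ∀ x, σ x = x ^ q := sig_eq hF hB.ne_id hB.invol
  set a := B u u with ha
  have hsa : σ a = a := self_fix hB u
  have hu0 : u ≠ 0 := by
    rintro rfl
    apply hu
    rw [ha, map_zero]
  obtain ⟨α, hα0, hα1⟩ := exists_norm_ne hF hq hs
  have hsα : σ (α * σ α) = α * σ α := by rw [map_mul, hB.invol, mul_comm]
  obtain ⟨w₁, hw₁, hw₁n⟩ := exists_norm_perp hB (by omega) hu hsa hu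
  obtain ⟨w₂, hw₂, hw₂n⟩ := exists_norm_perp hB (by omega) hu (b := a * (1 - α * σ α))
    (by rw [map_mul, map_sub, map_one, hsα, hsa]) (mul_ne_zero hu (sub_ne_zero.2 (Ne.symm hα1)))
  obtain ⟨w₃, hw₃0, hw₃n, hw₃⟩ := exists_iso_orth hB (fun _ : Unit => u) (by rw [Fintype.card_unit]; omega)
  have hw₃' : B w₃ u = 0 := hB.swap_zero (hw₃ ())
  -- the four vectors
  let al : Fin 4 → F := ![1, 0, α, 1]
  let w : Fin 4 → V := ![0, w₁, w₂, w₃]
  have hwu : ∀ i, B (w i) u = 0 := by
    intro i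
    fin_cases i
    · exact (congrArg (fun f : V →ₗ[F] F => f u) (map_zero B) : B 0 u = 0)
    · exact hw₁
    · exact hw₂
    · exact hw₃'
  have huw : ∀ i, B u (w i) = 0 := fun i => hB.swap_zero (hwu i)
  have hww : ∀ i, B (w i) (w i) = a * (1 - al i * σ (al i)) := by
    intro i
    fin_cases i
    · change B 0 (0 : V) = a * (1 - 1 * σ 1)
      rw [map_zero, map_one]
      ring
    · change B w₁ w₁ = a * (1 - 0 * σ 0)
      rw [hw₁n, zero_mul, sub_zero, mul_one]
    · exact hw₂n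
    · change B w₃ w₃ = a * (1 - 1 * σ 1)
      rw [hw₃n, map_one]
      ring
  let v : Fin 4 → V := fun i => al i • u + w i
  have hvv : ∀ i, B (v i) (v i) = a := by
    intro i
    change B (al i • u + w i) (al i • u + w i) = a
    simp only [map_add, LinearMap.add_apply, smul_left, smul_right, hwu, huw, hww, ← ha]
    ring
  have huv : ∀ i, B u (v i) = al i * a := by
    intro i
    change B u (al i • u + w i) = al i * a
    rw [map_add, smul_right, huw, add_zero]
  have hv0 : ∀ i, v i ≠ 0 := by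
    intro i e
    have := hvv i
    rw [e, map_zero] at this
    exact hu this.symm
  choose g hg using fun i : Fin 4 => exists_vec_map hB (by omega) hu0 (hv0 i) (ha.symm.trans (hvv i).symm)
  -- the invariant
  have hinv : ∀ (k : SIso B) (c c' : F) (i l : Fin 4), k • u = c' • u → k • v l = c • v i →
      al i * σ (al i) = al l * σ (al l) ∧ (w i = 0 → w l = 0) := by
    intro k c c' i l h1 h2
    have hc : c * σ c = 1 := by
      have h3 := B_smul k (v l) (v l)
      rw [h2, smul_left, smul_right, hvv, hvv] at h3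
      have h4 : (c * σ c) * a = 1 * a := by linear_combination h3
      exact mul_right_cancel₀ hu h4
    have hc' : c' * σ c' = 1 := by
      have h3 := B_smul k u u
      rw [h1, smul_left, smul_right, ← ha] at h3
      have h4 : (c' * σ c') * a = 1 * a := by linear_combination h3
      exact mul_right_cancel₀ hu h4
    have h5 : σ c' * c * al i = al l := by
      have h3 := B_smul k u (v l)
      rw [h1, h2, smul_left, smul_right, huv, huv] at h3
      have h4 : (σ c' * c * al i) * a = al l * a := by linear_combination h3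
      exact mul_right_cancel₀ hu h4
    refine ⟨?_, fun hw => ?_⟩
    · rw [← h5]
      simp only [map_mul, hB.invol]
      linear_combination (-(al i * σ (al i)) * (c * σ c)) * hc' - (al i * σ (al i)) * hc
    · -- `v i` is a multiple of `u`, so is `v l`
      have h6 : k • v l = (c * al i) • u := by
        rw [h2]
        change c • (al i • u + w i) = _
        rw [hw, add_zero, smul_smul]
      have hc'0 : c' ≠ 0 := by
        rintro rfl
        rw [zero_mul] at hc'
        exact zero_ne_one hc'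
      have h7 : k • v l = k • ((c * al i * c'⁻¹) • u) := by
        have h8 : k • ((c * al i * c'⁻¹) • u) = (c * al i * c'⁻¹) • (k • u) := map_smul k.1 _ u
        rw [h8, h1, smul_smul, mul_assoc, inv_mul_cancel₀ hc'0, mul_one, h6]
      have h9 : v l = (c * al i * c'⁻¹) • u := k.1.injective h7
      have h10 : w l = (c * al i * c'⁻¹ - al l) • u := by
        rw [sub_smul, ← h9]
        change w l = al l • u + w l - al l • u
        rw [add_sub_cancel_left]
      have h11 := hwu l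
      rw [h10, smul_left, mul_eq_zero, map_eq_zero] at h11
      rw [h10, h11.resolve_right hu, zero_smul]
  have : Finite (MulAction.orbitRel.Quotient (MulAction.stabilizer (SIso B) x₀) X) := Quotient.finite _
  let f : Fin 4 → MulAction.orbitRel.Quotient (MulAction.stabilizer (SIso B) x₀) X := fun i => Quotient.mk'' (g i • x₀)
  have hf : Function.Injective f := by
    intro i l e
    have h1 : g i • x₀ ∈ MulAction.orbit (MulAction.stabilizer (SIso B) x₀) (g l • x₀) := Quotient.exact' e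
    obtain ⟨⟨k, hk⟩, h2⟩ := h1
    have h4 : k • g l • x₀ = g i • x₀ := h2
    have h5 : (g i)⁻¹ * (k * g l) ∈ MulAction.stabilizer (SIso B) x₀ := by
      rw [MulAction.mem_stabilizer_iff, mul_smul, mul_smul, h4, inv_smul_smul]
    obtain ⟨c, hc⟩ := h _ h5
    obtain ⟨c', hc'⟩ := h k hk
    have h6 : k • v l = c • v i := by
      have h7 : g i • ((g i)⁻¹ * (k * g l)) • u = g i • (c • u) := by rw [hc]
      rw [mul_smul, smul_inv_smul, mul_smul, hg l] at h7
      rw [h7]
      have h8 : g i • (c • u) = c • (g i • u) := map_smul (g i).1 c u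
      rw [h8, hg i]
    have h7 : k⁻¹ • v i = c⁻¹ • v l := by
      have hc0 : c ≠ 0 := by
        rintro rfl
        rw [zero_smul] at h6
        exact hv0 l ((smul_eq_zero_iff_eq k).1 h6)
      have h8 : k⁻¹ • (k • v l) = k⁻¹ • (c • v i) := by rw [h6]
      rw [inv_smul_smul] at h8
      have h9 : k⁻¹ • (c • v i) = c • (k⁻¹ • v i) := map_smul k⁻¹.1 c (v i)
      rw [h8, h9, smul_smul, inv_mul_cancel₀ hc0, one_smul]
    have h8 : k⁻¹ • u = c'⁻¹ • u := by
      have hc0 : c' ≠ 0 := by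
        rintro rfl
        rw [zero_smul] at hc'
        exact hu0 ((smul_eq_zero_iff_eq k).1 hc')
      have h9 : k⁻¹ • (k • u) = k⁻¹ • (c' • u) := by rw [hc']
      rw [inv_smul_smul] at h9
      have h10 : k⁻¹ • (c' • u) = c' • (k⁻¹ • u) := map_smul k⁻¹.1 c' u
      rw [h10] at h9
      conv_rhs => rw [h9]
      rw [smul_smul, inv_mul_cancel₀ hc0, one_smul]
    obtain ⟨h9, h10⟩ := hinv k c c' i l hc' h6
    obtain ⟨-, h11⟩ := hinv k⁻¹ c⁻¹ c'⁻¹ l i h8 h7
    have hw₁0 : w₁ ≠ 0 := by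
      rintro rfl
      rw [map_zero] at hw₁n
      exact hu hw₁n.symm
    have h1σ : (1 : F) * σ 1 = 1 := by rw [map_one, mul_one]
    have hασ : α * σ α ≠ 0 := mul_ne_zero hα0 (sig_ne_zero hα0)
    fin_cases i <;> fin_cases l
    · rfl
    · exfalso
      change (1 : F) * σ 1 = 0 * σ 0 at h9
      rw [h1σ, zero_mul] at h9
      exact one_ne_zero h9
    · exfalso
      change (1 : F) * σ 1 = α * σ α at h9
      rw [h1σ] at h9
      exact hα1 h9.symm
    · exact absurd (h10 rfl) hw₃0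
    · exfalso
      change (0 : F) * σ 0 = 1 * σ 1 at h9
      rw [h1σ, zero_mul] at h9
      exact zero_ne_one h9
    · rfl
    · exfalso
      change (0 : F) * σ 0 = α * σ α at h9
      rw [zero_mul] at h9
      exact hασ h9.symm
    · exfalso
      change (0 : F) * σ 0 = 1 * σ 1 at h9
      rw [h1σ, zero_mul] at h9
      exact zero_ne_one h9
    · exfalso
      change α * σ α = 1 * σ 1 at h9
      rw [h1σ] at h9
      exact hα1 h9
    · exfalso
      change α * σ α = 0 * σ 0 at h9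
      rw [zero_mul] at h9
      exact hασ h9
    · rfl
    · exfalso
      change α * σ α = 1 * σ 1 at h9
      rw [h1σ] at h9
      exact hα1 h9
    · exact absurd (h11 rfl) hw₃0
    · exfalso
      change (1 : F) * σ 1 = 0 * σ 0 at h9
      rw [h1σ, zero_mul] at h9
      exact one_ne_zero h9
    · exfalso
      change (1 : F) * σ 1 = α * σ α at h9
      rw [h1σ] at h9
      exact hα1 h9.symm
    · rfl
  have h1 := Nat.card_le_card_of_injective f hf
  rwa [Nat.card_eq_fintype_card (α := Fin 4), Fintype.card_fin] at h1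

end Cfsg.Agent.H450.UF
end

-- part: H449/U/GeoHyp2
section
/-!
# Geometric hyperplanes of Hermitian polar spaces, part two (helper449, for S2196)

* `GH.exists_perp` : a geometric hyperplane is the set of isotropic vectors of `u^⊥`;
* `hyp_false` : the case `b = q²`.
-/

set_option autoImplicit false
set_option linter.unusedSectionVars false

namespace Cfsg.Agent.H449.U

open Module Cfsg.Agent.H91.U
open Cfsg.Agent.H450.UF (self_fix exists_dual exists_iso exists_trace exists_iso_orth_not_mem finrank_perp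
  four_le_aniso)

variable {F V : Type*} [Field F] [Fintype F] [AddCommGroup V] [Module F V] [FiniteDimensional F V]
  {σ : F →+* F} {B : V →ₛₗ[σ] V →ₗ[F] F}

variable {H : Set V}

/-- moves -/
theorem GH.move (G : GH B H) {q : ℕ} (hF : Fintype.card F = q ^ 2) (hB : HForm B) (hn : 6 ≤ finrank F V) {v w d : V}
    (hd : d ∈ H) (e : w = v + d) (hv : B v v = 0) (hw : B w w = 0) : v ∈ H ↔ w ∈ H := by
  constructor
  · intro h
    rw [e] at hw ⊢
    exact G.addI hF hB hn h hd hw
  · intro h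
    have e1 : v = w + (-1 : F) • d := by rw [e, neg_one_smul]; abel
    rw [e1] at hv ⊢
    exact G.addI hF hB hn h (G.smul _ d hd) hv

/-- hyperbolic quadruples in `H` -/
structure GQ (B : V →ₛₗ[σ] V →ₗ[F] F) (H : Set V) (x₁ y₁ x₂ y₂ : V) : Prop where
  G : GH B H
  Q : Quad B x₁ x₂ y₁ y₂
  hx₁ : x₁ ∈ H
  hx₂ : x₂ ∈ H
  hy₁ : y₁ ∈ H
  hy₂ : y₂ ∈ H

theorem GQ.swap (hB : HForm B) {x₁ y₁ x₂ y₂ : V} (D : GQ B H x₁ y₁ x₂ y₂) : GQ B H y₁ x₁ x₂ y₂ where
  G := D.G
  Q := ⟨D.Q.b11, D.Q.a22, hB.swap_zero D.Q.c21, D.Q.a11, D.Q.b22, D.Q.c12, D.Q.ba11 hB, D.Q.c22, D.Q.b12,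
    hB.swap_zero D.Q.a12⟩
  hx₁ := D.hy₁
  hx₂ := D.hx₂
  hy₁ := D.hx₁
  hy₂ := D.hy₂

/-- the general vector -/
def vq (x₁ y₁ x₂ y₂ : V) (α β γ δ : F) (r : V) : V := α • x₁ + β • y₁ + γ • x₂ + δ • y₂ + r

/-- vectors orthogonal to the quadruple -/
def PQ (B : V →ₛₗ[σ] V →ₗ[F] F) (x₁ y₁ x₂ y₂ : V) (r : V) : Prop := B x₁ r = 0 ∧ B y₁ r = 0 ∧ B x₂ r = 0 ∧ B y₂ r = 0

theorem B_vq (hB : HForm B) {x₁ y₁ x₂ y₂ : V} (Q : Quad B x₁ x₂ y₁ y₂) {r r' : V} (hr : PQ B x₁ y₁ x₂ y₂ r)
    (hr' : PQ B x₁ y₁ x₂ y₂ r') (α β γ δ α' β' γ' δ' : F) :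
    B (vq x₁ y₁ x₂ y₂ α β γ δ r) (vq x₁ y₁ x₂ y₂ α' β' γ' δ' r') =
      σ α * β' + σ β * α' + σ γ * δ' + σ δ * γ' + B r r' := by
  obtain ⟨h1, h2, h3, h4⟩ := hr
  obtain ⟨h1', h2', h3', h4'⟩ := hr'
  unfold vq
  simp only [map_add, LinearMap.add_apply, smul_left', smul_right', h1', h2', h3', h4', hB.swap_zero h1,
    hB.swap_zero h2, hB.swap_zero h3, hB.swap_zero h4, Q.a11, Q.a22, Q.a12, Q.b11, Q.b22, Q.b12, Q.c11, Q.c22, Q.c12,
    Q.c21, Q.ba11 hB, Q.ba22 hB, hB.swap_zero Q.a12, hB.swap_zero Q.b12, hB.swap_zero Q.c12, hB.swap_zero Q.c21]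
  ring

theorem GQ.move_core {q : ℕ} (hF : Fintype.card F = q ^ 2) (hB : HForm B) (hn : 6 ≤ finrank F V) {x₁ y₁ x₂ y₂ : V}
    (D : GQ B H x₁ y₁ x₂ y₂) {r : V} (hr : PQ B x₁ y₁ x₂ y₂ r) {α β γ δ c : F} (hβ : β ≠ 0)
    (hN : B (vq x₁ y₁ x₂ y₂ α β γ δ r) (vq x₁ y₁ x₂ y₂ α β γ δ r) = 0)
    (hc : c + σ c + B r r = 0) : vq x₁ y₁ x₂ y₂ α β γ δ r ∈ H ↔ vq x₁ y₁ x₂ y₂ 0 0 1 c r ∈ H := by
  have hσβ : σ β ≠ 0 := (map_ne_zero σ).2 hβ
  obtain ⟨t, ht⟩ := exists_trace hB (s := -(δ + σ δ + B r r)) (by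
    rw [map_neg, map_add, map_add, hB.invol, self_fix hB]
    ring)
  set α₁ := t / σ β with hα₁
  have h1 : σ β * α₁ = t := by rw [hα₁]; field_simp
  have h2 : σ α₁ * β = σ t := by rw [← h1, map_mul, hB.invol]; ring
  have G := D.G
  refine (G.move hF hB hn (d := (α₁ - α) • x₁ + (1 - γ) • x₂) (w := vq x₁ y₁ x₂ y₂ α₁ β 1 δ r) ?_ ?_ hN ?_).trans
    ((G.move hF hB hn (d := (-β) • y₁ + (c - δ) • y₂) (w := vq x₁ y₁ x₂ y₂ α₁ 0 1 c r) ?_ ?_ ?_ ?_).trans
      (G.move hF hB hn (d := (-α₁) • x₁) (w := vq x₁ y₁ x₂ y₂ 0 0 1 c r) ?_ ?_ ?_ ?_))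
  · exact G.add _ (G.smul _ _ D.hx₁) _ (G.smul _ _ D.hx₂) (by rw [smul_left', smul_right', D.Q.a12, mul_zero, mul_zero])
  · unfold vq; module
  · rw [B_vq hB D.Q hr hr, h1, h2, map_one]
    linear_combination ht
  · exact G.add _ (G.smul _ _ D.hy₁) _ (G.smul _ _ D.hy₂) (by rw [smul_left', smul_right', D.Q.b12, mul_zero, mul_zero])
  · unfold vq; module
  · rw [B_vq hB D.Q hr hr, h1, h2, map_one]
    linear_combination ht
  · rw [B_vq hB D.Q hr hr, map_one, map_zero]
    linear_combination hc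
  · exact G.smul _ _ D.hx₁
  · unfold vq; module
  · rw [B_vq hB D.Q hr hr, map_one, map_zero]
    linear_combination hc
  · rw [B_vq hB D.Q hr hr, map_one, map_zero]
    linear_combination hc

theorem GQ.move_all {q : ℕ} (hF : Fintype.card F = q ^ 2) (hB : HForm B) (hn : 6 ≤ finrank F V) {x₁ y₁ x₂ y₂ : V}
    (D : GQ B H x₁ y₁ x₂ y₂) {r : V} (hr : PQ B x₁ y₁ x₂ y₂ r) {α β γ δ c : F}
    (hN : B (vq x₁ y₁ x₂ y₂ α β γ δ r) (vq x₁ y₁ x₂ y₂ α β γ δ r) = 0)
    (hc : c + σ c + B r r = 0) : vq x₁ y₁ x₂ y₂ α β γ δ r ∈ H ↔ vq x₁ y₁ x₂ y₂ 0 0 1 c r ∈ H := by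
  by_cases hβ : β = 0
  · subst hβ
    rw [B_vq hB D.Q hr hr, map_zero, mul_zero, zero_mul, add_zero, zero_add] at hN
    have hr' : PQ B y₁ x₁ x₂ y₂ r := ⟨hr.2.1, hr.1, hr.2.2.1, hr.2.2.2⟩
    have e1 : vq x₁ y₁ x₂ y₂ 1 0 γ δ r = vq y₁ x₁ x₂ y₂ 0 1 γ δ r := by unfold vq; module
    have e2 : vq x₁ y₁ x₂ y₂ 0 0 1 c r = vq y₁ x₁ x₂ y₂ 0 0 1 c r := by unfold vq; module
    refine (D.G.move hF hB hn (d := (1 - α) • x₁) (w := vq x₁ y₁ x₂ y₂ 1 0 γ δ r) (D.G.smul _ _ D.hx₁) ?_ ?_ ?_).trans ?_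
    · unfold vq; module
    · rw [B_vq hB D.Q hr hr, map_zero]
      linear_combination hN
    · rw [B_vq hB D.Q hr hr, map_zero]
      linear_combination hN
    · rw [e1, e2]
      refine (D.swap hB).move_core hF hB hn hr' one_ne_zero ?_ hc
      rw [← e1, B_vq hB D.Q hr hr, map_zero]
      linear_combination hN
  · exact D.move_core hF hB hn hr hβ hN hc

theorem GQ.move_to {q : ℕ} (hF : Fintype.card F = q ^ 2) (hB : HForm B) (hn : 6 ≤ finrank F V) {x₁ y₁ x₂ y₂ : V}
    (D : GQ B H x₁ y₁ x₂ y₂) {r : V} (hr : PQ B x₁ y₁ x₂ y₂ r) {α β γ δ α' β' γ' δ' : F}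
    (h : vq x₁ y₁ x₂ y₂ α β γ δ r ∈ H)
    (hN : B (vq x₁ y₁ x₂ y₂ α' β' γ' δ' r) (vq x₁ y₁ x₂ y₂ α' β' γ' δ' r) = 0) : vq x₁ y₁ x₂ y₂ α' β' γ' δ' r ∈ H := by
  obtain ⟨c, hc⟩ := exists_trace hB (s := -B r r) (by rw [map_neg, self_fix hB])
  have hc' : c + σ c + B r r = 0 := by rw [hc]; ring
  rw [D.move_all hF hB hn hr hN hc']
  exact (D.move_all hF hB hn hr (D.G.iso _ h) hc').1 h

/-- **a geometric hyperplane is the set of isotropic vectors of a subspace.** -/
theorem GQ.exists_sub {q : ℕ} (hF : Fintype.card F = q ^ 2) (hB : HForm B) (hn : 6 ≤ finrank F V) {x₁ y₁ x₂ y₂ : V}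
    (D : GQ B H x₁ y₁ x₂ y₂) : ∃ X : Submodule F V, ∀ v, B v v = 0 → (v ∈ H ↔ v ∈ X) := by
  let R : Submodule F V :=
    { carrier := {r | PQ B x₁ y₁ x₂ y₂ r ∧ ∃ α β γ δ : F, vq x₁ y₁ x₂ y₂ α β γ δ r ∈ H}
      zero_mem' := ⟨⟨map_zero _, map_zero _, map_zero _, map_zero _⟩, 0, 0, 0, 0, by
        unfold vq
        simp only [zero_smul, add_zero]
        exact D.G.zero⟩
      smul_mem' := by
        rintro c r ⟨⟨h1, h2, h3, h4⟩, α, β, γ, δ, h⟩
        refine ⟨⟨by rw [smul_right', h1, mul_zero], by rw [smul_right', h2, mul_zero],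
          by rw [smul_right', h3, mul_zero], by rw [smul_right', h4, mul_zero]⟩, c * α, c * β, c * γ, c * δ, ?_⟩
        have e : vq x₁ y₁ x₂ y₂ (c * α) (c * β) (c * γ) (c * δ) (c • r) = c • vq x₁ y₁ x₂ y₂ α β γ δ r := by
          unfold vq; module
        rw [e]
        exact D.G.smul c _ h
      add_mem' := by
        rintro r r' ⟨hr, α, β, γ, δ, h⟩ ⟨hr', α', β', γ', δ', h'⟩
        refine ⟨⟨by rw [map_add, hr.1, hr'.1, add_zero], by rw [map_add, hr.2.1, hr'.2.1, add_zero],
          by rw [map_add, hr.2.2.1, hr'.2.2.1, add_zero], by rw [map_add, hr.2.2.2, hr'.2.2.2, add_zero]⟩, ?_⟩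
        obtain ⟨a, ha⟩ := exists_trace hB (s := -B r r) (by rw [map_neg, self_fix hB])
        obtain ⟨g, hg⟩ := exists_trace hB (s := -B r' r') (by rw [map_neg, self_fix hB])
        have m1 : vq x₁ y₁ x₂ y₂ 1 a 0 0 r ∈ H := D.move_to hF hB hn hr h (by
          rw [B_vq hB D.Q hr hr, map_one, map_zero]
          linear_combination ha)
        have m2 : vq x₁ y₁ x₂ y₂ 0 (-B r r') 1 g r' ∈ H := D.move_to hF hB hn hr' h' (by
          rw [B_vq hB D.Q hr' hr', map_one, map_zero]
          linear_combination hg)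
        refine ⟨1, a + -B r r', 1, g, ?_⟩
        have e : vq x₁ y₁ x₂ y₂ 1 (a + -B r r') 1 g (r + r') =
            vq x₁ y₁ x₂ y₂ 1 a 0 0 r + vq x₁ y₁ x₂ y₂ 0 (-B r r') 1 g r' := by
          unfold vq; module
        rw [e]
        refine D.G.add _ m1 _ m2 ?_
        rw [B_vq hB D.Q hr hr', map_one, map_zero]
        ring }
  let rm : V →ₗ[F] V := LinearMap.id - ((B y₁).smulRight x₁ + (B x₁).smulRight y₁ + (B y₂).smulRight x₂ +
    (B x₂).smulRight y₂)
  have hrm : ∀ v, rm v = v - (B y₁ v • x₁ + B x₁ v • y₁ + B y₂ v • x₂ + B x₂ v • y₂) := fun v => rfl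
  have hv : ∀ v, v = vq x₁ y₁ x₂ y₂ (B y₁ v) (B x₁ v) (B y₂ v) (B x₂ v) (rm v) := by
    intro v
    rw [hrm]
    unfold vq
    abel
  have hPQ : ∀ v, PQ B x₁ y₁ x₂ y₂ (rm v) := by
    intro v
    have Q := D.Q
    refine ⟨?_, ?_, ?_, ?_⟩ <;> rw [hrm] <;>
    simp only [map_sub, map_add, smul_right', Q.a11, Q.a22, Q.a12, Q.b11, Q.b22, Q.b12, Q.c11, Q.c22, Q.c12,
      Q.c21, Q.ba11 hB, Q.ba22 hB, hB.swap_zero Q.a12, hB.swap_zero Q.b12, hB.swap_zero Q.c12, hB.swap_zero Q.c21] <;>
    ring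
  refine ⟨R.comap rm, fun v hvv => ?_⟩
  rw [Submodule.mem_comap]
  constructor
  · intro h
    refine ⟨hPQ v, B y₁ v, B x₁ v, B y₂ v, B x₂ v, ?_⟩
    rw [← hv]
    exact h
  · rintro ⟨hr, α, β, γ, δ, h⟩
    rw [hv v]
    refine D.move_to hF hB hn hr h ?_
    rw [← hv]
    exact hvv

theorem GH.exists_sub (G : GH B H) {q : ℕ} (hF : Fintype.card F = q ^ 2) (hB : HForm B) (hn : 6 ≤ finrank F V) :
    ∃ X : Submodule F V, ∀ v, B v v = 0 → (v ∈ H ↔ v ∈ X) := by
  obtain ⟨M, -, hTI, hM⟩ := Cfsg.Agent.H450.UF.exists_ti_le hB Cfsg.Agent.H450.UF.ti_bot (k := 3) (by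
    rw [finrank_bot]; omega) (by omega)
  obtain ⟨u, hu, -⟩ := Cfsg.Agent.H450.UF.exists_frame_of_ti hTI hM
  obtain ⟨f, h1, h2⟩ := Cfsg.Agent.H450.UF.exists_dual_frame hF hB hu
  have h : Hyp B u f := ⟨hu.ti, h2, h1⟩
  obtain ⟨x₁, hx₁, y₁, hy₁, -, -, h11⟩ := G.exists_pair hB (h.quad hB) ⊤ trivial trivial trivial trivial
  obtain ⟨e, f, h, he0, hf0⟩ := exists_hyp_through hF hB hn (G.iso _ hx₁) (G.iso _ hy₁) h11
  let U : Submodule F V := LinearMap.ker (B x₁) ⊓ LinearMap.ker (B y₁)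
  have hU : ∀ v, B (e 0) v = 0 → B (f 0) v = 0 → v ∈ U := by
    intro v h1 h2
    rw [he0] at h1
    rw [hf0] at h2
    exact ⟨h1, h2⟩
  obtain ⟨x₂, hx₂, y₂, hy₂, hxU, hyU, h22⟩ := G.exists_pair hB (h.quad hB) U
    (hU _ (h.ee _ _) (by rw [h.fe hB, if_neg (by decide)])) (hU _ (h.ee _ _) (by rw [h.fe hB, if_neg (by decide)]))
    (hU _ (by rw [h.ef, if_neg (by decide)]) (h.ff _ _)) (hU _ (by rw [h.ef, if_neg (by decide)]) (h.ff _ _))
  exact GQ.exists_sub hF hB hn ⟨G, ⟨G.iso _ hx₁, G.iso _ hx₂, hxU.1, G.iso _ hy₁, G.iso _ hy₂, hyU.2, h11, h22, hyU.1,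
    hB.swap_zero hxU.2⟩, hx₁, hx₂, hy₁, hy₂⟩

/-- separation of hyperplanes by isotropic vectors -/
theorem exists_iso_sep (hB : HForm B) (hn : 6 ≤ finrank F V) {v u : V} (hli : LinearIndependent F ![v, u]) :
    ∃ y, B y y = 0 ∧ B v y = 0 ∧ B u y ≠ 0 := by
  have hfV : Finite V := Module.finite_of_finite F
  have : Fintype V := Fintype.ofFinite V
  have hr : Set.range ![v, u] = {v, u} := by
    rw [Matrix.range_cons, Matrix.range_cons, Matrix.range_empty, Set.union_empty, Set.singleton_union]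
  obtain ⟨z, hz, hzz, hvz⟩ := exists_iso_orth_not_mem hB (fun _ : Unit => v) (Submodule.span F {v, u}) (by
    rw [Fintype.card_unit, finrank_span_pair hli]; omega)
  have hvz := hvz ()
  by_cases huz : B u z = 0
  · have hli3 : LinearIndependent F ![z, v, u] := by
      rw [Matrix.vecCons, linearIndependent_finCons, hr]
      exact ⟨hli, hz⟩
    obtain ⟨x, hx⟩ := exists_dual hB hli3 ![1, 0, 1]
    have hxz : B x z = 1 := hx 0
    have hxv : B x v = 0 := hx 1
    have hxu : B x u = 1 := hx 2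
    obtain ⟨c, hc⟩ := exists_iso hB hzz (x := x) (by rw [hB.swap, hxz, map_one])
    refine ⟨_, hc, ?_, ?_⟩
    · rw [map_add, smul_right', hvz, mul_zero, add_zero, hB.swap_zero hxv]
    · rw [map_add, smul_right', huz, mul_zero, add_zero, hB.swap u, hxu, map_one]
      exact one_ne_zero
  · exact ⟨z, hzz, hvz, huz⟩

theorem GH.exists_perp (G : GH B H) {q : ℕ} (hF : Fintype.card F = q ^ 2) (hB : HForm B) (hn : 6 ≤ finrank F V)
    {v₀ : V} (hv₀ : B v₀ v₀ = 0) (hv₀H : v₀ ∉ H) : ∃ u : V, u ≠ 0 ∧ ∀ v, B v v = 0 → (v ∈ H ↔ B u v = 0) := by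
  have hfV : Finite V := Module.finite_of_finite F
  have : Fintype V := Fintype.ofFinite V
  obtain ⟨X, hX⟩ := G.exists_sub hF hB hn
  have hX' : finrank F X < finrank F V := by
    refine Submodule.finrank_lt fun e => hv₀H ((hX v₀ hv₀).2 ?_)
    rw [e]; trivial
  have h1 := finrank_perp hB X
  obtain ⟨u, hu, hu0⟩ : ∃ u ∈ perp B X, u ≠ 0 := by
    refine Submodule.exists_mem_ne_zero_of_ne_bot ?_
    intro e
    rw [e, finrank_bot] at h1
    omega
  have hu' : ∀ z ∈ X, B u z = 0 := fun z hz => hu z hz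
  have key : ∀ v, B v v = 0 → v ≠ 0 → B u v = 0 → LinearIndependent F ![v, u] → v ∈ X := by
    intro v hvv hv0 huv hli
    obtain ⟨y, hyy, hvy, huy⟩ := exists_iso_sep hB hn hli
    have hli' : LinearIndependent F ![v, y] := by
      rw [LinearIndependent.pair_iff' hv0]
      rintro a rfl
      rw [smul_right', huv, mul_zero] at huy
      exact huy rfl
    obtain ⟨a, b, hab, h⟩ := G.meet v y hli' hvv hyy hvy
    have h2 := hu' _ ((hX _ (G.iso _ h)).1 h)
    rw [map_add, smul_right', smul_right', huv, mul_zero, zero_add] at h2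
    have hb : b = 0 := (mul_eq_zero.1 h2).resolve_right huy
    rw [hb, zero_smul, add_zero] at h
    have ha : a ≠ 0 := hab.resolve_right (not_not.2 hb)
    exact (hX _ hvv).1 (G.smul_mem ha h)
  refine ⟨u, hu0, fun v hvv => ⟨fun h => hu' v ((hX v hvv).1 h), fun huv => (hX v hvv).2 ?_⟩⟩
  by_cases hv0 : v = 0
  · rw [hv0]; exact X.zero_mem
  by_cases hli : LinearIndependent F ![v, u]
  · exact key v hvv hv0 huv hli
  · -- `v` is a multiple of `u`
    rw [LinearIndependent.pair_iff' hv0] at hli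
    push Not at hli
    obtain ⟨a, ha⟩ := hli
    have ha0 : a ≠ 0 := by rintro rfl; exact hu0 (by rw [← ha, zero_smul])
    obtain ⟨z, hz, hzz, huz⟩ := exists_iso_orth_not_mem hB (fun _ : Unit => u) (Submodule.span F {u}) (by
      rw [Fintype.card_unit, finrank_span_singleton hu0]; omega)
    have huz := huz ()
    have hvz : B v z = 0 := by
      have : B u z = σ a * B v z := by rw [← ha, smul_left']
      rw [this] at huz
      exact (mul_eq_zero.1 huz).resolve_left ((map_ne_zero σ).2 ha0)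
    have hli1 : ∀ w : V, w ∉ Submodule.span F {u} → LinearIndependent F ![w, u] := by
      intro w hw
      refine li_swap ?_
      rw [LinearIndependent.pair_iff' hu0]
      rintro b rfl
      exact hw (Submodule.smul_mem _ _ (Submodule.mem_span_singleton_self u))
    have hz0 : z ≠ 0 := by rintro rfl; exact hz (Submodule.zero_mem _)
    have h1 : z ∈ X := key z hzz hz0 huz (hli1 z hz)
    have hvu : v ∈ Submodule.span F {u} := by
      rw [Submodule.mem_span_singleton]
      exact ⟨a⁻¹, by rw [← ha, smul_smul, inv_mul_cancel₀ ha0, one_smul]⟩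
    have hzv : z + v ∉ Submodule.span F {u} := fun h => hz ((Submodule.add_mem_iff_left _ hvu).1 h)
    have hzv0 : z + v ≠ 0 := by intro e; rw [e] at hzv; exact hzv (Submodule.zero_mem _)
    have h2 : z + v ∈ X := key (z + v) (by
      rw [map_add, map_add, LinearMap.add_apply, LinearMap.add_apply, hzz, hvv, hvz, hB.swap_zero hvz]
      simp) hzv0 (by rw [map_add, huz, huv, add_zero]) (hli1 _ hzv)
    exact (Submodule.add_mem_iff_right _ h1).1 h2

/-! ### the case `b = q²` -/

/-- the complement of `O` is a geometric hyperplane -/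
theorem ZB.gh (hB : HForm B) {K : Subgroup (SIso B)} {O : Set V} (hO : Orb K O) (hZ : ZB B O (Fintype.card F)) :
    GH B {v | B v v = 0 ∧ v ∉ O} where
  iso v h := h.1
  zero := ⟨by rw [map_zero], hO.zero⟩
  smul c v h := by
    refine ⟨by rw [smul_left', smul_right', h.1, mul_zero, mul_zero], ?_⟩
    by_cases hc : c = 0
    · rw [hc, zero_smul]; exact hO.zero
    · rw [hO.smul c hc]; exact h.2
  add x hx y hy hxy := by
    have hfV : Finite V := Module.finite_of_finite F
    have : Fintype V := Fintype.ofFinite V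
    refine ⟨?_, ?_⟩
    · rw [map_add, map_add, LinearMap.add_apply, LinearMap.add_apply, hx.1, hy.1, hxy, hB.swap_zero hxy]
      simp
    by_cases hx0 : x = 0
    · rw [hx0, zero_add]; exact hy.2
    by_cases hli : LinearIndependent F ![x, y]
    · set L := Submodule.span F {x, y} with hL
      have hL2 : finrank F L = 2 := finrank_span_pair hli
      have hxL : x ∈ L := Submodule.subset_span (Or.inl rfl)
      have hyL : y ∈ L := Submodule.subset_span (Or.inr rfl)
      rcases hZ.line L hL2 (ti_span_pair hB hx.1 hy.1 hxy) with h | h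
      · intro hxyO
        have := nn_pos (L := L) (L.add_mem hxL hyL) hxyO
        omega
      · exfalso
        have h1 : (((L : Set V)) \ ((L : Set V) ∩ O)).ncard = Fintype.card F := by
          rw [Set.ncard_sdiff Set.inter_subset_left (Set.toFinite _), card_submodule, hL2]
          change _ - nn O L = _
          rw [h]
          obtain ⟨m, hm⟩ : ∃ m, Fintype.card F = m + 1 := ⟨Fintype.card F - 1, by
            have := Fintype.card_pos (α := F); omega⟩
          rw [hm, Nat.add_sub_cancel]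
          have : (m + 1) ^ 2 = (m + 1) + (m + 1) * m := by ring
          omega
        have h2 : ((Submodule.span F {x} : Submodule F V) : Set V) = ((L : Set V)) \ ((L : Set V) ∩ O) := by
          refine Set.eq_of_subset_of_ncard_le ?_ ?_ (Set.toFinite _)
          · intro w hw
            obtain ⟨c, rfl⟩ := Submodule.mem_span_singleton.1 hw
            refine ⟨L.smul_mem _ hxL, fun h3 => ?_⟩
            by_cases hc : c = 0
            · rw [hc, zero_smul] at h3; exact hO.zero h3.2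
            · exact hx.2 ((hO.smul c hc x).1 h3.2)
          · rw [h1, card_submodule, finrank_span_singleton hx0, pow_one]
        have h3 : y ∈ ((Submodule.span F {x} : Submodule F V) : Set V) := by
          rw [h2]
          exact ⟨hyL, fun h4 => hy.2 h4.2⟩
        obtain ⟨c, hc⟩ := Submodule.mem_span_singleton.1 h3
        exact (LinearIndependent.pair_iff' hx0).1 hli c hc
    · rw [LinearIndependent.pair_iff' hx0] at hli
      push Not at hli
      obtain ⟨a, ha⟩ := hli
      rw [← ha]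
      have e : x + a • x = (1 + a) • x := by module
      rw [e]
      by_cases hc : 1 + a = 0
      · rw [hc, zero_smul]; exact hO.zero
      · rw [hO.smul _ hc]; exact hx.2
  meet x y hli hx hy hxy := by
    have hfV : Finite V := Module.finite_of_finite F
    have : Fintype V := Fintype.ofFinite V
    set L := Submodule.span F {x, y} with hL
    have hL2 : finrank F L = 2 := finrank_span_pair hli
    have h1 : ∃ v ∈ L, v ≠ 0 ∧ v ∉ O := by
      by_contra hcon
      push Not at hcon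
      have h2 := nn_eq_of_subset hL2 hcon hO.zero
      have h3 : 1 < Fintype.card F := Fintype.one_lt_card
      obtain ⟨m, hm⟩ : ∃ m, Fintype.card F = m + 1 := ⟨Fintype.card F - 1, by omega⟩
      rcases hZ.line L hL2 (ti_span_pair hB hx hy hxy) with h | h
      · rw [h, hm] at h2
        have : (m + 1) ^ 2 = 1 + (m * m + 2 * m) := by ring
        have : 0 < m := by omega
        omega
      · rw [h, hm, Nat.add_sub_cancel] at h2
        have e1 : (m + 1) ^ 2 = 1 + (m + (m + 1) * m) := by ring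
        have : 0 < m := by omega
        omega
    obtain ⟨v, hv, hv0, hvO⟩ := h1
    obtain ⟨a, b, rfl⟩ := Submodule.mem_span_pair.1 hv
    refine ⟨a, b, ?_, ?_, hvO⟩
    · by_contra hcon
      push Not at hcon
      apply hv0
      rw [hcon.1, hcon.2, zero_smul, zero_smul, add_zero]
    · exact ti_span_pair hB hx hy hxy _ hv _ hv

/-- **the case `b = q²` does not occur** -/
theorem hyp_false {q : ℕ} (hF : Fintype.card F = q ^ 2) (hq : 3 ≤ q) (hB : HForm B) (hn : 6 ≤ finrank F V)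
    {X : Type*} [Finite X] [MulAction (SIso B) X] (x₀ : X)
    (h3 : Nat.card (MulAction.orbitRel.Quotient (MulAction.stabilizer (SIso B) x₀) X) ≤ 3) {O : Set V}
    (hO : Orb (MulAction.stabilizer (SIso B) x₀) O) (hZ : ZB B O (Fintype.card F)) : False := by
  obtain ⟨v₀, hv₀⟩ := hO.ne
  obtain ⟨u, hu0, hu⟩ := (hZ.gh hB hO).exists_perp hF hB hn (hO.iso _ hv₀) (fun h => h.2 hv₀)
  have hu' : ∀ v, B v v = 0 → (v ∉ O ↔ B u v = 0) := by
    intro v hv
    rw [← hu v hv]
    exact ⟨fun h => ⟨hv, h⟩, fun h => h.2⟩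
  have key : ∀ g ∈ MulAction.stabilizer (SIso B) x₀, ∃ c : F, g • u = c • u := by
    intro g hg
    by_contra hcon
    push Not at hcon
    have hli : LinearIndependent F ![u, g • u] := by
      rw [LinearIndependent.pair_iff' hu0]
      intro a e
      exact hcon a e.symm
    obtain ⟨y, hyy, huy, hgy⟩ := exists_iso_sep hB hn hli
    apply hgy
    have e : y = g • (g⁻¹ • y) := (smul_inv_smul g y).symm
    have hyy' : B (g⁻¹ • y) (g⁻¹ • y) = 0 := by rw [B_smul]; exact hyy
    have h1 : y ∉ O := (hu' y hyy).2 huy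
    have h2 : g⁻¹ • y ∉ O := by
      rw [hO.inv _ (inv_mem hg)]
      exact h1
    have h3 := (hu' _ hyy').1 h2
    rw [e, B_smul]
    exact h3
  by_cases huu : B u u = 0
  · have huO : u ∉ O := (hu' u huu).2 huu
    obtain ⟨z, hz, hzz, huz⟩ := exists_iso_orth_not_mem hB (fun _ : Unit => u) (Submodule.span F {u}) (by
      rw [Fintype.card_unit, finrank_span_singleton hu0]; omega)
    have hz0 : z ≠ 0 := by rintro rfl; exact hz (Submodule.zero_mem _)
    obtain ⟨g, hg, c, hc⟩ := hO.tr' u hu0 huu huO z hz0 hzz ((hu' z hzz).2 (huz ()))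
    obtain ⟨d, hd⟩ := key g hg
    have hgu : g • u ≠ 0 := fun e => hu0 ((smul_eq_zero' g).1 e)
    have hc0 : c ≠ 0 := by rintro rfl; rw [zero_smul] at hc; exact hgu hc
    apply hz
    rw [Submodule.mem_span_singleton]
    refine ⟨c⁻¹ * d, ?_⟩
    rw [mul_smul, ← hd, hc, smul_smul, inv_mul_cancel₀ hc0, one_smul]
  · have := four_le_aniso hF hB hn hq x₀ huu key
    omega

end Cfsg.Agent.H449.U
end

-- part: H449/U/MidEven
section
/-!
# The planar lemma in characteristic two (helper449, for S2196)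

`S` is a set of points of a projective plane over `F`, `|F| = Q = 2^a > 4`; every line meets `S` in `0` or `b` points,
`1 < b < Q`. A group `T` of automorphisms of the plane preserving `S` cannot be transitive on the points of `S` and on
the flags `(w, L)`, `w ∉ S`, with given type of `L` (meets `S` or does not). The proof counts the transvections of `T`
with given centre or given axis.
-/

set_option autoImplicit false
set_option linter.unusedSectionVars false

namespace Cfsg.Agent.H449.U.ME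

open Module

/-! ### numbers -/

theorem pow_two_odd {n m Z : ℕ} (h : 2 ^ n = 2 * m * Z + 1) (h1 : 0 < m * Z) : False := by
  rcases Nat.eq_zero_or_pos n with rfl | hn
  · rw [pow_zero] at h
    have : 2 * m * Z = 2 * (m * Z) := by ring
    omega
  · have h2 : 2 ^ n = 2 * 2 ^ (n - 1) := by
      conv_lhs => rw [show n = (n - 1) + 1 by omega]
      rw [pow_succ]; ring
    have : 2 * m * Z = 2 * (m * Z) := by ring
    omega

theorem num_key {m ε β Y : ℕ} (hε : 1 ≤ ε) (hY : Odd Y)
    (h : 2 ^ m = 1 + (1 + 2 ^ β * Y) * (2 ^ ε - 1)) : ε = β := by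
  obtain ⟨u, hu⟩ : ∃ u, 2 ^ ε = u + 1 := ⟨2 ^ ε - 1, by have := Nat.one_le_two_pow (n := ε); omega⟩
  have hu1 : Odd u := by
    have h2 : 2 ^ ε = 2 * 2 ^ (ε - 1) := by
      conv_lhs => rw [show ε = (ε - 1) + 1 by omega]
      rw [pow_succ]; ring
    have := Nat.one_le_two_pow (n := ε - 1)
    exact ⟨2 ^ (ε - 1) - 1, by omega⟩
  obtain ⟨z, hz⟩ := hY.mul hu1
  have h0 : 2 ^ m = 2 ^ ε + 2 ^ β * (2 * z + 1) := by
    rw [h, hu, Nat.add_sub_cancel, ← hz]; ring
  rcases lt_trichotomy ε β with h1 | h1 | h1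
  · exfalso
    have h2 : 2 ^ β = 2 ^ ε * (2 * 2 ^ (β - ε - 1)) := by
      rw [← pow_succ', ← pow_add]; congr 1; omega
    have h3 : 2 ^ m = 2 ^ ε * (2 * 2 ^ (β - ε - 1) * (2 * z + 1) + 1) := by rw [h0, h2]; ring
    have h4 : ε ≤ m := by
      have : 2 ^ ε ∣ 2 ^ m := Dvd.intro _ h3.symm
      exact (Nat.pow_dvd_pow_iff_le_right (by omega)).1 this
    have h5 : 2 ^ m = 2 ^ ε * 2 ^ (m - ε) := by rw [← pow_add]; congr 1; omega
    rw [h5] at h3
    have h6 := Nat.eq_of_mul_eq_mul_left (by positivity) h3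
    exact pow_two_odd h6 (by (clear * -; positivity))
  · exact h1
  · exfalso
    have h2 : 2 ^ ε = 2 ^ β * (2 * 2 ^ (ε - β - 1)) := by
      rw [← pow_succ', ← pow_add]; congr 1; omega
    have h3 : 2 ^ m = 2 ^ β * (2 * (2 ^ (ε - β - 1) + z) * 1 + 1) := by rw [h0, h2]; ring
    have h4 : β ≤ m := by
      have : 2 ^ β ∣ 2 ^ m := Dvd.intro _ h3.symm
      exact (Nat.pow_dvd_pow_iff_le_right (by omega)).1 this
    have h5 : 2 ^ m = 2 ^ β * 2 ^ (m - β) := by rw [← pow_add]; congr 1; omega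
    rw [h5] at h3
    have h6 := Nat.eq_of_mul_eq_mul_left (by positivity) h3
    exact pow_two_odd h6 (by positivity)

theorem num_final {m β : ℕ} (hβ : 1 ≤ β) (h : 2 ^ m = 1 + (1 + 2 ^ β * (2 ^ β - 1)) * (2 ^ β - 1)) : β = 1 := by
  by_contra hcon
  obtain ⟨c, hc⟩ : ∃ c, β = c + 2 := ⟨β - 2, by omega⟩
  set d := 2 ^ c with hd
  have hd1 : 1 ≤ d := Nat.one_le_two_pow
  have hb : 2 ^ β = 4 * d := by rw [hc, pow_add]; ring
  obtain ⟨k, hk⟩ : ∃ k, d = k + 1 := ⟨d - 1, by omega⟩
  have h1 : 2 ^ m = 2 ^ β * (2 * (2 * (4 * k ^ 2 + 6 * k + 2) * 1 + 1)) := by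
    rw [h, hb, hk]
    have : 4 * (k + 1) - 1 = 4 * k + 3 := by omega
    rw [this]
    ring
  have h2 : β + 1 ≤ m := by
    have : 2 ^ (β + 1) ∣ 2 ^ m := Dvd.intro (2 * (4 * k ^ 2 + 6 * k + 2) * 1 + 1) (by rw [h1, pow_succ]; ring)
    exact (Nat.pow_dvd_pow_iff_le_right (by omega)).1 this
  have h3 : 2 ^ m = 2 ^ β * (2 * 2 ^ (m - β - 1)) := by rw [← pow_succ', ← pow_add]; congr 1; omega
  rw [h3] at h1
  have h4 := Nat.eq_of_mul_eq_mul_left (by positivity) h1
  exact pow_two_odd (Nat.eq_of_mul_eq_mul_left (by omega) h4) (by (clear * -; positivity))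

/-! ### counting -/

section

variable {F : Type*} [Field F] [Fintype F]

/-- counting vectors by their lines -/
theorem count_cone {U : Type*} [AddCommGroup U] [Module F U] [Finite U] (E D : Set U) (k : ℕ) (h0 : (0 : U) ∉ D)
    (h1 : ∀ v ∈ D, {a : F | a ≠ 0 ∧ a • v ∈ E}.ncard = k) (h2 : ∀ u ∈ E, u ≠ 0 → ∀ c : F, c ≠ 0 → c • u ∈ D) :
    D.ncard * k = (Fintype.card F - 1) * (E \ {0}).ncard := by
  classical
  have : Fintype U := Fintype.ofFinite U
  let r : U → U → Prop := fun v u => ∃ a : F, a ≠ 0 ∧ u = a • v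
  have h3 : ∀ v ∈ D.toFinset, ((E \ {0}).toFinset.bipartiteAbove r v).card = k := by
    intro v hv
    rw [Set.mem_toFinset] at hv
    have hv0 : v ≠ 0 := fun e => h0 (e ▸ hv)
    rw [← h1 v hv, Set.ncard_eq_toFinset_card' ]
    symm
    refine Finset.card_bij (fun a _ => a • v) ?_ ?_ ?_
    · intro a ha
      rw [Set.mem_toFinset] at ha
      rw [Finset.mem_bipartiteAbove, Set.mem_toFinset]
      exact ⟨⟨ha.2, smul_ne_zero ha.1 hv0⟩, a, ha.1, rfl⟩
    · intro a _ a' _ e
      exact smul_left_injective F hv0 e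
    · intro u hu
      rw [Finset.mem_bipartiteAbove, Set.mem_toFinset] at hu
      obtain ⟨⟨hu1, -⟩, a, ha, rfl⟩ := hu
      exact ⟨a, by rw [Set.mem_toFinset]; exact ⟨ha, hu1⟩, rfl⟩
  have h4 : ∀ u ∈ (E \ {0}).toFinset, (D.toFinset.bipartiteBelow r u).card = Fintype.card F - 1 := by
    intro u hu
    rw [Set.mem_toFinset] at hu
    have hu0 : u ≠ 0 := hu.2
    rw [← Fintype.card_units, ← Finset.card_univ]
    symm
    refine Finset.card_bij (fun a _ => (a : F) • u) ?_ ?_ ?_
    · intro a _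
      rw [Finset.mem_bipartiteBelow, Set.mem_toFinset]
      refine ⟨h2 u hu.1 hu0 _ a.ne_zero, (a : F)⁻¹, inv_ne_zero a.ne_zero, ?_⟩
      rw [smul_smul, inv_mul_cancel₀ a.ne_zero, one_smul]
    · intro a _ a' _ e
      exact Units.ext (smul_left_injective F hu0 e)
    · intro v hv
      rw [Finset.mem_bipartiteBelow, Set.mem_toFinset] at hv
      obtain ⟨hv1, a, ha, rfl⟩ := hv
      refine ⟨(Units.mk0 a ha)⁻¹, Finset.mem_univ _, ?_⟩
      rw [Units.val_inv_eq_inv_val, Units.val_mk0, smul_smul, inv_mul_cancel₀ ha, one_smul]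
  have h5 := Finset.card_mul_eq_card_mul r h3 h4
  rw [Set.ncard_eq_toFinset_card', Set.ncard_eq_toFinset_card', h5, mul_comm]

/-- orders of subgroups of elementary abelian groups -/
theorem card_two {A : Type*} [AddGroup A] [Finite A] {n : ℕ} (hA : Nat.card A = 2 ^ n) (E : AddSubgroup A) :
    ∃ m, m ≤ n ∧ Nat.card E = 2 ^ m := by
  have h := E.card_addSubgroup_dvd_card
  rw [hA] at h
  exact (Nat.dvd_prime_pow Nat.prime_two).1 h

variable {M : Type*} [AddCommGroup M] [Module F M] [FiniteDimensional F M] {T : Subgroup (M ≃ₗ[F] M)}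

/-- the transvections of `T` -/
def TV (T : Subgroup (M ≃ₗ[F] M)) (f : Dual F M) (w : M) : Prop := f w = 0 ∧ ∃ t ∈ T, ∀ v, t v = v + f v • w

theorem TV.add_right {f : Dual F M} {w w' : M} (h : TV T f w) (h' : TV T f w') : TV T f (w + w') := by
  obtain ⟨h0, t, ht, h1⟩ := h
  obtain ⟨h0', t', ht', h1'⟩ := h'
  refine ⟨by rw [map_add, h0, h0', add_zero], t * t', mul_mem ht ht', fun v => ?_⟩
  rw [LinearEquiv.mul_apply, h1', h1, map_add, map_smul, h0', smul_zero, add_zero, smul_add]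
  abel

theorem TV.add_left {f f' : Dual F M} {w : M} (h : TV T f w) (h' : TV T f' w) : TV T (f + f') w := by
  obtain ⟨h0, t, ht, h1⟩ := h
  obtain ⟨h0', t', ht', h1'⟩ := h'
  refine ⟨by rw [LinearMap.add_apply, h0, h0', add_zero], t * t', mul_mem ht ht', fun v => ?_⟩
  rw [LinearEquiv.mul_apply, h1', h1, map_add, map_smul, h0, smul_zero, add_zero, LinearMap.add_apply, add_smul]
  abel

theorem TV.zero_right (f : Dual F M) : TV T f 0 :=
  ⟨map_zero f, 1, one_mem T, fun v => by rw [smul_zero, add_zero]; rfl⟩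

theorem TV.zero_left (w : M) : TV T (0 : Dual F M) w :=
  ⟨LinearMap.zero_apply w, 1, one_mem T, fun v => by rw [LinearMap.zero_apply, zero_smul, add_zero]; rfl⟩

theorem inv_apply {t : M ≃ₗ[F] M} {x y : M} (h : t x = y) : t⁻¹ y = x := by
  rw [← h, ← LinearEquiv.mul_apply, inv_mul_cancel]; rfl

theorem TV.neg_right {f : Dual F M} {w : M} (h : TV T f w) : TV T f (-w) := by
  obtain ⟨h0, t, ht, h1⟩ := h
  refine ⟨by rw [map_neg, h0, neg_zero], t⁻¹, inv_mem ht, fun v => inv_apply ?_⟩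
  rw [h1, map_add, map_smul, map_neg, h0, neg_zero, smul_zero, add_zero, smul_neg]
  abel

theorem TV.neg_left {f : Dual F M} {w : M} (h : TV T f w) : TV T (-f) w := by
  obtain ⟨h0, t, ht, h1⟩ := h
  refine ⟨by rw [LinearMap.neg_apply, h0, neg_zero], t⁻¹, inv_mem ht, fun v => inv_apply ?_⟩
  rw [h1, map_add, map_smul, h0, smul_zero, add_zero, LinearMap.neg_apply, neg_smul]
  abel

theorem TV.smul_iff {f : Dual F M} {w : M} {c : F} : TV T (c • f) w ↔ TV T f (c • w) := by
  unfold TV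
  rw [map_smul, LinearMap.smul_apply]
  refine and_congr_right fun _ => exists_congr fun t => and_congr_right fun _ => forall_congr' fun v => ?_
  rw [LinearMap.smul_apply, smul_smul, smul_eq_mul, mul_comm]

/-- translations with given axis -/
def EM (T : Subgroup (M ≃ₗ[F] M)) (f : Dual F M) : AddSubgroup M where
  carrier := {u | TV T f u}
  zero_mem' := TV.zero_right f
  add_mem' h h' := h.add_right h'
  neg_mem' h := h.neg_right

/-- translations with given centre -/
def ED (T : Subgroup (M ≃ₗ[F] M)) (w : M) : AddSubgroup (Dual F M) where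
  carrier := {f | TV T f w}
  zero_mem' := TV.zero_left w
  add_mem' h h' := h.add_left h'
  neg_mem' h := h.neg_left

/-- translations with given centre and axis -/
def EA (T : Subgroup (M ≃ₗ[F] M)) (f : Dual F M) (w : M) : AddSubgroup F where
  carrier := {a | TV T f (a • w)}
  zero_mem' := by
    change TV T f ((0 : F) • w)
    rw [zero_smul]; exact TV.zero_right f
  add_mem' := by
    intro a a' h h'
    change TV T f ((a + a') • w)
    rw [add_smul]; exact TV.add_right h h'
  neg_mem' := by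
    intro a h
    change TV T f ((-a) • w)
    rw [neg_smul]; exact TV.neg_right h

theorem mem_EA {f : Dual F M} {w : M} {a : F} : a ∈ EA T f w ↔ TV T f (a • w) := Iff.rfl

theorem ea_le {t : M ≃ₗ[F] M} (ht : t ∈ T) {f f' : Dual F M} {w w' : M} {c : F} (hc : c ≠ 0) (hf : f ≠ 0) (hf' : f' ≠ 0)
    (hw : t w = c • w') (hk : ∀ v, f v = 0 → f' (t v) = 0) (hw' : f' w' = 0) :
    Nat.card (EA T f w) ≤ Nat.card (EA T f' w') := by
  obtain ⟨d, hd⟩ := Planar.exists_smul_of_ker_le (ν := f' ∘ₗ (t : M →ₗ[F] M)) (ν' := f) hf hk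
  have hd0 : d ≠ 0 := by
    rintro rfl
    apply hf'
    ext v
    have h1 := LinearMap.congr_fun hd (t⁻¹ v)
    rw [zero_smul, LinearMap.zero_apply, LinearMap.comp_apply] at h1
    have h2 : t (t⁻¹ v) = v := by rw [← LinearEquiv.mul_apply, mul_inv_cancel]; rfl
    rw [LinearMap.zero_apply, ← h2]
    exact h1
  have hd' : ∀ v, f' (t v) = d * f v := fun v => LinearMap.congr_fun hd v
  let φ : EA T f w → EA T f' w' := fun a => ⟨a.1 * c / d, by
    obtain ⟨-, g, hg, h1⟩ := a.2
    refine ⟨by rw [map_smul, hw', smul_zero], t * g * t⁻¹, mul_mem (mul_mem ht hg) (inv_mem ht), fun v => ?_⟩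
    have h2 : t (t⁻¹ v) = v := by rw [← LinearEquiv.mul_apply, mul_inv_cancel]; rfl
    have h3 : f' v = d * f (t⁻¹ v) := by rw [← hd', h2]
    rw [LinearEquiv.mul_apply, LinearEquiv.mul_apply, h1, map_add, map_smul, map_smul, h2, hw, smul_smul, smul_smul,
      smul_smul, h3]
    congr 2
    field_simp⟩
  have hφ : Function.Injective φ := by
    intro a a' e
    have h1 : a.1 * c / d = a'.1 * c / d := congrArg Subtype.val e
    have h2 := mul_right_cancel₀ hc ((div_left_inj' hd0).1 h1)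
    exact Subtype.ext h2
  exact Nat.card_le_card_of_injective φ hφ

theorem ncard_EA {f : Dual F M} {w : M} : {a : F | a ≠ 0 ∧ TV T f (a • w)}.ncard = Nat.card (EA T f w) - 1 := by
  have h1 : {a : F | a ≠ 0 ∧ TV T f (a • w)} = (EA T f w : Set F) \ {0} := by
    ext a
    exact ⟨fun h => ⟨h.2, h.1⟩, fun h => ⟨h.2, h.1⟩⟩
  rw [h1, Set.ncard_sdiff_singleton_of_mem (show (0 : F) ∈ (EA T f w : Set F) from zero_mem _)]
  rfl

/-! ### the plane -/

/-- the hypotheses -/
structure Pl (T : Subgroup (M ≃ₗ[F] M)) (S : Set M) (b : ℕ) : Prop where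
  hM : finrank F M = 3
  cone : Cone F S
  ne : S.Nonempty
  b1 : 1 < b
  bQ : b < Fintype.card F
  zl : ZL F S b
  inv : ∀ t ∈ T, ∀ v, t v ∈ S ↔ v ∈ S
  ts : ∀ s ∈ S, ∀ s' ∈ S, ∃ t ∈ T, ∃ c : F, t s = c • s'
  tw : ∀ w w' : M, w ≠ 0 → w' ≠ 0 → w ∉ S → w' ∉ S → ∀ f f' : Dual F M, f ≠ 0 → f' ≠ 0 → f w = 0 → f' w' = 0 →
    ((∃ s ∈ S, f s = 0) ↔ ∃ s ∈ S, f' s = 0) → ∃ t ∈ T, (∃ c : F, t w = c • w') ∧ ∀ v, f v = 0 → f' (t v) = 0

variable {S : Set M} {b : ℕ}

theorem Pl.ea_eq (P : Pl T S b) {w w' : M} (hw : w ≠ 0) (hw' : w' ≠ 0) (hwS : w ∉ S) (hwS' : w' ∉ S) {f f' : Dual F M}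
    (hf : f ≠ 0) (hf' : f' ≠ 0) (h : f w = 0) (h' : f' w' = 0) (he : (∃ s ∈ S, f s = 0) ↔ ∃ s ∈ S, f' s = 0) :
    Nat.card (EA T f w) = Nat.card (EA T f' w') := by
  have key : ∀ {w w' : M} (hw : w ≠ 0) (hw' : w' ≠ 0) (hwS : w ∉ S) (hwS' : w' ∉ S) {f f' : Dual F M}
      (hf : f ≠ 0) (hf' : f' ≠ 0) (h : f w = 0) (h' : f' w' = 0) (he : (∃ s ∈ S, f s = 0) ↔ ∃ s ∈ S, f' s = 0),
      Nat.card (EA T f w) ≤ Nat.card (EA T f' w') := by
    intro w w' hw hw' hwS hwS' f f' hf hf' h h' he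
    obtain ⟨t, ht, ⟨c, hc⟩, hk⟩ := P.tw w w' hw hw' hwS hwS' f f' hf hf' h h' he
    have hc0 : c ≠ 0 := by
      rintro rfl
      rw [zero_smul] at hc
      exact hw ((LinearEquiv.map_eq_zero_iff t).1 hc)
    exact ea_le ht hc0 hf hf' hc hk h'
  exact le_antisymm (key hw hw' hwS hwS' hf hf' h h' he) (key hw' hw hwS' hwS hf' hf h' h he.symm)

theorem Pl.fin (_ : Pl T S b) : Finite M := Module.finite_of_finite F

theorem Pl.card_S (P : Pl T S b) : S.ncard = (Fintype.card F - 1) + (Fintype.card F ^ 2 - 1) * (b - 1) := by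
  have := P.fin
  have h := count P.cone P.zl P.ne
  rw [P.hM] at h
  exact h

/-- the functionals vanishing at `w` whose kernel meets `S` -/
def DW (S : Set M) (w : M) : Set (Dual F M) := {g | g ≠ 0 ∧ g w = 0 ∧ ∃ s ∈ S, g s = 0}

theorem finrank_ker {g : Dual F M} (hM : finrank F M = 3) (hg : g ≠ 0) : finrank F (LinearMap.ker g) = 2 := by
  have h1 := Dual.finrank_ker_add_one_of_ne_zero (K := F) hg
  omega

theorem Pl.card_ker (P : Pl T S b) {g : Dual F M} (hg : g ≠ 0) (h : ∃ s ∈ S, g s = 0) :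
    ((LinearMap.ker g : Set M) ∩ S).ncard = b * (Fintype.card F - 1) := by
  have := P.fin
  rcases P.zl _ (finrank_ker P.hM hg) with h1 | h1
  · exfalso
    rw [Set.ncard_eq_zero (Set.toFinite _)] at h1
    obtain ⟨s, hs, hgs⟩ := h
    have : s ∈ ((LinearMap.ker g : Set M) ∩ S) := ⟨hgs, hs⟩
    rw [h1] at this
    exact this
  · exact h1

theorem card_two_funct (hM : finrank F M = 3) {w s : M} (hw : w ≠ 0) (hs : ∀ c : F, c • w ≠ s) :
    {g : Dual F M | g ≠ 0 ∧ g w = 0 ∧ g s = 0}.ncard = Fintype.card F - 1 := by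
  have : Finite (Dual F M) := Module.finite_of_finite F
  have hfM : Finite M := Module.finite_of_finite F
  have hli : LinearIndependent F ![w, s] := (LinearIndependent.pair_iff' hw).2 hs
  have h1 : finrank F (Submodule.span F {w, s}) = 2 := by
    have h1 := finrank_span_eq_card hli
    rwa [Fintype.card_fin, Matrix.range_cons, Matrix.range_cons, Matrix.range_empty, Set.union_empty,
      Set.singleton_union] at h1
  have h2 := Subspace.finrank_add_finrank_dualAnnihilator_eq (Submodule.span F {w, s})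
  rw [h1, hM] at h2
  have h3 : finrank F (Submodule.span F {w, s}).dualAnnihilator = 1 := by omega
  have h4 : {g : Dual F M | g ≠ 0 ∧ g w = 0 ∧ g s = 0} = ((Submodule.span F {w, s}).dualAnnihilator : Set (Dual F M)) \ {0} := by
    ext g
    constructor
    · rintro ⟨h5, h6, h7⟩
      refine ⟨?_, h5⟩
      rw [SetLike.mem_coe, Submodule.mem_dualAnnihilator]
      intro v hv
      obtain ⟨a, c, rfl⟩ := Submodule.mem_span_pair.1 hv
      rw [map_add, map_smul, map_smul, h6, h7, smul_zero, smul_zero, add_zero]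
    · rintro ⟨h5, h6⟩
      rw [SetLike.mem_coe, Submodule.mem_dualAnnihilator] at h5
      exact ⟨h6, h5 _ (Submodule.subset_span (Or.inl rfl)), h5 _ (Submodule.subset_span (Or.inr rfl))⟩
  rw [h4, Set.ncard_sdiff_singleton_of_mem (zero_mem _), card_submodule, h3, pow_one]

theorem Pl.card_DW (P : Pl T S b) {w : M} (hw : w ≠ 0) (hwS : w ∉ S) : (DW (F := F) S w).ncard * b = S.ncard := by
  classical
  have := P.fin
  have hfD : Finite (Dual F M) := Module.finite_of_finite F
  have : Fintype (Dual F M) := Fintype.ofFinite _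
  have : Fintype M := Fintype.ofFinite _
  have hQ := q_pos (F := F)
  let r : Dual F M → M → Prop := fun g s => g s = 0
  have h1 : ∀ g ∈ (DW (F := F) S w).toFinset, (S.toFinset.bipartiteAbove r g).card = b * (Fintype.card F - 1) := by
    intro g hg
    rw [Set.mem_toFinset] at hg
    rw [← P.card_ker hg.1 hg.2.2, Set.ncard_eq_toFinset_card']
    congr 1
    ext s
    rw [Finset.mem_bipartiteAbove, Set.mem_toFinset, Set.mem_toFinset]
    exact ⟨fun h => ⟨h.2, h.1⟩, fun h => ⟨h.2, h.1⟩⟩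
  have h2 : ∀ s ∈ S.toFinset, ((DW (F := F) S w).toFinset.bipartiteBelow r s).card = Fintype.card F - 1 := by
    intro s hs
    rw [Set.mem_toFinset] at hs
    rw [← card_two_funct P.hM hw (s := s) (by
      rintro c rfl
      have hc : c ≠ 0 := by rintro rfl; rw [zero_smul] at hs; exact P.cone.zero hs
      exact hwS ((P.cone.smul_iff hc).1 hs)), Set.ncard_eq_toFinset_card']
    congr 1
    ext g
    rw [Finset.mem_bipartiteBelow, Set.mem_toFinset, Set.mem_toFinset]
    exact ⟨fun h => ⟨h.1.1, h.1.2.1, h.2⟩, fun h => ⟨⟨h.1, h.2.1, s, hs, h.2.2⟩, h.2.2⟩⟩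
  have h3 := Finset.card_mul_eq_card_mul r h1 h2
  rw [← Set.ncard_eq_toFinset_card', ← Set.ncard_eq_toFinset_card', ← mul_assoc] at h3
  exact Nat.eq_of_mul_eq_mul_right hQ h3

theorem cone_DW (w : M) : Cone F (DW (F := F) S w) where
  zero h := h.1 rfl
  smul c hc g := by
    rintro ⟨h1, h2, s, hs, h3⟩
    exact ⟨smul_ne_zero hc h1, by rw [LinearMap.smul_apply, h2, smul_zero], s, hs, by
      rw [LinearMap.smul_apply, h3, smul_zero]⟩

/-- `b` divides `Q` and the number of lines through a point off `S` -/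
theorem Pl.exists_R (P : Pl T S b) {w : M} (hw : w ≠ 0) (hwS : w ∉ S) :
    ∃ X, 1 ≤ X ∧ b * X = Fintype.card F ∧ (DW (F := F) S w).ncard = (Fintype.card F - 1) * (Fintype.card F + 1 - X) := by
  have hfD : Finite (Dual F M) := Module.finite_of_finite F
  obtain ⟨R, hR⟩ := (cone_DW (F := F) (S := S) w).dvd
  have h1 := P.card_DW hw hwS
  rw [hR, P.card_S] at h1
  obtain ⟨c, hc⟩ : ∃ c, b = c + 1 := ⟨b - 1, by have := P.b1; omega⟩
  obtain ⟨m, hm⟩ : ∃ m, Fintype.card F = m + 1 := ⟨Fintype.card F - 1, by have := q_pos (F := F); omega⟩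
  have hm0 : 0 < m := by have := q_pos (F := F); omega
  have hb1 := P.b1
  rw [hm, Nat.add_sub_cancel, hc, Nat.add_sub_cancel] at h1
  have h2 : (m + 1) ^ 2 - 1 = m * (m + 2) := by
    have : (m + 1) ^ 2 = m * (m + 2) + 1 := by ring
    omega
  rw [h2] at h1
  have h3 : m * (R * (c + 1)) = m * (1 + (m + 2) * c) := by rw [← mul_assoc, h1]; ring
  have h4 := Nat.eq_of_mul_eq_mul_left hm0 h3
  have h5 : R * b + Fintype.card F = (Fintype.card F + 1) * b := by
    rw [hm, hc, h4]; ring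
  have h6 : b ∣ Fintype.card F := by
    have : b ∣ R * b + Fintype.card F := h5 ▸ Dvd.intro_left _ rfl
    exact (Nat.dvd_add_right (Dvd.intro_left _ rfl)).1 this
  obtain ⟨X, hX⟩ := h6
  have hX1 : 1 ≤ X := by
    rcases Nat.eq_zero_or_pos X with h | h
    · rw [h, mul_zero] at hX; omega
    · exact h
  refine ⟨X, hX1, hX.symm, ?_⟩
  rw [hR]
  congr 1
  have h7 : (R + X) * b = (Fintype.card F + 1) * b := by
    rw [← h5, add_mul, mul_comm X b, ← hX]
  have := Nat.eq_of_mul_eq_mul_right (by omega) h7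
  omega

/-! ### an involution -/

/-- the group with the scalars -/
@[instance_reducible]
def actS : MulAction (T × Fˣ) M where
  smul p v := (p.2 : F) • p.1.1 v
  one_smul v := one_smul F v
  mul_smul p p' v := by
    change ((p.2 * p'.2 : Fˣ) : F) • (p.1.1 * p'.1.1) v = (p.2 : F) • p.1.1 ((p'.2 : F) • p'.1.1 v)
    rw [map_smul, smul_smul, Units.val_mul]
    rfl

theorem Pl.dvd_card (P : Pl T S b) : S.ncard ∣ Nat.card T * (Fintype.card F - 1) := by
  classical
  have := P.fin
  obtain ⟨s, hs⟩ := P.ne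
  let _ : MulAction (T × Fˣ) M := actS
  have h1 : MulAction.orbit (T × Fˣ) s = S := by
    ext v
    constructor
    · rintro ⟨⟨t, c⟩, rfl⟩
      exact P.cone.smul _ c.ne_zero _ ((P.inv t.1 t.2 s).2 hs)
    · intro hv
      obtain ⟨t, ht, c, hc⟩ := P.ts s hs v hv
      have hc0 : c ≠ 0 := by
        rintro rfl
        rw [zero_smul] at hc
        exact P.cone.ne hs ((LinearEquiv.map_eq_zero_iff t).1 hc)
      refine ⟨(⟨t, ht⟩, (Units.mk0 c hc0)⁻¹), ?_⟩
      change (((Units.mk0 c hc0)⁻¹ : Fˣ) : F) • t s = v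
      rw [hc, smul_smul, Units.val_inv_eq_inv_val, Units.val_mk0, inv_mul_cancel₀ hc0, one_smul]
  have h2 : S.ncard = Nat.card (MulAction.orbit (T × Fˣ) s) := by rw [h1]; rfl
  rw [h2, Nat.card_congr (MulAction.orbitEquivQuotientStabilizer (T × Fˣ) s)]
  have h3 := Subgroup.card_quotient_dvd_card (MulAction.stabilizer (T × Fˣ) s)
  rw [Nat.card_prod, Nat.card_eq_fintype_card (α := Fˣ), Fintype.card_units] at h3
  exact h3

/-- involutions are transvections -/
theorem exists_tv (h2 : (2 : F) = 0) (hM : finrank F M = 3) (hT : 2 ∣ Nat.card T) :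
    ∃ (f : Dual F M) (w : M), f ≠ 0 ∧ w ≠ 0 ∧ TV T f w := by
  have hfM : Finite M := Module.finite_of_finite F
  have : Finite (M ≃ₗ[F] M) := Finite.of_injective (fun t => (t : M → M)) DFunLike.coe_injective
  have : Fact (Nat.Prime 2) := ⟨Nat.prime_two⟩
  obtain ⟨t, ht⟩ := exists_prime_orderOf_dvd_card' 2 hT
  have ht2 : ∀ v, t.1 (t.1 v) = v := by
    intro v
    have h1 : t ^ 2 = 1 := by rw [← ht, pow_orderOf_eq_one]
    have h3 : (t.1 ^ 2 : M ≃ₗ[F] M) = 1 := congrArg Subtype.val h1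
    have h4 := LinearEquiv.congr_fun h3 v
    rw [pow_two, LinearEquiv.mul_apply] at h4
    exact h4
  have hdbl : ∀ v : M, v + v = 0 := fun v => by rw [← two_smul F v, h2, zero_smul]
  let N : M →ₗ[F] M := (t.1 : M →ₗ[F] M) + LinearMap.id
  have hN : ∀ v, N v = t.1 v + v := fun v => rfl
  have hNN : ∀ v, N (N v) = 0 := by
    intro v
    rw [hN, hN, map_add, ht2]
    have : v + t.1 v + (t.1 v + v) = (v + v) + (t.1 v + t.1 v) := by abel
    rw [this, hdbl, hdbl, add_zero]
  have hN0 : N ≠ 0 := by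
    intro e
    have h1 : t = 1 := by
      refine Subtype.ext (LinearEquiv.ext fun v => ?_)
      have h3 : t.1 v + v = v + v := by rw [hdbl, ← hN, e, LinearMap.zero_apply]
      exact add_right_cancel h3
    rw [h1, orderOf_one] at ht
    omega
  have h3 := LinearMap.finrank_range_add_finrank_ker N
  have h4 : LinearMap.range N ≤ LinearMap.ker N := by
    rintro _ ⟨v, rfl⟩
    exact hNN v
  have h5 := Submodule.finrank_mono h4
  have h6 : finrank F (LinearMap.range N) ≤ 1 := by omega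
  obtain ⟨v₀, hv₀⟩ : ∃ v, N v ≠ 0 := by
    by_contra hcon
    push Not at hcon
    exact hN0 (LinearMap.ext hcon)
  have h7 : ∀ v, ∃ c : F, c • N v₀ = N v := by
    intro v
    have h8 : Submodule.span F {N v₀} = LinearMap.range N := by
      refine Submodule.eq_of_le_of_finrank_le ?_ ?_
      · rw [Submodule.span_singleton_le_iff_mem]
        exact ⟨v₀, rfl⟩
      · rw [finrank_span_singleton hv₀]; exact h6
    have h9 : N v ∈ Submodule.span F {N v₀} := by rw [h8]; exact ⟨v, rfl⟩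
    exact Submodule.mem_span_singleton.1 h9
  obtain ⟨g, hg⟩ := Projective.exists_dual_eq_one F hv₀
  have h8 : ∀ v, N v = g (N v) • N v₀ := by
    intro v
    obtain ⟨c, hc⟩ := h7 v
    rw [← hc, map_smul, hg, smul_eq_mul, mul_one]
  refine ⟨g ∘ₗ N, N v₀, ?_, hv₀, ?_, t.1, t.2, fun v => ?_⟩
  · intro e
    have := LinearMap.congr_fun e v₀
    rw [LinearMap.comp_apply, hg, LinearMap.zero_apply] at this
    exact one_ne_zero this
  · rw [LinearMap.comp_apply, hNN, map_zero]
  · rw [LinearMap.comp_apply, ← h8, hN]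
    have : v + (t.1 v + v) = t.1 v + (v + v) := by abel
    rw [this, hdbl, add_zero]

/-- involutions without fixed points -/
theorem even_of_invol {α : Type*} {A : Set α} (hA : A.Finite) (g : α → α) (h1 : ∀ x ∈ A, g x ∈ A) (h2 : ∀ x ∈ A, g (g x) = x)
    (h3 : ∀ x ∈ A, g x ≠ x) : Even A.ncard := by
  classical
  rw [Set.ncard_eq_toFinset_card A hA]
  have h : ∑ x ∈ hA.toFinset, (1 : ZMod 2) = 0 := by
    refine Finset.sum_involution (fun x _ => g x) (fun _ _ => by decide) (fun x hx _ => h3 x (hA.mem_toFinset.1 hx))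
      (fun x hx => hA.mem_toFinset.2 (h1 x (hA.mem_toFinset.1 hx))) (fun x hx => h2 x (hA.mem_toFinset.1 hx))
  rw [Finset.sum_const, nsmul_eq_mul, mul_one] at h
  exact (ZMod.natCast_eq_zero_iff_even).1 h

/-- the centres are not in `S` -/
theorem Pl.centre (P : Pl T S b) (h2 : (2 : F) = 0) (hb : Even b) {f : Dual F M} {w : M} (hf : f ≠ 0)
    (h : TV T f w) : w ∉ S := by
  intro hw
  have := P.fin
  obtain ⟨h0, t, ht, h1⟩ := h
  have hdbl : ∀ v : M, v + v = 0 := fun v => by rw [← two_smul F v, h2, zero_smul]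
  obtain ⟨x, hx⟩ : ∃ x, f x ≠ 0 := by
    by_contra hcon
    push Not at hcon
    exact hf (LinearMap.ext hcon)
  set E := Submodule.span F {w} with hE
  have hfE : ∀ v ∈ E, f v = 0 := by
    intro v hv
    obtain ⟨c, rfl⟩ := Submodule.mem_span_singleton.1 hv
    rw [map_smul, h0, smul_zero]
  have hy : E.mkQ x ≠ 0 := by
    intro e
    exact hx (hfE x ((Submodule.Quotient.mk_eq_zero E).1 e))
  have h3 : (fib S E (E.mkQ x)).ncard + 1 = b := fib_of_mem P.cone P.zl hw hy
  have h4 : ∀ v, E.mkQ v = E.mkQ x → f v = f x := by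
    intro v hv
    have h5 : v - x ∈ E := (Submodule.Quotient.eq E).1 hv
    have := hfE _ h5
    rw [map_sub, sub_eq_zero] at this
    exact this
  have h5 : ∀ v, E.mkQ v = E.mkQ x → t v = v + f x • w := fun v hv => by rw [h1, h4 v hv]
  have h6 : ∀ v, E.mkQ v = E.mkQ x → E.mkQ (t v) = E.mkQ x := by
    intro v hv
    rw [h5 v hv, map_add, hv]
    have : E.mkQ (f x • w) = 0 :=
      (Submodule.Quotient.mk_eq_zero E).2 (E.smul_mem _ (Submodule.mem_span_singleton_self w))
    rw [this, add_zero]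
  have h7 := even_of_invol (Set.toFinite (fib S E (E.mkQ x))) t
    (fun v hv => ⟨(P.inv t ht v).2 hv.1, h6 v hv.2⟩)
    (fun v hv => by
      rw [h5 _ (h6 v hv.2), h5 v hv.2, add_assoc, hdbl, add_zero])
    (fun v hv e => by
      rw [h5 v hv.2] at e
      have h8 : f x • w = 0 := by
        have : v + f x • w = v + 0 := by rw [e, add_zero]
        exact add_left_cancel this
      rcases smul_eq_zero.1 h8 with h9 | h9
      · exact hx h9
      · exact P.cone.ne hw h9)
  obtain ⟨c, hc⟩ := hb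
  obtain ⟨d, hd⟩ := h7
  omega

/-! ### the two cases -/

theorem Pl.ea_two (_ : Pl T S b) {a : ℕ} (ha : Fintype.card F = 2 ^ a) (f : Dual F M) (w : M) :
    ∃ m, m ≤ a ∧ Nat.card (EA T f w) = 2 ^ m :=
  card_two (by rw [Nat.card_eq_fintype_card, ha]) _

theorem Pl.em_two (P : Pl T S b) {a : ℕ} (ha : Fintype.card F = 2 ^ a) (f : Dual F M) :
    ∃ m, Nat.card (EM T f) = 2 ^ m := by
  have := P.fin
  obtain ⟨m, -, hm⟩ := card_two (n := a * 3) (by
    rw [Module.natCard_eq_pow_finrank (K := F), P.hM, Nat.card_eq_fintype_card, ha, pow_mul]) (EM T f)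
  exact ⟨m, hm⟩

theorem Pl.ed_two (P : Pl T S b) {a : ℕ} (ha : Fintype.card F = 2 ^ a) (w : M) :
    ∃ m, Nat.card (ED T w) = 2 ^ m := by
  have : Finite (Dual F M) := Module.finite_of_finite F
  obtain ⟨m, -, hm⟩ := card_two (n := a * 3) (by
    rw [Module.natCard_eq_pow_finrank (K := F), Subspace.dual_finrank_eq, P.hM, Nat.card_eq_fintype_card, ha, pow_mul])
      (ED T w)
  exact ⟨m, hm⟩

/-- no axis misses `S` -/
theorem Pl.axis (P : Pl T S b) {a : ℕ} (ha : Fintype.card F = 2 ^ a) {f : Dual F M} {w : M} (hf : f ≠ 0) (hw : w ≠ 0)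
    (h : TV T f w) : ∃ s ∈ S, f s = 0 := by
  classical
  by_contra hcon
  have hext : ∀ s ∈ S, f s ≠ 0 := by
    intro s hs e
    exact hcon ⟨s, hs, e⟩
  have hfM := P.fin
  have hQ := q_pos (F := F)
  have hnS : ∀ v, f v = 0 → v ∉ S := fun v hv hvS => hext v hvS hv
  have h1 : ∀ v, v ≠ 0 → f v = 0 → Nat.card (EA T f v) = Nat.card (EA T f w) := by
    intro v hv0 hv
    exact P.ea_eq hv0 hw (hnS v hv) (hnS w h.1) hf hf hv h.1 Iff.rfl
  obtain ⟨ε, hεa, hε⟩ := P.ea_two ha f w
  obtain ⟨m, hm⟩ := P.em_two ha f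
  have hε1 : 1 ≤ ε := by
    rcases Nat.eq_zero_or_pos ε with h2 | h2
    · exfalso
      rw [h2, pow_zero] at hε
      have h3 := AddSubgroup.card_eq_one.1 hε
      have h4 : (1 : F) ∈ EA T f w := by
        rw [mem_EA, one_smul]; exact h
      rw [h3, AddSubgroup.mem_bot] at h4
      exact one_ne_zero h4
    · exact h2
  have h2 := count_cone (F := F) (EM T f : Set M) ((LinearMap.ker f : Set M) \ {0}) (Nat.card (EA T f w) - 1)
    (fun h => h.2 rfl)
    (fun v hv => by
      rw [← h1 v hv.2 hv.1, ← ncard_EA]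
      rfl)
    (fun u hu hu0 c hc => by
      refine ⟨?_, smul_ne_zero hc hu0⟩
      change f (c • u) = 0
      rw [map_smul, (show TV T f u from hu).1, smul_zero])
  rw [Set.ncard_sdiff_singleton_of_mem (show (0 : M) ∈ (LinearMap.ker f : Set M) from zero_mem _), card_submodule,
    finrank_ker P.hM hf, Set.ncard_sdiff_singleton_of_mem (show (0 : M) ∈ (EM T f : Set M) from zero_mem _)] at h2
  have h3 : (EM T f : Set M).ncard = Nat.card (EM T f) := rfl
  rw [h3, hm, hε] at h2
  obtain ⟨μ, hμ⟩ : ∃ μ, Fintype.card F = μ + 1 := ⟨Fintype.card F - 1, by omega⟩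
  have h4 : Fintype.card F ^ 2 - 1 = (Fintype.card F - 1) * (Fintype.card F + 1) := by
    rw [hμ]
    have : (μ + 1) ^ 2 = μ * (μ + 1 + 1) + 1 := by ring
    rw [Nat.add_sub_cancel]
    omega
  rw [h4, mul_assoc] at h2
  have h5 := Nat.eq_of_mul_eq_mul_left hQ h2
  have h6 : ε = a := by
    refine num_key (m := m) (Y := 1) hε1 odd_one ?_
    have := Nat.one_le_two_pow (n := m)
    rw [mul_one, ← ha, add_comm 1 (Fintype.card F), h5]
    omega
  rw [h6, ← ha] at h5
  have h7 : 2 ^ m = Fintype.card F ^ 2 := by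
    have h8 := Nat.one_le_two_pow (n := m)
    have h9 : Fintype.card F ^ 2 = (Fintype.card F + 1) * (Fintype.card F - 1) + 1 := by
      rw [hμ, Nat.add_sub_cancel]; ring
    omega
  -- all translations with axis `ker f`
  have h8 : ∀ u, f u = 0 → TV T f u := by
    have h9 : (EM T f : Set M) = (LinearMap.ker f : Set M) := by
      refine Set.eq_of_subset_of_ncard_le ?_ ?_ (Set.toFinite _)
      · intro u hu
        exact (show TV T f u from hu).1
      · rw [card_submodule, finrank_ker P.hM hf, h3, hm, h7]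
    intro u hu
    have h10 : u ∈ (LinearMap.ker f : Set M) := hu
    rw [← h9] at h10
    exact h10
  obtain ⟨s, hs⟩ := P.ne
  have hfs := hext s hs
  have h9 : ∀ c : F, s + c • w ∈ S := by
    intro c
    obtain ⟨-, t, ht, h10⟩ := h8 (((f s)⁻¹ * c) • w) (by rw [map_smul, h.1, smul_zero])
    have h11 := h10 s
    rw [smul_smul, mul_inv_cancel_left₀ hfs] at h11
    rw [← h11, P.inv t ht]
    exact hs
  set E := Submodule.span F {w} with hE
  have hy : E.mkQ s ≠ 0 := by
    intro e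
    have h10 : s ∈ E := (Submodule.Quotient.mk_eq_zero E).1 e
    obtain ⟨c, hc⟩ := Submodule.mem_span_singleton.1 h10
    apply hfs
    rw [← hc, map_smul, h.1, smul_zero]
  have h10 : (fib S E (E.mkQ s)).ncard = 0 ∨ (fib S E (E.mkQ s)).ncard = b :=
    fib_of_notMem P.cone P.zl hw (hnS w h.1) hy
  have h11 : Fintype.card F ≤ (fib S E (E.mkQ s)).ncard := by
    rw [← Nat.card_eq_fintype_card, ← Nat.card_coe_set_eq]
    refine Nat.card_le_card_of_injective (fun c : F => (⟨s + c • w, h9 c, ?_⟩ : fib S E (E.mkQ s))) ?_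
    · rw [map_add]
      have : E.mkQ (c • w) = 0 :=
        (Submodule.Quotient.mk_eq_zero E).2 (E.smul_mem _ (Submodule.mem_span_singleton_self w))
      rw [this, add_zero]
    · intro c c' e
      have h12 : s + c • w = s + c' • w := congrArg Subtype.val e
      exact smul_left_injective F hw (add_left_cancel h12)
  have := P.bQ
  omega

/-- **The planar lemma in characteristic two.** -/
theorem Pl.false (P : Pl T S b) {a : ℕ} (ha : Fintype.card F = 2 ^ a) (h4 : 4 < Fintype.card F) : False := by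
  classical
  have hfM := P.fin
  have hfD : Finite (Dual F M) := Module.finite_of_finite F
  have hQ := q_pos (F := F)
  have ha0 : a ≠ 0 := by rintro rfl; rw [pow_zero] at ha; omega
  have h2 : (2 : F) = 0 := by
    have h := FiniteField.cast_card_eq_zero F
    rw [ha, Nat.cast_pow, Nat.cast_ofNat] at h
    exact pow_eq_zero_iff ha0 |>.1 h
  -- a point off `S`
  obtain ⟨w₁, hw₁, hw₁S⟩ : ∃ w : M, w ≠ 0 ∧ w ∉ S := by
    by_contra hcon
    push Not at hcon
    have h3 : S = Set.univ \ {0} := by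
      ext v
      exact ⟨fun h => ⟨trivial, P.cone.ne h⟩, fun h => hcon v h.2⟩
    obtain ⟨s, hs⟩ := P.ne
    obtain ⟨f, hf⟩ := Projective.exists_dual_eq_one F (P.cone.ne hs)
    have hf0 : f ≠ 0 := by rintro rfl; rw [LinearMap.zero_apply] at hf; exact zero_ne_one hf
    have h5 := P.zl _ (finrank_ker P.hM hf0)
    have h6 : ((LinearMap.ker f : Set M) ∩ S) = (LinearMap.ker f : Set M) \ {0} := by
      rw [h3]
      ext v
      exact ⟨fun h => ⟨h.1, h.2.2⟩, fun h => ⟨h.1, trivial, h.2⟩⟩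
    rw [h6, Set.ncard_sdiff_singleton_of_mem (show (0 : M) ∈ (LinearMap.ker f : Set M) from zero_mem _),
      card_submodule, finrank_ker P.hM hf0] at h5
    obtain ⟨μ, hμ⟩ : ∃ μ, Fintype.card F = μ + 1 := ⟨Fintype.card F - 1, by omega⟩
    have h7 : Fintype.card F ^ 2 - 1 = (Fintype.card F + 1) * (Fintype.card F - 1) := by
      rw [hμ, Nat.add_sub_cancel]
      have : (μ + 1) ^ 2 = (μ + 1 + 1) * μ + 1 := by ring
      omega
    rw [h7] at h5
    rcases h5 with h5 | h5
    · rcases Nat.mul_eq_zero.1 h5 with h | h <;> omega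
    · have := Nat.eq_of_mul_eq_mul_right hQ h5
      have := P.bQ
      omega
  obtain ⟨X, hX1, hX, hDW⟩ := P.exists_R hw₁ hw₁S
  -- `b` and `X` are powers of two
  obtain ⟨β, hβa, hβ⟩ := (Nat.dvd_prime_pow Nat.prime_two).1 (ha ▸ Dvd.intro X hX : b ∣ 2 ^ a)
  obtain ⟨γ, hγa, hγ⟩ := (Nat.dvd_prime_pow Nat.prime_two).1 (ha ▸ Dvd.intro_left b hX : X ∣ 2 ^ a)
  have hβ1 : 1 ≤ β := by
    rcases Nat.eq_zero_or_pos β with h | h
    · rw [h, pow_zero] at hβ
      have := P.b1
      omega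
    · exact h
  have hγ1 : 1 ≤ γ := by
    rcases Nat.eq_zero_or_pos γ with h | h
    · rw [h, pow_zero] at hγ
      rw [hγ, mul_one] at hX
      have := P.bQ
      omega
    · exact h
  have hbe : Even b := by
    rw [hβ]
    exact (Nat.even_pow.2 ⟨even_two, by omega⟩)
  have hXe : Even X := by
    rw [hγ]
    exact (Nat.even_pow.2 ⟨even_two, by omega⟩)
  -- an involution
  have hTe : 2 ∣ Nat.card T := by
    have h3 : 2 ∣ S.ncard := by
      rw [← P.card_DW hw₁ hw₁S]
      exact Dvd.dvd.mul_left hbe.two_dvd _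
    rcases (Nat.prime_two.dvd_mul).1 (h3.trans P.dvd_card) with h | h
    · exact h
    · exfalso
      have h5 : 2 ∣ Fintype.card F := by
        rw [ha]; exact dvd_pow_self 2 ha0
      omega
  obtain ⟨f₀, w₀, hf₀, hw₀, hTV⟩ := exists_tv h2 P.hM hTe
  have hw₀S := P.centre h2 hbe hf₀ hTV
  have hf₀S := P.axis ha hf₀ hw₀ hTV
  have hax : ∀ {g : Dual F M} {v : M}, g ≠ 0 → v ≠ 0 → TV T g v → ∃ s ∈ S, g s = 0 := fun h h' h'' => P.axis ha h h' h''
  obtain ⟨ε, hεa, hε⟩ := P.ea_two ha f₀ w₀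
  have hε1 : 1 ≤ ε := by
    rcases Nat.eq_zero_or_pos ε with h2 | h2
    · exfalso
      rw [h2, pow_zero] at hε
      have h3 := AddSubgroup.card_eq_one.1 hε
      have h4 : (1 : F) ∈ EA T f₀ w₀ := by
        rw [mem_EA, one_smul]; exact hTV
      rw [h3, AddSubgroup.mem_bot] at h4
      exact one_ne_zero h4
    · exact h2
  have hea : ∀ {g : Dual F M} {v : M}, g ≠ 0 → v ≠ 0 → v ∉ S → g v = 0 → (∃ s ∈ S, g s = 0) →
      Nat.card (EA T g v) = Nat.card (EA T f₀ w₀) := by
    intro g v hg hv hvS hgv hgS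
    exact P.ea_eq hv hw₀ hvS hw₀S hg hf₀ hgv hTV.1 ⟨fun _ => hf₀S, fun _ => hgS⟩
  -- translations with axis `ker f₀`
  obtain ⟨m, hm⟩ := P.em_two ha f₀
  obtain ⟨n, hn⟩ := P.ed_two ha w₁
  have c1 := count_cone (F := F) (EM T f₀ : Set M) ((((LinearMap.ker f₀ : Set M) \ {0}) \ ((LinearMap.ker f₀ : Set M) ∩ S)))
    (Nat.card (EA T f₀ w₀) - 1) (fun h => h.1.2 rfl)
    (fun v hv => by
      rw [← hea hf₀ hv.1.2 (fun h => hv.2 ⟨hv.1.1, h⟩) hv.1.1 hf₀S, ← ncard_EA]
      rfl)
    (fun u hu hu0 c hc => by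
      have hu' : TV T f₀ u := hu
      refine ⟨⟨?_, smul_ne_zero hc hu0⟩, fun h => ?_⟩
      · change f₀ (c • u) = 0
        rw [map_smul, hu'.1, smul_zero]
      · exact P.centre h2 hbe hf₀ hu' ((P.cone.smul_iff hc).1 h.2))
  rw [Set.ncard_sdiff (by
      rintro v ⟨h5, h6⟩
      exact ⟨h5, P.cone.ne h6⟩) (Set.toFinite _), P.card_ker hf₀ hf₀S,
    Set.ncard_sdiff_singleton_of_mem (show (0 : M) ∈ (LinearMap.ker f₀ : Set M) from zero_mem _), card_submodule,
    finrank_ker P.hM hf₀, Set.ncard_sdiff_singleton_of_mem (show (0 : M) ∈ (EM T f₀ : Set M) from zero_mem _)] at c1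
  have e1 : (EM T f₀ : Set M).ncard = Nat.card (EM T f₀) := rfl
  rw [e1, hm, hε] at c1
  -- translations with centre `w₁`
  have c2 := count_cone (F := F) (ED T w₁ : Set (Dual F M)) (DW (F := F) S w₁) (Nat.card (EA T f₀ w₀) - 1)
    (fun h => h.1 rfl)
    (fun g hg => by
      rw [← hea hg.1 hw₁ hw₁S hg.2.1 hg.2.2, ← ncard_EA]
      congr 1
      ext c
      exact and_congr_right fun _ => TV.smul_iff)
    (fun g hg hg0 c hc => by
      have hg' : TV T g w₁ := hg
      obtain ⟨s, hs, hgs⟩ := hax hg0 hw₁ hg'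
      exact ⟨smul_ne_zero hc hg0, by rw [LinearMap.smul_apply, hg'.1, smul_zero], s, hs, by
        rw [LinearMap.smul_apply, hgs, smul_zero]⟩)
  rw [hDW, Set.ncard_sdiff_singleton_of_mem (show (0 : Dual F M) ∈ (ED T w₁ : Set (Dual F M)) from zero_mem _)] at c2
  have e2 : (ED T w₁ : Set (Dual F M)).ncard = Nat.card (ED T w₁) := rfl
  rw [e2, hn, hε, mul_assoc] at c2
  have d2 := Nat.eq_of_mul_eq_mul_left hQ c2
  obtain ⟨μ, hμ⟩ : ∃ μ, Fintype.card F = μ + 1 := ⟨Fintype.card F - 1, by (clear * - h4; omega)⟩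
  have h7 : Fintype.card F ^ 2 - 1 - b * (Fintype.card F - 1) = (Fintype.card F - 1) * (Fintype.card F + 1 - b) := by
    have h8 : Fintype.card F ^ 2 - 1 = (Fintype.card F - 1) * (Fintype.card F + 1) := by
      rw [hμ, Nat.add_sub_cancel]
      have : (μ + 1) ^ 2 = μ * (μ + 1 + 1) + 1 := by ring
      omega
    rw [h8, mul_comm b, ← Nat.mul_sub]
  rw [h7, mul_assoc] at c1
  have d1 := Nat.eq_of_mul_eq_mul_left hQ c1
  -- `ε = β`
  have hbQ := P.bQ
  have f1 : ε = β := by
    refine num_key (m := m) (Y := X - 1) hε1 ?_ ?_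
    · obtain ⟨x, hx⟩ := hXe
      exact ⟨x - 1, by (clear * - hX1 hx; omega)⟩
    · have h9 := Nat.one_le_two_pow (n := m)
      have h10 : 1 + 2 ^ β * (X - 1) = Fintype.card F + 1 - b := by
        rw [← hβ, Nat.mul_sub, hX, mul_one]
        (clear * - hbQ; omega)
      rw [h10, d1]
      (clear * - h9; omega)
  have f2 : ε = γ := by
    refine num_key (m := n) (Y := b - 1) hε1 ?_ ?_
    · obtain ⟨x, hx⟩ := hbe
      have := P.b1
      exact ⟨x - 1, by (clear * - hx this; omega)⟩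
    · have h9 := Nat.one_le_two_pow (n := n)
      have h10 : 1 + 2 ^ γ * (b - 1) = Fintype.card F + 1 - X := by
        rw [← hγ, Nat.mul_sub, mul_comm X b, hX, mul_one]
        have : X ≤ Fintype.card F := Nat.le_of_dvd (by omega) (Dvd.intro_left b hX)
        (clear * - this; omega)
      rw [h10, d2]
      (clear * - h9; omega)
  have hbX : X = 2 ^ β := by rw [hγ, ← f2, f1]
  have f3 : β = 1 := by
    refine num_final (m := m) hβ1 ?_
    have h9 := Nat.one_le_two_pow (n := m)
    rw [f1] at d1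
    have h10 : 1 + 2 ^ β * (2 ^ β - 1) = Fintype.card F + 1 - b := by
      rw [Nat.mul_sub, mul_one, ← hX, hbX, hβ]
      have : 2 ^ β ≤ 2 ^ β * 2 ^ β := Nat.le_mul_of_pos_left _ (by positivity)
      (clear * - this; omega)
    rw [h10, d1]
    (clear * - h9; omega)
  rw [f3, pow_one] at hβ hbX
  rw [hβ, hbX] at hX
  omega

end

end Cfsg.Agent.H449.U.ME
end

-- part: H449/U/Mid
section
/-!
# The case `1 < b < q²` (helper449, for S2196)
-/

set_option autoImplicit false
set_option linter.unusedSectionVars false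

namespace Cfsg.Agent.H449.U

open Module Cfsg.Agent.H91.U

variable {F V : Type*} [Field F] [Fintype F] [AddCommGroup V] [Module F V] [FiniteDimensional F V]
  {σ : F →+* F} {B : V →ₛₗ[σ] V →ₗ[F] F}

/-- the group of linear automorphisms underlying `K` -/
def KL (K : Subgroup (SIso B)) : Subgroup (V ≃ₗ[F] V) := K.map (SIso B).subtype

theorem nn_le_one {K : Subgroup (SIso B)} {O : Set V} (hO : Orb K O) {s s' : V} (h : s ∈ O ↔ s' ∈ O) :
    nn O (Submodule.span F {s}) = nn O (Submodule.span F {s'}) := by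
  have hfV : Finite V := Module.finite_of_finite F
  have : Fintype V := Fintype.ofFinite V
  by_cases hs : s ∈ O
  · exact (ncard_span_of_mem (Orb.cone hO) hs).trans (ncard_span_of_mem (Orb.cone hO) (h.1 hs)).symm
  · exact (ncard_span_of_notMem (Orb.cone hO) hs).trans (ncard_span_of_notMem (Orb.cone hO) fun h' => hs (h.2 h')).symm

theorem nn_line {O : Set V} {b : ℕ} (hZ : ZB B O b) {L L' : Submodule F V} (hL : finrank F L = 2)
    (hL' : finrank F L' = 2) (hTI : TI B L) (hTI' : TI B L') (h : (∃ v ∈ L, v ∈ O) ↔ ∃ v ∈ L', v ∈ O) :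
    nn O L = nn O L' := by
  have hfV : Finite V := Module.finite_of_finite F
  have : Fintype V := Fintype.ofFinite V
  have h0 : ∀ L : Submodule F V, nn O L = 0 ↔ ¬ ∃ v ∈ L, v ∈ O := by
    intro L
    constructor
    · rintro h ⟨v, hv, hvO⟩
      have := nn_pos (L := L) hv hvO
      omega
    · intro h
      refine nn_eq_zero fun x hx hxO => h ⟨x, hx, hxO⟩
  rcases hZ.line L hL hTI with h1 | h1 <;> rcases hZ.line L' hL' hTI' with h2 | h2
  · rw [h1, h2]
  · rw [h1, eq_comm, h0, ← h, ← h0]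
    exact h1
  · rw [h2, h0, h, ← h0]
    exact h2
  · rw [h1, h2]

/-- **transitivity on the plane** -/
theorem plane_trans {K : Subgroup (SIso B)} {O : Set V} (hO : Orb K O) (hA : AffP K O) {b : ℕ} (hZ : ZB B O b)
    {M : Submodule F V} (hM : finrank F M = 3) (hTI : TI B M) {s s' : M} {L L' : Submodule F M}
    (hL : finrank F L = 2) (hL' : finrank F L' = 2) (hs : s ∈ L) (hs' : s' ∈ L') (hs0 : s ≠ 0) (hs0' : s' ≠ 0)
    (hss : (s : V) ∈ O ↔ (s' : V) ∈ O) (hLL : (∃ v ∈ L, (v : V) ∈ O) ↔ ∃ v ∈ L', (v : V) ∈ O) :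
    ∃ t ∈ TM (KL K) M, (∃ c : F, t s = c • s') ∧ L.map (t : M →ₗ[F] M) = L' := by
  have hfV : Finite V := Module.finite_of_finite F
  have : Fintype V := Fintype.ofFinite V
  have h0 : (s : V) ≠ 0 := fun e => hs0 (Subtype.ext e)
  have h0' : (s' : V) ≠ 0 := fun e => hs0' (Subtype.ext e)
  obtain ⟨u, hu, hu0, hu1, hu2, hu3⟩ := exists_frame3 hM hTI ((Submodule.finrank_map_subtype_eq M L).trans hL)
    (map_le_sub M L) (s := (s : V)) ⟨s, hs, rfl⟩ h0
  obtain ⟨u', hu', hu0', hu1', hu2', hu3'⟩ := exists_frame3 hM hTI ((Submodule.finrank_map_subtype_eq M L').trans hL')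
    (map_le_sub M L') (s := (s' : V)) ⟨s', hs', rfl⟩ h0'
  have hex : ∀ L : Submodule F M, (∃ v ∈ L, (v : V) ∈ O) ↔ ∃ v ∈ L.map M.subtype, v ∈ O := by
    intro L
    constructor
    · rintro ⟨v, hv, hvO⟩
      exact ⟨v, ⟨v, hv, rfl⟩, hvO⟩
    · rintro ⟨_, ⟨v, hv, rfl⟩, hvO⟩
      exact ⟨v, hv, hvO⟩
  obtain ⟨g, hg, h⟩ := flag_trans hA hu hu' (by
    intro i hi
    interval_cases i
    · rw [W_zero, W_zero]
    · rw [hu1, hu1']
      exact nn_le_one hO hss
    · rw [hu2, hu2']
      refine nn_line hZ ((Submodule.finrank_map_subtype_eq M L).trans hL)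
        ((Submodule.finrank_map_subtype_eq M L').trans hL') (hTI.mono (map_le_sub M L)) (hTI.mono (map_le_sub M L')) ?_
      rw [← hex, ← hex]
      exact hLL
    · rw [hu3, hu3'])
  have h3 := h 3
  rw [hu3, hu3'] at h3
  obtain ⟨t, ht⟩ := exists_restrict h3
  refine ⟨t, ⟨g.1, ⟨g, hg, rfl⟩, ht⟩, ?_, ?_⟩
  · have h4 := h 1
    rw [hu1, hu1', Submodule.map_span, Set.image_singleton] at h4
    have h5 : g.1 (s : V) ∈ Submodule.span F {(s' : V)} := by
      rw [← h4]
      exact Submodule.mem_span_singleton_self _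
    obtain ⟨c, hc⟩ := Submodule.mem_span_singleton.1 h5
    refine ⟨c, Subtype.ext ?_⟩
    rw [ht, ← hc]
    rfl
  · have h4 := h 2
    rw [hu2, hu2'] at h4
    exact map_restrict ht h4

/-- **the case `1 < b < q²` does not occur** -/
theorem mid_false {q : ℕ} (hF : Fintype.card F = q ^ 2) (hq : 3 ≤ q) (hB : HForm B) (hn : 6 ≤ finrank F V)
    {K : Subgroup (SIso B)} {O : Set V} (hO : Orb K O) (hA : AffP K O) {b : ℕ} (hZ : ZB B O b) (h1 : 1 < b)
    (h2 : b < Fintype.card F) : False := by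
  classical
  have hfV : Finite V := Module.finite_of_finite F
  have : Fintype V := Fintype.ofFinite V
  obtain ⟨v, hv⟩ := hO.ne
  have hv0 : v ≠ 0 := (Orb.cone hO).ne hv
  obtain ⟨M, hvM, hTI, hM⟩ := Cfsg.Agent.H450.UF.exists_ti_le hB (C := Submodule.span F {v}) (k := 3) (by
    refine ti_span ?_
    rintro a rfl b rfl
    exact hO.iso _ hv) (by rw [finrank_span_singleton hv0]; omega) (by omega)
  have hvM : v ∈ M := hvM (Submodule.mem_span_singleton_self v)
  have : Fintype M := Fintype.ofFinite M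
  let S : Set M := M.subtype ⁻¹' O
  have hS : Cone F S := cone_sub (Orb.cone hO) M
  have hne : S.Nonempty := ⟨⟨v, hvM⟩, hv⟩
  have hzl : ZL F S b := by
    intro L hL
    rw [ncard_sub']
    exact hZ.line _ ((Submodule.finrank_map_subtype_eq M L).trans hL) (hTI.mono (map_le_sub M L))
  have hinv : ∀ t ∈ TM (KL K) M, ∀ w : M, t w ∈ S ↔ w ∈ S := by
    rintro t ⟨_, ⟨g, hg, rfl⟩, ht⟩ w
    change ((t w : M) : V) ∈ O ↔ (w : V) ∈ O
    rw [ht]
    exact hO.inv g hg _
  rcases Nat.even_or_odd (Fintype.card F) with hev | hodd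
  · -- even characteristic
    obtain ⟨p, hchar⟩ := CharP.exists F
    obtain ⟨n, hp, hcard⟩ := FiniteField.card F p
    have hp2 : p = 2 := by
      rw [hcard] at hev
      have h3 : Even p := by
        by_contra hcon
        exact Nat.not_even_iff_odd.2 ((Nat.not_even_iff_odd.1 hcon).pow) hev
      exact (hp.even_iff).1 h3
    subst hp2
    have P : ME.Pl (TM (KL K) M) S b :=
      { hM := hM
        cone := hS
        ne := hne
        b1 := h1
        bQ := h2
        zl := hzl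
        inv := hinv
        ts := by
          intro s hs s' hs'
          have h0 := hS.ne hs
          have h0' := hS.ne hs'
          have hex : ∀ s : M, s ≠ 0 → ∃ L : Submodule F M, finrank F L = 2 ∧ s ∈ L := by
            intro s hs0
            obtain ⟨y, hy⟩ : ∃ y : M, y ∉ Submodule.span F {s} := by
              by_contra hcon
              push Not at hcon
              have h5 : (⊤ : Submodule F M) ≤ Submodule.span F {s} := fun y _ => hcon y
              have h6 := Submodule.finrank_mono h5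
              rw [finrank_top, hM, finrank_span_singleton hs0] at h6
              omega
            refine ⟨Submodule.span F {s, y}, finrank_span_pair ?_, Submodule.subset_span (Or.inl rfl)⟩
            rw [LinearIndependent.pair_iff' hs0]
            intro a e
            exact hy (Submodule.mem_span_singleton.2 ⟨a, e⟩)
          obtain ⟨L, hL, hsL⟩ := hex s h0
          obtain ⟨L', hL', hsL'⟩ := hex s' h0'
          obtain ⟨t, ht, hc, -⟩ := plane_trans hO hA hZ hM hTI hL hL' hsL hsL' h0 h0' ⟨fun _ => hs', fun _ => hs⟩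
            ⟨fun _ => ⟨s', hsL', hs'⟩, fun _ => ⟨s, hsL, hs⟩⟩
          exact ⟨t, ht, hc⟩
        tw := by
          intro w w' hw hw' hwS hwS' f f' hf hf' hfw hfw' hff
          have hex : ∀ f : Dual F M, (∃ s ∈ S, f s = 0) ↔ ∃ v ∈ LinearMap.ker f, (v : V) ∈ O := by
            intro f
            exact ⟨fun ⟨s, hs, h⟩ => ⟨s, h, hs⟩, fun ⟨s, hs, h⟩ => ⟨s, h, hs⟩⟩
          obtain ⟨t, ht, hc, e⟩ := plane_trans hO hA hZ hM hTI (ME.finrank_ker hM hf) (ME.finrank_ker hM hf')
            (s := w) (s' := w') hfw hfw' hw hw' ⟨fun h => absurd h hwS, fun h => absurd h hwS'⟩ (by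
              rw [← hex, ← hex]; exact hff)
          refine ⟨t, ht, hc, fun x hx => ?_⟩
          have h3 : t x ∈ (LinearMap.ker f).map (t : M →ₗ[F] M) := ⟨x, hx, rfl⟩
          rw [e] at h3
          exact h3 }
    refine P.false hcard ?_
    rw [hF]
    nlinarith only [hq]
  · -- odd characteristic
    refine Cfsg.Agent.H184.Arc.no_arc hM hodd S hS.zero hS.smul hne b h1 h2 hzl (TM (KL K) M) hinv ?_ ?_
    · intro s hs L L' hL hL' hsL hsL'
      exact plane_trans hO hA hZ hM hTI hL hL' hsL hsL' (hS.ne hs) (hS.ne hs) Iff.rfl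
        ⟨fun _ => ⟨s, hsL', hs⟩, fun _ => ⟨s, hsL, hs⟩⟩
    · intro L hL s hs s' hs' hsL hsL'
      obtain ⟨t, ht, hc, e⟩ := plane_trans hO hA hZ hM hTI hL hL hsL hsL' (hS.ne hs) (hS.ne hs')
        ⟨fun _ => hs', fun _ => hs⟩ Iff.rfl
      exact ⟨t, ht, e, hc⟩

end Cfsg.Agent.H449.U
end

-- part: H450/UF/Red
section
/-!
# Partial ovoids meeting all generators: reduction to dimension six (helper450, for helper449, S2196)

* `HP B e f` : hyperbolic pairs; `UU B e f` : their orthogonal space, `prj` : the orthogonal projection onto it;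
* `even_false` : `V` of dimension `2 m`, `m ≥ 3`, `O` an orbit of `K` on isotropic points with property `AffP`, no two
  distinct points of `O` are orthogonal, every totally isotropic subspace of dimension `m` meets `O`: impossible.
-/

set_option autoImplicit false
set_option linter.unusedSectionVars false

namespace Cfsg.Agent.H450.UF.Red

open Module Cfsg.Agent.H91.U Cfsg.Agent.H450.UF Cfsg.Agent.H449.U

section

variable {F V : Type*} [Field F] [AddCommGroup V] [Module F V] {σ : F →+* F} {B : V →ₛₗ[σ] V →ₗ[F] F} {k : ℕ}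

/-- hyperbolic pairs -/
structure HP (B : V →ₛₗ[σ] V →ₗ[F] F) {k : ℕ} (e f : Fin k → V) : Prop where
  ee : ∀ i j, B (e i) (e j) = 0
  ff : ∀ i j, B (f i) (f j) = 0
  ef : ∀ i j, B (e i) (f j) = if i = j then 1 else 0
  fe : ∀ i j, B (f i) (e j) = if i = j then 1 else 0

/-- the orthogonal space -/
def UU (B : V →ₛₗ[σ] V →ₗ[F] F) {k : ℕ} (e f : Fin k → V) : Submodule F V where
  carrier := {v | (∀ l, B (e l) v = 0) ∧ ∀ l, B (f l) v = 0}
  add_mem' := fun {x y} hx hy => ⟨fun l => by rw [map_add, hx.1, hy.1, add_zero],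
    fun l => by rw [map_add, hx.2, hy.2, add_zero]⟩
  zero_mem' := ⟨fun _ => map_zero _, fun _ => map_zero _⟩
  smul_mem' := fun c x hx => ⟨fun l => by rw [smul_right, hx.1, mul_zero], fun l => by rw [smul_right, hx.2, mul_zero]⟩

theorem mem_UU {e f : Fin k → V} {v : V} : v ∈ UU B e f ↔ (∀ l, B (e l) v = 0) ∧ ∀ l, B (f l) v = 0 := Iff.rfl

/-- the projection -/
def prj (B : V →ₛₗ[σ] V →ₗ[F] F) {k : ℕ} (e f : Fin k → V) : V →ₗ[F] V :=
  LinearMap.id - ∑ l, (B (f l)).smulRight (e l) - ∑ l, (B (e l)).smulRight (f l)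

theorem prj_apply (e f : Fin k → V) (v : V) :
    prj B e f v = v - ∑ l, B (f l) v • e l - ∑ l, B (e l) v • f l := by
  unfold prj
  rw [LinearMap.sub_apply, LinearMap.sub_apply, LinearMap.sum_apply, LinearMap.sum_apply]
  rfl

theorem prj_mem {e f : Fin k → V} (h : HP B e f) (v : V) : prj B e f v ∈ UU B e f := by
  rw [mem_UU, prj_apply]
  constructor
  · intro l
    rw [map_sub, map_sub, map_sum, map_sum]
    simp only [smul_right, h.ee, h.ef, mul_zero, Finset.sum_const_zero, sub_zero, mul_ite, mul_one]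
    rw [Finset.sum_ite_eq, if_pos (Finset.mem_univ _), sub_self]
  · intro l
    rw [map_sub, map_sub, map_sum, map_sum]
    simp only [smul_right, h.ff, h.fe, mul_zero, Finset.sum_const_zero, sub_zero, mul_ite, mul_one]
    rw [Finset.sum_ite_eq, if_pos (Finset.mem_univ _), sub_self]

theorem prj_of_mem {e f : Fin k → V} {v : V} (hv : v ∈ UU B e f) : prj B e f v = v := by
  rw [prj_apply]
  simp only [hv.1, hv.2, zero_smul, Finset.sum_const_zero, sub_zero]

/-- the part in the span of `e` -/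
theorem sub_prj_mem {e f : Fin k → V} {v : V} (hv : ∀ l, B (e l) v = 0) : v - prj B e f v ∈ Submodule.span F (Set.range e) := by
  rw [prj_apply]
  simp only [hv, zero_smul, Finset.sum_const_zero, sub_zero, sub_sub_cancel]
  exact Submodule.sum_mem _ fun l _ => Submodule.smul_mem _ _ (Submodule.subset_span ⟨l, rfl⟩)

theorem prj_of_mem_span {e f : Fin k → V} (h : HP B e f) {z : V} (hz : z ∈ Submodule.span F (Set.range e)) :
    prj B e f z = 0 := by
  have h1 : Submodule.span F (Set.range e) ≤ LinearMap.ker (prj B e f) := by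
    rw [Submodule.span_le]
    rintro _ ⟨l, rfl⟩
    change prj B e f (e l) = 0
    rw [prj_apply]
    simp only [h.ee, h.fe, zero_smul, Finset.sum_const_zero, sub_zero, ite_smul, one_smul]
    rw [Finset.sum_ite_eq', if_pos (Finset.mem_univ _), sub_self]
  exact h1 hz

/-- the restricted form -/
def rB (B : V →ₛₗ[σ] V →ₗ[F] F) {k : ℕ} (e f : Fin k → V) : UU B e f →ₛₗ[σ] UU B e f →ₗ[F] F :=
  B.domRestrict₁₂ (UU B e f) (UU B e f)

theorem rB_apply (e f : Fin k → V) (x y : UU B e f) : rB B e f x y = B (x : V) (y : V) := rfl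

theorem hform_rB (hB : HForm B) {e f : Fin k → V} (h : HP B e f) : HForm (rB B e f) := by
  have key : ∀ x : UU B e f, (∀ y : UU B e f, B (x : V) (y : V) = 0) → x = 0 := by
    intro x hx
    apply Subtype.ext
    apply hB.eq_zero
    intro v
    have h1 := hx ⟨prj B e f v, prj_mem h v⟩
    change B (x : V) (prj B e f v) = 0 at h1
    rw [prj_apply, map_sub, map_sub, map_sum, map_sum] at h1
    simp only [smul_right, hB.swap_zero (x.2.1 _), hB.swap_zero (x.2.2 _), mul_zero, Finset.sum_const_zero,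
      sub_zero] at h1
    exact h1
  refine ⟨⟨fun x hx => key x hx, fun y hy => key y fun x => hB.swap_zero (hy x)⟩, ⟨fun x y => ?_⟩, hB.invol, hB.ne_id⟩
  rw [rB_apply, rB_apply]
  exact hB.symm.eq _ _

theorem finrank_UU [FiniteDimensional F V] {e f : Fin k → V} (h : HP B e f) :
    finrank F (UU B e f) + 2 * k = finrank F V := by
  let T : V →ₗ[F] (Fin k → F) × (Fin k → F) := (LinearMap.pi fun l => B (e l)).prod (LinearMap.pi fun l => B (f l))
  have hT : LinearMap.ker T = UU B e f := by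
    ext v
    rw [LinearMap.mem_ker, mem_UU]
    constructor
    · intro h1
      exact ⟨fun l => congrFun (congrArg Prod.fst h1) l, fun l => congrFun (congrArg Prod.snd h1) l⟩
    · rintro ⟨h1, h2⟩
      exact Prod.ext (funext h1) (funext h2)
  have hs : Function.Surjective T := by
    rintro ⟨a, b⟩
    refine ⟨∑ l, a l • f l + ∑ l, b l • e l, Prod.ext (funext fun i => ?_) (funext fun i => ?_)⟩
    · change B (e i) (∑ l, a l • f l + ∑ l, b l • e l) = a i
      rw [map_add, map_sum, map_sum]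
      simp only [smul_right, h.ee, h.ef, mul_zero, Finset.sum_const_zero, add_zero, mul_ite, mul_one]
      rw [Finset.sum_ite_eq, if_pos (Finset.mem_univ _)]
    · change B (f i) (∑ l, a l • f l + ∑ l, b l • e l) = b i
      rw [map_add, map_sum, map_sum]
      simp only [smul_right, h.ff, h.fe, mul_zero, Finset.sum_const_zero, zero_add, mul_ite, mul_one]
      rw [Finset.sum_ite_eq, if_pos (Finset.mem_univ _)]
  have h1 := LinearMap.finrank_range_add_finrank_ker T
  rw [LinearMap.range_eq_top.2 hs, finrank_top, finrank_prod, finrank_fin_fun, hT] at h1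
  omega

/-! ### the flags -/

theorem W_append_le {j : ℕ} (e : Fin k → V) (u : Fin j → V) {l : ℕ} (hl : l ≤ k) :
    W F (Fin.append e u) l = W F e l := by
  apply le_antisymm
  · refine W_le_iff.2 fun i hi => ?_
    refine Fin.addCases (fun i => ?_) (fun i => ?_) i (motive := fun i => (i : ℕ) < l → Fin.append e u i ∈ W F e l) hi
    · intro hi
      rw [Fin.append_left]
      exact mem_W e (by simpa using hi)
    · intro hi
      exfalso
      rw [Fin.val_natAdd] at hi
      omega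
  · refine W_le_iff.2 fun i hi => ?_
    rw [← Fin.append_left e u i]
    exact mem_W _ (by simpa using hi)

theorem W_append_add {j : ℕ} (e : Fin k → V) (u : Fin j → V) (i : ℕ) :
    W F (Fin.append e u) (k + i) = Submodule.span F (Set.range e) ⊔ W F u i := by
  apply le_antisymm
  · refine W_le_iff.2 fun l hl => ?_
    refine Fin.addCases (fun l => ?_) (fun l => ?_) l (motive := fun l => (l : ℕ) < k + i →
      Fin.append e u l ∈ Submodule.span F (Set.range e) ⊔ W F u i) hl
    · intro _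
      rw [Fin.append_left]
      exact Submodule.mem_sup_left (Submodule.subset_span ⟨l, rfl⟩)
    · intro hl
      rw [Fin.append_right]
      rw [Fin.val_natAdd] at hl
      exact Submodule.mem_sup_right (mem_W u (by omega))
  · refine sup_le ?_ ?_
    · rw [Submodule.span_le]
      rintro _ ⟨l, rfl⟩
      have := mem_W (F := F) (Fin.append e u) (i := k + i) (l := Fin.castAdd j l) (by
        rw [Fin.val_castAdd]; omega)
      rwa [Fin.append_left] at this
    · refine W_le_iff.2 fun l hl => ?_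
      have := mem_W (F := F) (Fin.append e u) (i := k + i) (l := Fin.natAdd k l) (by
        rw [Fin.val_natAdd]; omega)
      rwa [Fin.append_right] at this

theorem W_coe {U : Submodule F V} {j : ℕ} (u : Fin j → U) (i : ℕ) :
    W F (fun l => (u l : V)) i = (W F u i).map U.subtype := by
  unfold W
  rw [Submodule.map_span, Set.image_image]
  rfl

theorem frame_append (hB : HForm B) {e f : Fin k → V} (h : HP B e f) {j : ℕ} {u : Fin j → UU B e f}
    (hu : Frame (rB B e f) u) : Frame B (Fin.append e (fun l => (u l : V))) := by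
  refine ⟨?_, ?_⟩
  · rw [Fintype.linearIndependent_iff]
    intro c hc
    rw [Fin.sum_univ_add] at hc
    simp only [Fin.append_left, Fin.append_right] at hc
    have h1 : ∀ l : Fin k, c (Fin.castAdd j l) = 0 := by
      intro l
      have h2 := congrArg (B (f l)) hc
      rw [map_add, map_sum, map_sum, map_zero] at h2
      simp only [smul_right, h.fe, (u _).2.2 l, mul_zero, Finset.sum_const_zero, add_zero, mul_ite, mul_one] at h2
      rwa [Finset.sum_ite_eq, if_pos (Finset.mem_univ _)] at h2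
    simp only [h1, zero_smul, Finset.sum_const_zero, zero_add] at hc
    have h2 : ∀ l : Fin j, c (Fin.natAdd k l) = 0 := by
      refine Fintype.linearIndependent_iff.1 hu.li (fun l => c (Fin.natAdd k l)) ?_
      apply Subtype.ext
      rw [Submodule.coe_sum]
      exact hc
    intro i
    exact Fin.addCases (motive := fun i => c i = 0) h1 h2 i
  · intro a b
    refine Fin.addCases (fun a => ?_) (fun a => ?_) a (motive := fun a =>
      B (Fin.append e (fun l => (u l : V)) a) (Fin.append e (fun l => (u l : V)) b) = 0) <;>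
      refine Fin.addCases (fun b => ?_) (fun b => ?_) b (motive := fun b =>
        B (Fin.append e (fun l => (u l : V)) _) (Fin.append e (fun l => (u l : V)) b) = 0)
    · rw [Fin.append_left, Fin.append_left, h.ee]
    · rw [Fin.append_left, Fin.append_right]
      exact (u b).2.1 a
    · rw [Fin.append_left, Fin.append_right]
      exact hB.swap_zero ((u a).2.1 b)
    · rw [Fin.append_right, Fin.append_right]
      exact hu.ti a b

end

section

variable {F V : Type*} [Field F] [Fintype F] [AddCommGroup V] [Module F V] [FiniteDimensional F V] [Fintype V]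
  {σ : F →+* F} {B : V →ₛₗ[σ] V →ₗ[F] F} {k : ℕ}

/-- the intersection numbers with a partial ovoid -/
theorem nn_ti {O : Set V} (hc : Cone F O) (h1 : ∀ x ∈ O, ∀ y ∈ O, B x y = 0 → y ∈ Submodule.span F {x})
    {C : Submodule F V} (hC : TI B C) {x : V} (hx : x ∈ C) (hxO : x ∈ O) : nn O C = Fintype.card F - 1 := by
  classical
  have hx0 := hc.ne hxO
  have e : ((C : Set V) ∩ O) = Set.range fun c : Fˣ => (c : F) • x := by
    ext v
    constructor
    · rintro ⟨h2, h3⟩
      obtain ⟨c, rfl⟩ := Submodule.mem_span_singleton.1 (h1 x hxO v h3 (hC x hx v h2))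
      have hc0 : c ≠ 0 := by
        rintro rfl
        exact hc.ne h3 (zero_smul F x)
      exact ⟨Units.mk0 c hc0, rfl⟩
    · rintro ⟨c, rfl⟩
      exact ⟨C.smul_mem _ hx, hc.smul _ c.ne_zero x hxO⟩
  unfold nn
  rw [e, ← Set.image_univ, Set.ncard_image_of_injective _ (fun a b e => Units.ext (smul_left_injective F hx0 e)),
    Set.ncard_univ, Nat.card_eq_fintype_card, Fintype.card_units]

theorem nn_eq_of_iff {O : Set V} (hc : Cone F O) (h1 : ∀ x ∈ O, ∀ y ∈ O, B x y = 0 → y ∈ Submodule.span F {x})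
    {C C' : Submodule F V} (hC : TI B C) (hC' : TI B C') (h : (∃ x ∈ C, x ∈ O) ↔ ∃ x ∈ C', x ∈ O) :
    nn O C = nn O C' := by
  by_cases h2 : ∃ x ∈ C, x ∈ O
  · obtain ⟨x, hx, hxO⟩ := h2
    obtain ⟨y, hy, hyO⟩ := h.1 ⟨x, hx, hxO⟩
    rw [nn_ti hc h1 hC hx hxO, nn_ti hc h1 hC' hy hyO]
  · have h3 : ¬ ∃ x ∈ C', x ∈ O := fun h4 => h2 (h.2 h4)
    push Not at h2 h3
    rw [nn_eq_zero h2, nn_eq_zero h3]

/-- the set in the smaller space -/
def O1 (B : V →ₛₗ[σ] V →ₗ[F] F) (O : Set V) {k : ℕ} (e f : Fin k → V) : Set (UU B e f) :=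
  {v | ∃ z ∈ Submodule.span F (Set.range e), (v : V) + z ∈ O}

/-- its stabiliser -/
def K1 (B : V →ₛₗ[σ] V →ₗ[F] F) (O : Set V) {k : ℕ} (e f : Fin k → V) : Subgroup (UU B e f ≃ₗ[F] UU B e f) where
  carrier := {t | (∀ x y, rB B e f (t x) (t y) = rB B e f x y) ∧ ∀ v, t v ∈ O1 B O e f ↔ v ∈ O1 B O e f}
  mul_mem' := fun {s t} hs ht => ⟨fun x y => by
    rw [LinearEquiv.mul_apply, LinearEquiv.mul_apply, hs.1, ht.1], fun v => by
    rw [LinearEquiv.mul_apply, hs.2, ht.2]⟩
  one_mem' := ⟨fun _ _ => rfl, fun _ => Iff.rfl⟩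
  inv_mem' := fun {t} ht => ⟨fun x y => by
    have h1 := ht.1 (t⁻¹ x) (t⁻¹ y)
    rw [← LinearEquiv.mul_apply, ← LinearEquiv.mul_apply, mul_inv_cancel] at h1
    exact h1.symm, fun v => by
    have h1 := ht.2 (t⁻¹ v)
    rw [← LinearEquiv.mul_apply, mul_inv_cancel] at h1
    exact h1.symm⟩

theorem sixD (hB : HForm B) {m : ℕ} (hV : finrank F V = 2 * m) {K : Subgroup (SIso B)} {O : Set V}
    (hO : Orb K O) (hA : AffP K O) (h1 : ∀ x ∈ O, ∀ y ∈ O, B x y = 0 → y ∈ Submodule.span F {x})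
    (h3 : ∀ M : Submodule F V, finrank F M = m → TI B M → ∃ x ∈ M, x ∈ O) (hk : k + 3 = m) {e f : Fin k → V}
    (h : HP B e f) (hZ : ∀ z ∈ Submodule.span F (Set.range e), z ∉ O) :
    SixD (rB B e f) (O1 B O e f) (K1 B O e f) := by
  classical
  have hc : Cone F O := Orb.cone hO
  have hzz : ∀ z ∈ Submodule.span F (Set.range e), ∀ z' ∈ Submodule.span F (Set.range e), B z z' = 0 :=
    ti_span (by rintro _ ⟨i, rfl⟩ _ ⟨l, rfl⟩; exact h.ee i l)
  have hzu : ∀ z ∈ Submodule.span F (Set.range e), ∀ v : V, (∀ l, B (e l) v = 0) → B z v = 0 := by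
    intro z hz v hv
    have h4 : v ∈ LinearMap.ker (B z) := by
      apply LinearMap.mem_ker.2
      apply hB.swap_zero
      have h5 : Submodule.span F (Set.range e) ≤ LinearMap.ker (B v) := by
        rw [Submodule.span_le]
        rintro _ ⟨l, rfl⟩
        exact hB.swap_zero (hv l)
      exact LinearMap.mem_ker.1 (h5 hz)
    exact LinearMap.mem_ker.1 h4
  have hzU : ∀ z ∈ Submodule.span F (Set.range e), ∀ v : UU B e f, B z (v : V) = 0 :=
    fun z hz v => hzu z hz v v.2.1
  refine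
    { hB := hform_rB hB h
      hV := by
        have := finrank_UU h
        omega
      cone := ⟨?_, ?_⟩
      iso := ?_
      one := ?_
      meet := ?_
      isom := fun t ht => ht.1
      inv := fun t ht v hv => (ht.2 v).2 hv
      tr := ?_ }
  · rintro ⟨z, hz, hzO⟩
    rw [Submodule.coe_zero, zero_add] at hzO
    exact hZ z hz hzO
  · rintro c hc0 v ⟨z, hz, hzO⟩
    refine ⟨c • z, Submodule.smul_mem _ _ hz, ?_⟩
    have := hc.smul c hc0 _ hzO
    rwa [smul_add] at this
  · rintro v ⟨z, hz, hzO⟩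
    have h4 := hO.iso _ hzO
    rw [map_add, map_add, LinearMap.add_apply, LinearMap.add_apply, hzU z hz v, hzz z hz z hz,
      hB.swap_zero (hzU z hz v), add_zero, add_zero, add_zero] at h4
    exact h4
  · rintro x ⟨z, hz, hzO⟩ y ⟨z', hz', hzO'⟩ hxy
    have h4 : B ((x : V) + z) ((y : V) + z') = 0 := by
      rw [map_add, map_add, LinearMap.add_apply, LinearMap.add_apply, hzU z hz y, hzz z hz z' hz',
        hB.swap_zero (hzU z' hz' x), add_zero, add_zero, add_zero]
      exact hxy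
    obtain ⟨c, hc'⟩ := Submodule.mem_span_singleton.1 (h1 _ hzO _ hzO' h4)
    refine Submodule.mem_span_singleton.2 ⟨c, Subtype.ext ?_⟩
    have h5 := congrArg (prj B e f) hc'
    rw [map_smul, map_add, map_add, prj_of_mem x.2, prj_of_mem y.2, prj_of_mem_span h hz, prj_of_mem_span h hz',
      add_zero, add_zero] at h5
    exact h5
  · intro M hM hTI
    obtain ⟨u, hu, hW⟩ := exists_frame_of_ti hTI hM
    have hw := frame_append hB h hu
    have h4 := h3 (W F (Fin.append e (fun l => (u l : V))) (k + 3)) (by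
      rw [finrank_W hw.li le_rfl]; exact hk) (hw.W_ti _)
    obtain ⟨x, hx, hxO⟩ := h4
    rw [W_append_add, W_coe, hW] at hx
    obtain ⟨z, hz, y, hy, rfl⟩ := Submodule.mem_sup.1 hx
    obtain ⟨v, hv, rfl⟩ := hy
    exact ⟨v, hv, z, hz, by rw [add_comm]; exact hxO⟩
  · -- transitivity
    intro u u' hu hu' hflag _
    have hw := frame_append hB h hu
    have hw' := frame_append hB h hu'
    have hmeet : ∀ (u : Fin 3 → UU B e f) (i : ℕ),
        (∃ v ∈ W F (Fin.append e (fun l => (u l : V))) (k + i), v ∈ O) ↔ ∃ v ∈ W F u i, v ∈ O1 B O e f := by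
      intro u i
      rw [W_append_add, W_coe]
      constructor
      · rintro ⟨x, hx, hxO⟩
        obtain ⟨z, hz, y, hy, rfl⟩ := Submodule.mem_sup.1 hx
        obtain ⟨v, hv, rfl⟩ := hy
        exact ⟨v, hv, z, hz, by rw [add_comm]; exact hxO⟩
      · rintro ⟨v, hv, z, hz, hvO⟩
        exact ⟨(v : V) + z, Submodule.add_mem _ (Submodule.mem_sup_right ⟨v, hv, rfl⟩) (Submodule.mem_sup_left hz), hvO⟩
    obtain ⟨g, hg, hgW⟩ := flag_trans hA hw hw' (by
      intro l hl
      rcases Nat.le_total l k with hlk | hlk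
      · rw [W_append_le e _ hlk, W_append_le e _ hlk]
      · obtain ⟨i, rfl⟩ := Nat.exists_eq_add_of_le hlk
        refine nn_eq_of_iff hc h1 (hw.W_ti _) (hw'.W_ti _) ?_
        rw [hmeet, hmeet]
        exact hflag i)
    -- `g` fixes the span of `e`
    have hgZ : (Submodule.span F (Set.range e)).map (g.1 : V →ₗ[F] V) = Submodule.span F (Set.range e) := by
      have h4 := hgW k
      rwa [W_append_le e _ le_rfl, W_append_le e _ le_rfl, W_of_le e le_rfl] at h4
    have hgZ1 : ∀ z ∈ Submodule.span F (Set.range e), g • z ∈ Submodule.span F (Set.range e) := by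
      intro z hz
      rw [← hgZ]
      exact ⟨z, hz, rfl⟩
    have hgZ2 : ∀ z ∈ Submodule.span F (Set.range e), g⁻¹ • z ∈ Submodule.span F (Set.range e) := by
      intro z hz
      rw [← hgZ] at hz
      obtain ⟨z', hz', rfl⟩ := hz
      have : g⁻¹ • (g • z') = z' := inv_smul_smul g z'
      change g⁻¹ • (g • z') ∈ _
      rw [this]
      exact hz'
    have hperp : ∀ v : V, (∀ l, B (e l) v = 0) → ∀ l, B (e l) (g • v) = 0 := by
      intro v hv l
      have h4 := B_smul g (g⁻¹ • e l) v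
      rw [smul_inv_smul] at h4
      rw [h4]
      exact hzu _ (hgZ2 _ (Submodule.subset_span ⟨l, rfl⟩)) v hv
    -- the map
    let t0 : UU B e f →ₗ[F] UU B e f :=
      LinearMap.codRestrict (UU B e f) ((prj B e f).comp ((g.1 : V →ₗ[F] V).comp (UU B e f).subtype))
        (fun v => prj_mem h _)
    have ht0 : ∀ v, ((t0 v : UU B e f) : V) = prj B e f (g • (v : V)) := fun v => rfl
    have hdiff : ∀ v : UU B e f, ∃ z ∈ Submodule.span F (Set.range e), g • (v : V) = (t0 v : V) + z := by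
      intro v
      refine ⟨g • (v : V) - prj B e f (g • (v : V)), sub_prj_mem (hperp v v.2.1), ?_⟩
      rw [ht0, add_sub_cancel]
    have hiso : ∀ v w, rB B e f (t0 v) (t0 w) = rB B e f v w := by
      intro v w
      obtain ⟨z, hz, hv⟩ := hdiff v
      obtain ⟨z', hz', hw⟩ := hdiff w
      rw [rB_apply, rB_apply, ← B_smul g (v : V) (w : V), hv, hw, map_add, map_add, LinearMap.add_apply,
        LinearMap.add_apply, hzU z hz, hzz z hz z' hz', hB.swap_zero (hzU z' hz' _), add_zero, add_zero, add_zero]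
    have hinj : Function.Injective t0 := by
      rw [injective_iff_map_eq_zero]
      intro v hv
      apply (hform_rB hB h).eq_zero
      intro w
      rw [← hiso, hv, map_zero, LinearMap.zero_apply]
    let t : UU B e f ≃ₗ[F] UU B e f := LinearEquiv.ofInjectiveEndo t0 hinj
    have ht : ∀ v, t v = t0 v := fun v => rfl
    have hKO : ∀ v, t v ∈ O1 B O e f ↔ v ∈ O1 B O e f := by
      intro v
      obtain ⟨z', hz', hv⟩ := hdiff v
      rw [ht]
      constructor
      · rintro ⟨z, hz, hzO⟩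
        refine ⟨g⁻¹ • (z - z'), hgZ2 _ (Submodule.sub_mem _ hz hz'), ?_⟩
        rw [← hO.inv g hg]
        have h4 : g • ((v : V) + g⁻¹ • (z - z')) = g • (v : V) + g • (g⁻¹ • (z - z')) := map_add g.1 _ _
        rw [h4, smul_inv_smul, hv]
        have h5 : (t0 v : V) + z' + (z - z') = (t0 v : V) + z := by abel
        rw [h5]
        exact hzO
      · rintro ⟨z, hz, hzO⟩
        refine ⟨z' + g • z, Submodule.add_mem _ hz' (hgZ1 z hz), ?_⟩
        have h4 : g • ((v : V) + z) = g • (v : V) + g • z := map_add g.1 _ _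
        have h5 := (hO.inv g hg _).2 hzO
        rw [h4, hv] at h5
        rwa [← add_assoc]
    refine ⟨t, ⟨hiso, hKO⟩, fun i => ?_⟩
    have hle : (W F u i).map (t : UU B e f →ₗ[F] UU B e f) ≤ W F u' i := by
      rintro _ ⟨v, hv, rfl⟩
      change t0 v ∈ W F u' i
      have h4 : g.1 (v : V) ∈ W F (Fin.append e (fun l => (u' l : V))) (k + i) := by
        rw [← hgW (k + i)]
        refine ⟨(v : V), ?_, rfl⟩
        rw [W_append_add, W_coe]
        exact Submodule.mem_sup_right ⟨v, hv, rfl⟩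
      rw [W_append_add, W_coe] at h4
      obtain ⟨z, hz, y, hy, e1⟩ := Submodule.mem_sup.1 h4
      obtain ⟨v', hv', rfl⟩ := hy
      have h5 : t0 v = v' := by
        apply Subtype.ext
        rw [ht0]
        change prj B e f (g.1 (v : V)) = v'
        rw [← e1, map_add, prj_of_mem_span h hz, zero_add]
        exact prj_of_mem v'.2
      rw [h5]
      exact hv'
    refine Submodule.eq_of_le_of_finrank_eq hle ?_
    rw [LinearEquiv.finrank_map_eq]
    rcases Nat.le_total i 3 with hi | hi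
    · rw [finrank_W hu.li hi, finrank_W hu'.li hi]
    · rw [W_of_le u hi, W_of_le u' hi, finrank_span_eq_card hu.li, finrank_span_eq_card hu'.li]

/-- **partial ovoids meeting all generators do not occur** -/
theorem even_false {q : ℕ} (hF : Fintype.card F = q ^ 2) (hB : HForm B) {m : ℕ} (hV : finrank F V = 2 * m) (hm : 3 ≤ m)
    {K : Subgroup (SIso B)} {O : Set V} (hO : Orb K O) (hA : AffP K O)
    (h1 : ∀ x ∈ O, ∀ y ∈ O, B x y = 0 → y ∈ Submodule.span F {x})
    (h3 : ∀ M : Submodule F V, finrank F M = m → TI B M → ∃ x ∈ M, x ∈ O) : False := by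
  classical
  obtain ⟨k, rfl⟩ : ∃ k, m = k + 3 := ⟨m - 3, by omega⟩
  have hc : Cone F O := Orb.cone hO
  obtain ⟨M, -, hTI, hM⟩ := exists_ti_le hB (ti_bot (B := B)) (k := k + 3) (by rw [finrank_bot]; omega) (by rw [hV])
  obtain ⟨x, hx, hxO⟩ := h3 M hM hTI
  have hx0 := hc.ne hxO
  -- a complement of `x` in `M`
  obtain ⟨C, hC⟩ := Submodule.exists_isCompl (Submodule.span F {(⟨x, hx⟩ : M)})
  have hx0' : (⟨x, hx⟩ : M) ≠ 0 := fun e => hx0 (congrArg Subtype.val e)
  have hCd : finrank F (C.map M.subtype) = k + 2 := by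
    have h4 := Submodule.finrank_add_eq_of_isCompl hC
    rw [finrank_span_singleton hx0', hM] at h4
    rw [Submodule.finrank_map_subtype_eq]
    omega
  have hCM : C.map M.subtype ≤ M := Submodule.map_subtype_le M C
  have hxC : ∀ z ∈ C.map M.subtype, z ∉ O := by
    rintro _ ⟨z, hz, rfl⟩ hzO
    have h4 := h1 x hxO z hzO (hTI x hx z z.2)
    obtain ⟨c, hc'⟩ := Submodule.mem_span_singleton.1 h4
    have h5 : z ∈ Submodule.span F {(⟨x, hx⟩ : M)} ⊓ C :=
      ⟨Submodule.mem_span_singleton.2 ⟨c, Subtype.ext hc'⟩, hz⟩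
    rw [hC.inf_eq_bot, Submodule.mem_bot] at h5
    rw [h5] at hzO
    exact hc.zero hzO
  obtain ⟨u, hu, hW⟩ := exists_frame_of_ti (TI.mono hTI hCM) hCd
  -- the first `k` vectors
  have he : Frame B (fun l : Fin k => u (Fin.castLE (by omega) l)) :=
    ⟨hu.li.comp _ (Fin.castLE_injective _), fun i l => hu.ti _ _⟩
  obtain ⟨f, h4, h5⟩ := exists_dual_frame hF hB he
  have h : HP B (fun l : Fin k => u (Fin.castLE (by omega) l)) f := by
    refine ⟨he.ti, h5, h4, fun i l => ?_⟩
    rw [sw hB, h4]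
    by_cases e1 : i = l
    · rw [if_pos e1, if_pos e1.symm, map_one]
    · rw [if_neg e1, if_neg (Ne.symm e1), map_zero]
  refine six_false hF (sixD hB hV hO hA h1 h3 rfl h fun z hz => hxC z ?_)
  have h6 : Submodule.span F (Set.range fun l : Fin k => u (Fin.castLE (by omega) l)) ≤ C.map M.subtype := by
    rw [← hW, Submodule.span_le]
    rintro _ ⟨l, rfl⟩
    exact mem_W u (by rw [Fin.val_castLE]; omega)
  exact h6 hz

end

end Cfsg.Agent.H450.UF.Red
end

-- part: H450/UF/Ovoid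
section
/-!
# No ovoids in Hermitian spaces of odd dimension (helper450, for helper449, S2196)

`no_ovoid` : there is no set `O` of nonzero vectors, closed under nonzero scalars, with `|O| = (q² - 1) (q^n + 1)` and
`|z^⊥ ∩ O| = q² - 1` for `z ∈ O` (`n ≥ 5`).
-/

set_option autoImplicit false
set_option linter.unusedSectionVars false

namespace Cfsg.Agent.H450.UF.Ovoid

open Module Cfsg.Agent.H91.U Cfsg.Agent.H450.UF

variable {F V : Type*} [Field F] [Fintype F] [AddCommGroup V] [Module F V] [FiniteDimensional F V] [Fintype V]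
  {σ : F →+* F} {B : V →ₛₗ[σ] V →ₗ[F] F}

variable (B) in
open Classical in
/-- the number of vectors of `O` orthogonal to `z` -/
noncomputable def N (O : Set V) (z : V) : ℤ := ∑ v : V, if v ∈ O ∧ B v z = 0 then 1 else 0

theorem card_sub (C : Submodule F V) : Nat.card C = Fintype.card F ^ finrank F C := by
  rw [Module.natCard_eq_pow_finrank (K := F), Nat.card_eq_fintype_card]

theorem finrank_sup_span {C : Submodule F V} {v : V} (hv : v ∉ C) :
    finrank F (C ⊔ Submodule.span F {v} : Submodule F V) = finrank F C + 1 := by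
  have h4 : C ⊓ Submodule.span F {v} = ⊥ := by
    rw [eq_bot_iff]
    rintro x ⟨hx1, hx2⟩
    obtain ⟨c, rfl⟩ := Submodule.mem_span_singleton.1 hx2
    by_cases hc : c = 0
    · rw [hc, zero_smul]; exact Submodule.zero_mem _
    · exact absurd ((Submodule.smul_mem_iff _ hc).1 hx1) hv
  have hz0 : v ≠ 0 := fun e => hv (e ▸ C.zero_mem)
  have h5 := Submodule.finrank_sup_add_finrank_inf_eq C (Submodule.span F {v})
  rw [h4, finrank_bot, finrank_span_singleton hz0] at h5
  omega

theorem ncard_eq_sum (O : Set V) [DecidablePred (· ∈ O)] : (O.ncard : ℤ) = ∑ v : V, if v ∈ O then (1 : ℤ) else 0 := by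
  rw [← Finset.sum_filter, Finset.sum_const, nsmul_eq_mul, mul_one, ← Nat.card_coe_set_eq, Nat.card_eq_fintype_card,
    ← Fintype.card_subtype]

/-- **double counting** -/
theorem sum_N (hB : HForm B) (O : Set V) (C : Submodule F V) {n d : ℕ} (hn : finrank F V = n) (hd : finrank F C = d)
    (hdn : d < n) [DecidablePred (· ∈ perp B C)] :
    (∑ z : V, if z ∈ perp B C then N B O z else 0) =
      (((C : Set V) ∩ O).ncard : ℤ) * (Fintype.card F : ℤ) ^ (n - d) +
        ((O.ncard : ℤ) - (((C : Set V) ∩ O).ncard : ℤ)) * (Fintype.card F : ℤ) ^ (n - d - 1) := by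
  classical
  -- the cardinalities
  have hcard : ∀ v : V, (∑ z : V, if z ∈ perp B C ∧ B v z = 0 then (1 : ℤ) else 0) =
      (if v ∈ C then (Fintype.card F : ℤ) ^ (n - d) else (Fintype.card F : ℤ) ^ (n - d - 1)) := by
    intro v
    have h1 : (∑ z : V, if z ∈ perp B C ∧ B v z = 0 then (1 : ℤ) else 0) =
        (Nat.card (perp B (C ⊔ Submodule.span F {v})) : ℤ) := by
      have h2 : ∀ z : V, (z ∈ perp B C ∧ B v z = 0) ↔ z ∈ ((perp B (C ⊔ Submodule.span F {v}) : Submodule F V) : Set V) := by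
        intro z
        constructor
        · rintro ⟨h3, h4⟩ w hw
          obtain ⟨a, ha, b, hb, rfl⟩ := Submodule.mem_sup.1 hw
          obtain ⟨c, rfl⟩ := Submodule.mem_span_singleton.1 hb
          rw [map_add, h3 a ha, smul_right, hB.swap_zero h4, mul_zero, add_zero]
        · intro h
          exact ⟨fun w hw => h w (Submodule.mem_sup_left hw),
            hB.swap_zero (h v (Submodule.mem_sup_right (Submodule.mem_span_singleton_self v)))⟩
      simp only [h2]
      rw [← ncard_eq_sum]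
      norm_cast
    rw [h1, card_sub]
    have h5 := finrank_perp hB (C ⊔ Submodule.span F {v})
    split_ifs with hv
    · have h6 : C ⊔ Submodule.span F {v} = C := by
        rw [sup_eq_left, Submodule.span_le]
        rintro _ rfl
        exact hv
      rw [h6] at h5 ⊢
      have h7 : finrank F (perp B C) = n - d := by omega
      rw [h7]
      push_cast
      rfl
    · rw [finrank_sup_span hv] at h5
      have h7 : finrank F (perp B (C ⊔ Submodule.span F {v})) = n - d - 1 := by omega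
      rw [h7]
      push_cast
      rfl
  have h1 : (∑ z : V, if z ∈ perp B C then N B O z else 0) =
      ∑ v : V, if v ∈ O then (∑ z : V, if z ∈ perp B C ∧ B v z = 0 then (1 : ℤ) else 0) else 0 := by
    have h2 : ∀ z : V, (if z ∈ perp B C then N B O z else 0) =
        ∑ v : V, if v ∈ O ∧ z ∈ perp B C ∧ B v z = 0 then (1 : ℤ) else 0 := by
      intro z
      split_ifs with hz
      · unfold N
        exact Finset.sum_congr rfl fun v _ => by simp only [hz, true_and]
      · refine (Finset.sum_eq_zero fun v _ => if_neg ?_).symm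
        exact fun h => hz h.2.1
    simp only [h2]
    rw [Finset.sum_comm]
    refine Finset.sum_congr rfl fun v _ => ?_
    split_ifs with hv
    · exact Finset.sum_congr rfl fun z _ => by simp only [hv, true_and]
    · exact Finset.sum_eq_zero fun z _ => if_neg fun h => hv h.1
  rw [h1]
  simp only [hcard]
  have h3 : ∀ v : V, (if v ∈ O then (if v ∈ C then (Fintype.card F : ℤ) ^ (n - d) else
      (Fintype.card F : ℤ) ^ (n - d - 1)) else 0) =
      (if v ∈ (C : Set V) ∩ O then (1 : ℤ) else 0) * ((Fintype.card F : ℤ) ^ (n - d) - (Fintype.card F : ℤ) ^ (n - d - 1)) +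
      (if v ∈ O then (1 : ℤ) else 0) * (Fintype.card F : ℤ) ^ (n - d - 1) := by
    intro v
    by_cases h4 : v ∈ O <;> by_cases h5 : v ∈ C
    · rw [if_pos h4, if_pos h5, if_pos ⟨h5, h4⟩, if_pos h4]; ring
    · rw [if_pos h4, if_neg h5, if_neg (fun h => h5 h.1), if_pos h4]; ring
    · rw [if_neg h4, if_neg (fun h => h4 h.2), if_neg h4]; ring
    · rw [if_neg h4, if_neg (fun h => h4 h.2), if_neg h4]; ring
  simp only [h3]
  rw [Finset.sum_add_distrib, ← Finset.sum_mul, ← Finset.sum_mul, ← ncard_eq_sum, ← ncard_eq_sum]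
  ring

theorem N_eq (O : Set V) (z : V) :
    N B O z = (((perp B (Submodule.span F {z}) : Submodule F V) : Set V) ∩ O).ncard := by
  classical
  rw [ncard_eq_sum]
  unfold N
  refine Finset.sum_congr rfl fun v _ => ?_
  have h : v ∈ ((perp B (Submodule.span F {z}) : Submodule F V) : Set V) ∩ O ↔ v ∈ O ∧ B v z = 0 := by
    constructor
    · rintro ⟨h1, h2⟩
      exact ⟨h2, h1 z (Submodule.mem_span_singleton_self z)⟩
    · rintro ⟨h1, h2⟩
      refine ⟨?_, h1⟩
      intro w hw
      obtain ⟨c, rfl⟩ := Submodule.mem_span_singleton.1 hw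
      rw [smul_right, h2, mul_zero]
  simp only [h]

/-- **no ovoids** -/
theorem no_ovoid (hB : HForm B) {q n : ℕ} (hF : Fintype.card F = q ^ 2) (hn : finrank F V = n) (h5 : 5 ≤ n) {O : Set V}
    (h0 : (0 : V) ∉ O) (hs : ∀ c : F, c ≠ 0 → ∀ v ∈ O, c • v ∈ O) (hcard : O.ncard = (q ^ 2 - 1) * (q ^ n + 1))
    (h1 : ∀ z ∈ O, (((perp B (Submodule.span F {z}) : Submodule F V) : Set V) ∩ O).ncard = q ^ 2 - 1) : False := by
  classical
  have hq1 : 1 < Fintype.card F := Fintype.one_lt_card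
  have hq2 : 2 ≤ q := by
    by_contra h
    have : q = 0 ∨ q = 1 := by omega
    rcases this with rfl | rfl <;> omega
  have hQ1 : 1 ≤ q ^ 2 := by omega
  obtain ⟨m, rfl⟩ : ∃ m, n = m + 2 := ⟨n - 2, by omega⟩
  set Q : ℤ := (q : ℤ) ^ 2 with hQ
  set a : ℤ := (q : ℤ) ^ m with ha
  have hFQ : (Fintype.card F : ℤ) = Q := by rw [hF]; push_cast; rfl
  have hcO : (O.ncard : ℤ) = (Q - 1) * (Q * a + 1) := by
    rw [hcard, Nat.cast_mul, Nat.cast_sub hQ1]
    push_cast
    rw [pow_add]
    ring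
  have hQm : Q ^ m = a ^ 2 := by rw [hQ, ha, ← pow_mul, ← pow_mul, mul_comm]
  have hspan : ∀ v ∈ O, ((((Submodule.span F {v} : Submodule F V) : Set V) ∩ O).ncard : ℤ) = Q - 1 := by
    intro v hv
    have hv0 : v ≠ 0 := fun e => h0 (e ▸ hv)
    have e : ((Submodule.span F {v} : Submodule F V) : Set V) ∩ O = ((Submodule.span F {v} : Submodule F V) : Set V) \ {0} := by
      ext x
      constructor
      · exact fun hx => ⟨hx.1, fun e => h0 (Set.mem_singleton_iff.1 e ▸ hx.2)⟩
      · rintro ⟨hx, hx0⟩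
        obtain ⟨c, rfl⟩ := Submodule.mem_span_singleton.1 hx
        have hc : c ≠ 0 := by
          rintro rfl
          exact hx0 (by rw [zero_smul]; rfl)
        exact ⟨hx, hs c hc v hv⟩
    rw [e, Set.ncard_sdiff_singleton_of_mem (Submodule.zero_mem _), ← Nat.card_coe_set_eq]
    have h2 : Nat.card ((Submodule.span F {v} : Submodule F V) : Set V) = q ^ 2 := by
      have := card_sub (Submodule.span F {v})
      rw [finrank_span_singleton hv0, pow_one, hF] at this
      exact this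
    rw [h2, Nat.cast_sub hQ1]
    push_cast
    rfl
  have hN1 : ∀ z ∈ O, N B O z = Q - 1 := by
    intro z hz
    rw [N_eq, h1 z hz, Nat.cast_sub hQ1]
    push_cast
    rfl
  -- first moment
  have hS1 : ∑ z : V, N B O z = (O.ncard : ℤ) * (Q * a ^ 2) := by
    have h := sum_N hB O (⊥ : Submodule F V) hn (finrank_bot F V) (by omega)
    have e1 : ∀ z : V, z ∈ perp B (⊥ : Submodule F V) := by
      intro z w hw
      rw [(Submodule.mem_bot F).1 hw, map_zero]
    simp only [e1, if_true] at h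
    have e2 : ((⊥ : Submodule F V) : Set V) ∩ O = ∅ := by
      ext x
      constructor
      · rintro ⟨h2, h3⟩
        exact absurd ((Submodule.mem_bot F).1 h2 ▸ h3) h0
      · exact fun h => h.elim
    rw [e2, Set.ncard_empty, Nat.cast_zero, zero_mul, zero_add, sub_zero, hFQ] at h
    rw [h]
    have : m + 2 - 0 - 1 = m + 1 := by omega
    rw [this, pow_succ, hQm]
    ring
  -- second moment
  have hS2 : ∑ z : V, N B O z * N B O z =
      (O.ncard : ℤ) * ((Q - 1) * (Q * a ^ 2) + ((O.ncard : ℤ) - (Q - 1)) * a ^ 2) := by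
    have h2 : ∀ v ∈ O, (∑ z : V, if B v z = 0 then N B O z else 0) =
        (Q - 1) * (Q * a ^ 2) + ((O.ncard : ℤ) - (Q - 1)) * a ^ 2 := by
      intro v hv
      have hv0 : v ≠ 0 := fun e => h0 (e ▸ hv)
      have h := sum_N hB O (Submodule.span F {v}) hn (finrank_span_singleton hv0) (by omega)
      rw [hspan v hv, hFQ] at h
      have e1 : ∀ z : V, z ∈ perp B (Submodule.span F {v}) ↔ B v z = 0 := by
        intro z
        constructor
        · exact fun h => hB.swap_zero (h v (Submodule.mem_span_singleton_self v))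
        · intro h w hw
          obtain ⟨c, rfl⟩ := Submodule.mem_span_singleton.1 hw
          rw [smul_right, hB.swap_zero h, mul_zero]
      simp only [e1] at h
      rw [h]
      have e3 : m + 2 - 1 = m + 1 := by omega
      have e4 : m + 2 - 1 - 1 = m := by omega
      rw [e4, e3, pow_succ, hQm]
      ring
    have h3 : ∀ z : V, N B O z * N B O z = ∑ v : V, if v ∈ O then (if B v z = 0 then N B O z else 0) else 0 := by
      intro z
      conv_lhs => enter [1]; rw [N]
      rw [Finset.sum_mul]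
      refine Finset.sum_congr rfl fun v _ => ?_
      by_cases h4 : v ∈ O <;> by_cases h5 : B v z = 0 <;> simp [h4, h5]
    simp only [h3]
    rw [Finset.sum_comm]
    have h4 : ∀ v : V, (∑ z : V, if v ∈ O then (if B v z = 0 then N B O z else 0) else 0) =
        (if v ∈ O then (1 : ℤ) else 0) * ((Q - 1) * (Q * a ^ 2) + ((O.ncard : ℤ) - (Q - 1)) * a ^ 2) := by
      intro v
      by_cases hv : v ∈ O
      · simp only [hv, if_true, one_mul]
        exact h2 v hv
      · simp only [hv, if_false, zero_mul, Finset.sum_const_zero]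
    simp only [h4]
    rw [← Finset.sum_mul, ← ncard_eq_sum]
  have hS0 : (Fintype.card V : ℤ) = Q ^ 2 * a ^ 2 := by
    rw [Module.card_eq_pow_finrank (K := F), hn, Nat.cast_pow, hFQ, pow_add, hQm]
    ring
  have hN0 : N B O 0 = O.ncard := by
    rw [N, ncard_eq_sum]
    refine Finset.sum_congr rfl fun v _ => ?_
    simp only [map_zero, and_true]
  -- the variance
  set c : ℤ := (Q - 1) * (a + 1) with hc
  have hvar : ∑ z : V, (N B O z - c) ^ 2 =
      ∑ z : V, ((if z = 0 then ((O.ncard : ℤ) - c) ^ 2 else 0) + if z ∈ O then (Q - 1 - c) ^ 2 else 0) := by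
    have e1 : ∀ z : V, (N B O z - c) ^ 2 = N B O z * N B O z - 2 * c * N B O z + c ^ 2 := fun z => by ring
    simp only [e1]
    rw [Finset.sum_add_distrib, Finset.sum_sub_distrib, ← Finset.mul_sum, hS2, hS1, Finset.sum_const,
      Finset.card_univ, nsmul_eq_mul, hS0, Finset.sum_add_distrib, Finset.sum_ite_eq' Finset.univ (0 : V)]
    have e2 : (∑ z : V, if z ∈ O then (Q - 1 - c) ^ 2 else 0) = (O.ncard : ℤ) * (Q - 1 - c) ^ 2 := by
      rw [ncard_eq_sum, Finset.sum_mul]
      exact Finset.sum_congr rfl fun z _ => by split_ifs <;> ring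
    rw [e2, if_pos (Finset.mem_univ _), hcO, hc]
    ring
  have hNc : ∀ z : V, z ≠ 0 → z ∉ O → N B O z = c := by
    have h2 : ∑ z : V, (N B O z - c) ^ 2 - ∑ z : V, ((if z = 0 then ((O.ncard : ℤ) - c) ^ 2 else 0) +
        if z ∈ O then (Q - 1 - c) ^ 2 else 0) = 0 := by rw [hvar, sub_self]
    rw [← Finset.sum_sub_distrib] at h2
    have h3 : ∀ z ∈ (Finset.univ : Finset V), 0 ≤ (N B O z - c) ^ 2 - ((if z = 0 then ((O.ncard : ℤ) - c) ^ 2 else 0) +
        if z ∈ O then (Q - 1 - c) ^ 2 else 0) := by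
      intro z _
      by_cases hz : z = 0
      · subst hz
        rw [if_pos rfl, if_neg h0, hN0]
        simp
      · rw [if_neg hz, zero_add]
        by_cases hzO : z ∈ O
        · rw [if_pos hzO, hN1 z hzO]
          simp
        · rw [if_neg hzO, sub_zero]
          exact sq_nonneg _
    intro z hz hzO
    have h4 := (Finset.sum_eq_zero_iff_of_nonneg h3).1 h2 z (Finset.mem_univ z)
    rw [if_neg hz, if_neg hzO, add_zero, sub_zero, sq_eq_zero_iff, sub_eq_zero] at h4
    exact h4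
  -- two independent vectors of `O`
  have hqn : 0 < q ^ (m + 2) := by positivity
  have hQ2 : 0 < q ^ 2 - 1 := by
    have : 2 ^ 2 ≤ q ^ 2 := Nat.pow_le_pow_left hq2 2
    omega
  obtain ⟨x, hx⟩ : O.Nonempty := by
    rw [← Set.ncard_pos, hcard]
    (clear * - hq2 hQ2; positivity)
  have hx0 : x ≠ 0 := fun e => h0 (e ▸ hx)
  obtain ⟨y, hy, hyx⟩ : ∃ y ∈ O, y ∉ Submodule.span F {x} := by
    by_contra hcon
    push Not at hcon
    have h2 : ((Submodule.span F {x} : Submodule F V) : Set V) ∩ O = O := Set.inter_eq_right.2 hcon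
    have h3 := hspan x hx
    rw [h2, hcO] at h3
    have h4 : (0 : ℤ) < Q - 1 := by
      have : ((q ^ 2 - 1 : ℕ) : ℤ) = Q - 1 := by rw [Nat.cast_sub hQ1]; push_cast; rfl
      rw [← this]
      exact_mod_cast hQ2
    have ha0 : (0 : ℤ) < a := by rw [ha]; positivity
    have hQ0 : (0 : ℤ) < Q := by rw [hQ]; positivity
    have h5 : Q * a = 0 := by
      have : (Q - 1) * (Q * a) = 0 := by linear_combination h3
      exact (mul_eq_zero.1 this).resolve_left h4.ne'
    have := mul_pos hQ0 ha0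
    omega
  set L : Submodule F V := Submodule.span F {x} ⊔ Submodule.span F {y} with hL
  have hLd : finrank F L = 2 := by
    rw [hL, finrank_sup_span hyx, finrank_span_singleton hx0]
  have hxL : x ∈ L := Submodule.mem_sup_left (Submodule.mem_span_singleton_self x)
  have hyL : y ∈ L := Submodule.mem_sup_right (Submodule.mem_span_singleton_self y)
  -- the hyperplanes containing `L`
  have hNL : ∀ z ∈ perp B L, z ≠ 0 → N B O z = c := by
    intro z hz hz0
    refine hNc z hz0 fun hzO => ?_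
    -- `z ∈ O` : then `z^⊥` contains only one point of `O`
    have hB0 : B x z = 0 := hB.swap_zero (hz x hxL)
    have hB1 : B y z = 0 := hB.swap_zero (hz y hyL)
    have h2 : ((Submodule.span F {x} : Submodule F V) : Set V) ∩ O ⊆
        ((perp B (Submodule.span F {z}) : Submodule F V) : Set V) ∩ O := by
      rintro v ⟨hv, hvO⟩
      refine ⟨?_, hvO⟩
      obtain ⟨s, rfl⟩ := Submodule.mem_span_singleton.1 hv
      intro w hw
      obtain ⟨t, rfl⟩ := Submodule.mem_span_singleton.1 hw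
      rw [smul_left, smul_right, hB0, mul_zero, mul_zero]
    have h3 : (((Submodule.span F {x} : Submodule F V) : Set V) ∩ O).ncard = q ^ 2 - 1 := by
      have h4 := hspan x hx
      have h5 : ((q ^ 2 - 1 : ℕ) : ℤ) = Q - 1 := by rw [Nat.cast_sub hQ1]; push_cast; rfl
      rw [← h5] at h4
      exact_mod_cast h4
    have h4 := Set.eq_of_subset_of_ncard_le h2 (by rw [h1 z hzO, h3]) (Set.toFinite _)
    have h5 : y ∈ ((perp B (Submodule.span F {z}) : Submodule F V) : Set V) ∩ O := by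
      refine ⟨?_, hy⟩
      intro w hw
      obtain ⟨t, rfl⟩ := Submodule.mem_span_singleton.1 hw
      rw [smul_right, hB1, mul_zero]
    rw [← h4] at h5
    exact hyx h5.1
  have hSL := sum_N hB O L hn hLd (by omega)
  have hperpL : (∑ z : V, if z ∈ perp B L then (1 : ℤ) else 0) = Q ^ m := by
    have e1 : (∑ z : V, if z ∈ perp B L then (1 : ℤ) else 0) = (Nat.card (perp B L) : ℤ) := by
      rw [show (Nat.card (perp B L) : ℤ) = (((perp B L : Submodule F V) : Set V).ncard : ℤ) by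
        rw [← Nat.card_coe_set_eq]; rfl, ncard_eq_sum]
      rfl
    have h5 := finrank_perp hB L
    rw [e1, card_sub, Nat.cast_pow, hFQ]
    congr 1
    omega
  have hSL' : (∑ z : V, if z ∈ perp B L then N B O z else 0) = (O.ncard : ℤ) + (Q ^ m - 1) * c := by
    have e1 : ∀ z : V, (if z ∈ perp B L then N B O z else 0) =
        (if z = 0 then ((O.ncard : ℤ) - c) else 0) + (if z ∈ perp B L then (1 : ℤ) else 0) * c := by
      intro z
      by_cases hz : z = 0
      · subst hz
        rw [if_pos (Submodule.zero_mem _), if_pos rfl, if_pos (Submodule.zero_mem _), hN0]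
        ring
      · by_cases hzL : z ∈ perp B L
        · rw [if_pos hzL, if_neg hz, if_pos hzL, hNL z hzL hz]
          ring
        · rw [if_neg hzL, if_neg hz, if_neg hzL]
          ring
    simp only [e1]
    rw [Finset.sum_add_distrib, Finset.sum_ite_eq' Finset.univ (0 : V), if_pos (Finset.mem_univ _), ← Finset.sum_mul,
      hperpL]
    ring
  rw [hSL', hFQ] at hSL
  have e3 : m + 2 - 2 = m := by omega
  rw [e3] at hSL
  obtain ⟨X, hX⟩ : ∃ X : ℤ, (((L : Set V) ∩ O).ncard : ℤ) = X := ⟨_, rfl⟩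
  rw [hX, hcO] at hSL
  obtain ⟨r, rfl⟩ : ∃ r, m = r + 1 := ⟨m - 1, by omega⟩
  rw [Nat.add_sub_cancel, pow_succ] at hSL
  -- `X Q^r = (Q - 1) (Q^r + a)`
  have hQ0 : (Q - 1 : ℤ) ≠ 0 := by
    have : ((q ^ 2 - 1 : ℕ) : ℤ) = Q - 1 := by rw [Nat.cast_sub hQ1]; push_cast; rfl
    rw [← this]
    exact_mod_cast hQ2.ne'
  have hfin : X * Q ^ r = (Q - 1) * (Q ^ r + a) := by
    apply mul_left_cancel₀ hQ0
    linear_combination -hSL
  -- divisibility
  have hdvd : (q : ℤ) ^ (2 * r) ∣ (q : ℤ) ^ (r + 1) := by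
    have h2 : (q : ℤ) ^ (2 * r) ∣ (Q - 1) * (q : ℤ) ^ (r + 1) := by
      refine ⟨X - (Q - 1), ?_⟩
      rw [← ha, pow_mul, ← hQ]
      linear_combination -hfin
    have h3 : IsCoprime ((q : ℤ) ^ (2 * r)) (Q - 1) := by
      apply IsCoprime.pow_left
      refine ⟨q, -1, ?_⟩
      rw [hQ]
      ring
    exact h3.dvd_of_dvd_mul_left h2
  have h6 : q ^ (2 * r) ∣ q ^ (r + 1) := by exact_mod_cast hdvd
  have h7 := (Nat.pow_dvd_pow_iff_le_right (by omega : 1 < q)).1 h6
  omega

end Cfsg.Agent.H450.UF.Ovoid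
end

-- part: H449/U/One
section
/-!
# The case `b = 1` (helper449, for S2196)
-/

set_option autoImplicit false
set_option linter.unusedSectionVars false

namespace Cfsg.Agent.H449.U

open Module Cfsg.Agent.H91.U
open Cfsg.Agent.H950 (isoNum)

variable {F V : Type*} [Field F] [Fintype F] [AddCommGroup V] [Module F V] [FiniteDimensional F V] [Fintype V]
  {σ : F →+* F} {B : V →ₛₗ[σ] V →ₗ[F] F}

/-- sums of the normalised characteristic function over arbitrary subspaces -/
theorem sm_nf_gen {K : Subgroup (SIso B)} {O : Set V} (_ : Orb K O) (C : Submodule F V) :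
    sm (nf B O) C = (((C : Set V) ∩ O).ncard : ℝ) -
      (O.ncard : ℝ) / mu B * ({v : V | v ∈ C ∧ (v ≠ 0 ∧ B v v = 0)}.ncard : ℝ) := by
  classical
  unfold sm nf
  rw [ncard_eq_sum ((C : Set V) ∩ O), ncard_eq_sum {v : V | v ∈ C ∧ (v ≠ 0 ∧ B v v = 0)}, Finset.mul_sum,
    ← Finset.sum_sub_distrib]
  refine Finset.sum_congr rfl fun v _ => ?_
  have e : (v ∈ {v : V | v ∈ C ∧ (v ≠ 0 ∧ B v v = 0)}) = (v ∈ C ∧ (v ≠ 0 ∧ B v v = 0)) := rfl
  simp only [Set.mem_inter_iff, SetLike.mem_coe, e]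
  by_cases hv : v ∈ C
  · by_cases h0 : v ≠ 0 ∧ B v v = 0
    · simp only [hv, h0, true_and, if_true, and_self, ne_eq, not_false_eq_true, mul_one]
    · simp only [hv, true_and, if_true, if_neg h0, mul_zero]
  · simp only [hv, false_and, if_false, mul_zero, sub_zero]

theorem perp_one {K : Subgroup (SIso B)} {O : Set V} (hB : HForm B) (hO : Orb K O) (hZ : ZB B O 1) {x y : V}
    (hx : x ∈ O) (hy : y ∈ O) (hxy : B x y = 0) : y ∈ Submodule.span F {x} := by
  by_contra hcon
  have hx0 : x ≠ 0 := (Orb.cone hO).ne hx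
  have hli : LinearIndependent F ![x, y] := by
    rw [LinearIndependent.pair_iff' hx0]
    intro a e
    exact hcon (Submodule.mem_span_singleton.2 ⟨a, e⟩)
  have hxL : x ∈ Submodule.span F {x, y} := Submodule.subset_span (Or.inl rfl)
  have hyL : y ∈ Submodule.span F {x, y} := Submodule.subset_span (Or.inr rfl)
  have h1 := nn_pos hxL hx
  rcases hZ.line _ (finrank_span_pair hli) (ti_span_pair hB (hO.iso x hx) (hO.iso y hy) hxy) with h | h
  · omega
  · rw [one_mul] at h
    have h2 : ((Submodule.span F {x} : Submodule F V) : Set V) ∩ O = ((Submodule.span F {x, y} : Submodule F V) : Set V) ∩ O := by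
      refine Set.eq_of_subset_of_ncard_le ?_ ?_ (Set.toFinite _)
      · rintro v ⟨hv, hvO⟩
        exact ⟨Submodule.span_mono (by intro z hz; exact Or.inl hz) hv, hvO⟩
      · rw [ncard_span_of_mem (Orb.cone hO) hx]
        exact h.le
    have h3 : y ∈ ((Submodule.span F {x} : Submodule F V) : Set V) ∩ O := by
      rw [h2]; exact ⟨hyL, hy⟩
    exact hcon h3.1

theorem perp_one_inter {K : Subgroup (SIso B)} {O : Set V} (hB : HForm B) (hO : Orb K O) (hZ : ZB B O 1) {x : V}
    (hx : x ∈ O) : ((perp B (Submodule.span F {x}) : Submodule F V) : Set V) ∩ O =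
      ((Submodule.span F {x} : Submodule F V) : Set V) ∩ O := by
  ext v
  constructor
  · rintro ⟨h1, h2⟩
    exact ⟨perp_one hB hO hZ hx h2 (hB.swap_zero (mem_perp_span.1 h1)), h2⟩
  · rintro ⟨h1, h2⟩
    refine ⟨mem_perp_span.2 ?_, h2⟩
    obtain ⟨c, rfl⟩ := Submodule.mem_span_singleton.1 h1
    rw [smul_left', hO.iso x hx, mul_zero]

/-- **maximal totally isotropic subspaces** -/
theorem one_key {K : Subgroup (SIso B)} {O : Set V} (hB : HForm B) (hn : 6 ≤ finrank F V) (hO : Orb K O)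
    (hZ : ZB B O 1) {C : Submodule F V} (hC : TI B C) (hmax : finrank F V < 2 * (finrank F C + 1)) :
    (((C : Set V) ∩ O).ncard : ℝ) = (O.ncard : ℝ) / mu B * ((Nat.card C : ℝ) - 1) := by
  classical
  have ht : Tr1 B := fun j u u' hu hu' => Cfsg.Agent.H450.UF.exists_flag_map0 hB hu hu'
  obtain ⟨lam, hlam⟩ := exists_lam' ht hO
  obtain ⟨x, y, hx, hy0, hyy, hy, hxy⟩ := exists_mixed hB hO (by omega)
  have hx0 : x ≠ 0 := (Orb.cone hO).ne hx
  have hxx := hO.iso x hx
  -- the number of isotropic vectors orthogonal to `x`, `y`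
  have hcount : {v : V | v ∈ perp B (Submodule.span F {x}) ∧ (v ≠ 0 ∧ B v v = 0)}.ncard =
      {v : V | v ∈ perp B (Submodule.span F {y}) ∧ (v ≠ 0 ∧ B v v = 0)}.ncard := by
    obtain ⟨g, c, hc, hg⟩ := exists_smul_iso ht hx0 hxx hy0 hyy
    rw [← Set.ncard_image_of_injective _ (g.1.injective)]
    congr 1
    ext v
    have hsc : ∀ w, B w (g • x) = 0 ↔ B w y = 0 := by
      intro w
      rw [hg, smul_right', mul_eq_zero]
      exact ⟨fun h => h.resolve_left hc, Or.inr⟩
    constructor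
    · rintro ⟨w, ⟨h1, h2, h3⟩, rfl⟩
      change g • w ∈ perp B (Submodule.span F {y}) ∧ (g • w ≠ 0 ∧ B (g • w) (g • w) = 0)
      rw [mem_perp_span] at h1 ⊢
      rw [← hsc, B_smul, B_smul, Ne, smul_eq_zero']
      exact ⟨h1, h2, h3⟩
    · rintro ⟨h1, h2, h3⟩
      refine ⟨g⁻¹ • v, ?_, smul_inv_smul g v⟩
      change g⁻¹ • v ∈ perp B (Submodule.span F {x}) ∧ (g⁻¹ • v ≠ 0 ∧ B (g⁻¹ • v) (g⁻¹ • v) = 0)
      rw [mem_perp_span] at h1 ⊢
      rw [← hsc] at h1
      rw [B_smul, Ne, smul_eq_zero', ← B_smul g, smul_inv_smul]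
      exact ⟨h1, h2, h3⟩
  have h1 := hlam x hxx
  have h2 := hlam y hyy
  rw [sm_nf_gen hO, hcount] at h1
  rw [sm_nf_gen hO] at h2
  have e1 : nf B O x = 1 - (O.ncard : ℝ) / mu B := by
    unfold nf
    rw [if_pos hx, if_pos ⟨hx0, hxx⟩]
  have e2 : nf B O y = 0 - (O.ncard : ℝ) / mu B := by
    unfold nf
    rw [if_neg hy, if_pos ⟨hy0, hyy⟩]
  rw [e1] at h1
  rw [e2] at h2
  have hle : (((perp B (Submodule.span F {x}) : Submodule F V) : Set V) ∩ O).ncard ≤
      (((perp B (Submodule.span F {y}) : Submodule F V) : Set V) ∩ O).ncard := by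
    rw [perp_one_inter hB hO hZ hx]
    refine Set.ncard_le_ncard ?_ (Set.toFinite _)
    rintro v ⟨hv, hvO⟩
    refine ⟨mem_perp_span.2 ?_, hvO⟩
    obtain ⟨c, rfl⟩ := Submodule.mem_span_singleton.1 hv
    rw [smul_left', hxy, mul_zero]
  have hle' : ((((perp B (Submodule.span F {x}) : Submodule F V) : Set V) ∩ O).ncard : ℝ) ≤
      ((((perp B (Submodule.span F {y}) : Submodule F V) : Set V) ∩ O).ncard : ℝ) := by exact_mod_cast hle
  have hl0 : lam ≤ 0 := by linarith only [h1, h2, hle']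
  -- the sum over `C`
  have h3 := perp_sum (sum_nf hO) hlam hC
  have h4 : sm (nf B O) (perp B C) = sm (nf B O) C := by
    unfold sm
    refine Finset.sum_congr rfl fun v _ => ?_
    by_cases hv : v ≠ 0 ∧ B v v = 0
    · have h5 : v ∈ perp B C ↔ v ∈ C := by
        constructor
        · intro h6
          by_contra h7
          have h8 := Cfsg.Agent.H450.UF.ti_sup_span hB hC h6 hv.2
          have h9 := Cfsg.Agent.H450.UF.ti_two_mul_le hB h8
          have h10 : C < C ⊔ Submodule.span F {v} := by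
            refine lt_of_le_of_ne le_sup_left fun e => h7 ?_
            rw [e]
            exact Submodule.mem_sup_right (Submodule.mem_span_singleton_self v)
          have h11 := Submodule.finrank_lt_finrank_of_lt h10
          omega
        · intro h6 z hz
          exact hC v h6 z hz
      simp only [h5]
    · rw [nf_not hO hv, ite_self, ite_self]
  rw [h4] at h3
  have hq1 : (1 : ℝ) < Fintype.card F := by exact_mod_cast Fintype.one_lt_card
  have hq : (0 : ℝ) < 1 - (Fintype.card F : ℝ)⁻¹ := by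
    have := inv_lt_one_of_one_lt₀ hq1
    linarith only [this]
  have hCp : (0 : ℝ) < Nat.card C := by exact_mod_cast Nat.card_pos
  have h5 : ((Nat.card C : ℝ) * (1 - (Fintype.card F : ℝ)⁻¹) - lam) * sm (nf B O) C = 0 := by
    rw [sub_mul, h3, sub_self]
  have h6 : sm (nf B O) C = 0 := by
    refine (mul_eq_zero.1 h5).resolve_left ?_
    have := mul_pos hCp hq
    linarith only [h1, h2, hle', this]
  rw [sm_nf hC] at h6
  linarith only [h6]

theorem mu_eq {q : ℕ} (hF : Fintype.card F = q ^ 2) (hB : HForm B) : mu B = (isoNum q (finrank F V) : ℝ) := by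
  unfold mu
  rw [← Cfsg.Agent.H450.UF.card_iso hF hB, ← Nat.card_coe_set_eq]
  congr 1
  refine Nat.card_congr (Equiv.subtypeEquivRight fun v => ?_)
  exact ⟨fun h => ⟨h.2, h.1⟩, fun h => ⟨h.2, h.1⟩⟩

/-- **the case `b = 1` does not occur** -/
theorem one_false {q : ℕ} (hF : Fintype.card F = q ^ 2) (hB : HForm B) (hn : 6 ≤ finrank F V)
    {K : Subgroup (SIso B)} {O : Set V} (hO : Orb K O) (hA : AffP K O) (hZ : ZB B O 1) : False := by
  classical
  have hmu := hO.mu_ne
  have hq1 : 1 < Fintype.card F := Fintype.one_lt_card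
  have hOp : 0 < O.ncard := (Set.ncard_pos (Set.toFinite _)).2 hO.ne
  have hmup : (0 : ℝ) < mu B := lt_of_le_of_ne (by unfold mu; positivity) (Ne.symm hmu)
  -- maximal subspaces meet `O`
  have hmeet : ∀ C : Submodule F V, TI B C → finrank F V < 2 * (finrank F C + 1) → ∃ x ∈ C, x ∈ O := by
    intro C hC hmax
    by_contra hcon
    push Not at hcon
    have h1 := one_key hB hn hO hZ hC hmax
    have h2 : ((C : Set V) ∩ O).ncard = 0 := nn_eq_zero hcon
    rw [h2, Nat.cast_zero] at h1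
    have h3 : (1 : ℝ) < Nat.card C := by
      have : 1 < Nat.card C := by
        rw [Module.natCard_eq_pow_finrank (K := F), Nat.card_eq_fintype_card]
        exact Nat.one_lt_pow (by omega) hq1
      exact_mod_cast this
    have h4 : (0 : ℝ) < (O.ncard : ℝ) / mu B * ((Nat.card C : ℝ) - 1) := by
      have : (0 : ℝ) < O.ncard := by exact_mod_cast hOp
      have h5 : (0 : ℝ) < (Nat.card C : ℝ) - 1 := by linarith only [h3]
      (clear * - hOp hmup h3; positivity)
    linarith only [h1, h4]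
  rcases Nat.even_or_odd' (finrank F V) with ⟨m, hm | hm⟩
  · exact Cfsg.Agent.H450.UF.Red.even_false hF hB hm (by omega) hO hA
      (fun x hx y hy h => perp_one hB hO hZ hx hy h) (fun M hM hTI => hmeet M hTI (by omega))
  · -- odd dimension
    obtain ⟨C, -, hC, hCm⟩ := Cfsg.Agent.H450.UF.exists_ti_le hB Cfsg.Agent.H450.UF.ti_bot (k := m) (by
      rw [finrank_bot]; omega) (by omega)
    have hmax : finrank F V < 2 * (finrank F C + 1) := by omega
    obtain ⟨x, hx, hxO⟩ := hmeet C hC hmax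
    have h1 := one_key hB hn hO hZ hC hmax
    have h2 : ((C : Set V) ∩ O) = ((Submodule.span F {x} : Submodule F V) : Set V) ∩ O := by
      ext v
      constructor
      · rintro ⟨h3, h4⟩
        exact ⟨perp_one hB hO hZ hxO h4 (hC x hx v h3), h4⟩
      · rintro ⟨h3, h4⟩
        refine ⟨?_, h4⟩
        obtain ⟨c, rfl⟩ := Submodule.mem_span_singleton.1 h3
        exact C.smul_mem c hx
    rw [h2, ncard_span_of_mem (Orb.cone hO) hxO, mu_eq hF hB, Module.natCard_eq_pow_finrank (K := F), hCm,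
      Nat.card_eq_fintype_card, hF] at h1
    have hq2 : 2 ≤ q := by
      by_contra hcon
      have : q = 0 ∨ q = 1 := by omega
      rcases this with rfl | rfl <;> omega
    have h3 : isoNum q (finrank F V) = (q ^ finrank F V + 1) * (q ^ (finrank F V - 1) - 1) :=
      (Cfsg.Agent.H450.UF.isoNum_eq q _).2 ⟨m, hm⟩
    have h4 : q ^ (finrank F V - 1) = (q ^ 2) ^ m := by rw [← pow_mul]; congr 1; omega
    rw [h3, h4] at h1
    have h5 : 1 < (q ^ 2) ^ m := Nat.one_lt_pow (by omega) (by linarith only [hF, hq1])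
    have h6 : 0 < q ^ finrank F V + 1 := by positivity
    have h7 : (((q ^ 2 : ℕ) - 1 : ℕ) : ℝ) * (((q ^ finrank F V + 1 : ℕ)) : ℝ) = (O.ncard : ℝ) := by
      rw [h1]
      have e1 : (((q ^ finrank F V + 1) * ((q ^ 2) ^ m - 1) : ℕ) : ℝ) =
          ((q ^ finrank F V + 1 : ℕ) : ℝ) * (((q ^ 2) ^ m - 1 : ℕ) : ℝ) := by push_cast; ring
      have e2 : ((((q ^ 2) ^ m : ℕ) : ℝ) - 1) = (((q ^ 2) ^ m - 1 : ℕ) : ℝ) := by
        rw [Nat.cast_sub (by omega), Nat.cast_one]
      rw [e1, e2]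
      have e3 : (((q ^ 2) ^ m - 1 : ℕ) : ℝ) ≠ 0 := by
        have : (q ^ 2) ^ m - 1 ≠ 0 := by omega
        exact_mod_cast this
      have e4 : ((q ^ finrank F V + 1 : ℕ) : ℝ) ≠ 0 := by
        exact_mod_cast h6.ne'
      field_simp
    have h8 : O.ncard = (q ^ 2 - 1) * (q ^ finrank F V + 1) := by
      have : ((((q ^ 2 - 1) * (q ^ finrank F V + 1) : ℕ)) : ℝ) = (O.ncard : ℝ) := by
        rw [← h7]; push_cast; ring
      exact_mod_cast this.symm
    refine Cfsg.Agent.H450.UF.Ovoid.no_ovoid hB hF rfl (by omega) hO.zero (Orb.cone hO).smul h8 fun z hz => ?_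
    rw [perp_one_inter hB hO hZ hz, ncard_span_of_mem (Orb.cone hO) hz, hF]

end Cfsg.Agent.H449.U
end

-- part: H449/U/Main
section
/-!
# The case of two orbits on the isotropic points (helper449, for S2196)

A rank three point stabiliser `K` of `SU(V)`, `dim V ≥ 6`, `q ≥ 3`, with a function `r ≠ 0` orthogonal to the functions
invariant under the stabilisers of totally isotropic flags cannot have exactly two orbits on the isotropic points.
-/

set_option autoImplicit false
set_option linter.unusedSectionVars false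

namespace Cfsg.Agent.H449.U

open Module Cfsg.Agent.H91.U

variable {F V : Type*} [Field F] [Fintype F] [AddCommGroup V] [Module F V] [FiniteDimensional F V]
  {σ : F →+* F} {B : V →ₛₗ[σ] V →ₗ[F] F}

/-- **No two orbits.** -/
theorem not_two_orb {q : ℕ} (hF : Fintype.card F = q ^ 2) (hq : 3 ≤ q) (hB : HForm B) (hn : 6 ≤ finrank F V)
    {X : Type*} [Fintype X] [MulAction (SIso B) X] [MulAction.IsPretransitive (SIso B) X] (x₀ : X)
    (h3 : Nat.card (MulAction.orbitRel.Quotient (MulAction.stabilizer (SIso B) x₀) X) ≤ 3) {r : X → ℝ}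
    (hr : Orth B r) (hr0 : r ≠ 0) {O : Set V} (hO : Orb (MulAction.stabilizer (SIso B) x₀) O) : False := by
  have hfV : Finite V := Module.finite_of_finite F
  have : Fintype V := Fintype.ofFinite V
  have key : ∀ {O : Set V}, Orb (MulAction.stabilizer (SIso B) x₀) O → ∀ b, ZB B O b → False := by
    intro O hO b hZ
    have hA := aff (x₀ := x₀) hn hB h3 hO hr hr0
    rcases Nat.lt_or_ge 1 b with h1 | h1
    · rcases lt_or_eq_of_le hZ.le with h2 | h2
      · exact mid_false hF hq hB hn hO hA hZ h1 h2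
      · rw [h2] at hZ
        exact hyp_false hF hq hB hn x₀ h3 hO hZ
    · have h2 : b = 1 := by
        have := hZ.pos
        omega
      rw [h2] at hZ
      exact one_false hF hB hn hO hA hZ
  obtain ⟨b, h | h⟩ := exists_zero_b hB hO (aff (x₀ := x₀) hn hB h3 hO hr hr0) (by omega)
  · exact key hO b h
  · exact key hO.co b h

end Cfsg.Agent.H449.U
end

private theorem dce_94d4bcd90512 : _root_.True := by
  try have : _root_.True := by simp only [_root_.Cfsg.Agent.H450.UF.Ovoid.N.eq_1]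
  exact _root_.True.intro
end
end
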